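import Mathlib
set_option linter.all false

/-! Triangle group presentations of `A_4`, `S_4`, `A_5`: in any group, a nontrivial pair `a, b` with
`a ^ 2 = b ^ 3 = (a * b) ^ n = 1` (`n = 3, 4, 5`) generates `A_4`, `S_4`, `A_5`. -/

set_option autoImplicit false

namespace Cfsg.Agent.Lib.VonDyck

open Subgroup

/-- A set `T` containing `1` and closed under left multiplication by `a` and `c`, where `a` and `c` have finite order,
contains the subgroup generated by `a` and `c`. -/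
theorem closure_pair_subset {G : Type*} [Group G] {a c : G} {T : Set G} {m n : ℕ}
    (hm : a ^ (m + 1) = 1) (hn : c ^ (n + 1) = 1) (h1 : (1 : G) ∈ T)
    (ha : ∀ t ∈ T, a * t ∈ T) (hc : ∀ t ∈ T, c * t ∈ T) :
    ((closure {a, c} : Subgroup G) : Set G) ⊆ T := by
  have hapow : ∀ k : ℕ, ∀ t ∈ T, a ^ k * t ∈ T := by
    intro k
    induction k with
    | zero => intro t ht; simpa using ht
    | succ k ih =>
      intro t ht
      rw [pow_succ, mul_assoc]
      exact ih _ (ha t ht)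
  have hcpow : ∀ k : ℕ, ∀ t ∈ T, c ^ k * t ∈ T := by
    intro k
    induction k with
    | zero => intro t ht; simpa using ht
    | succ k ih =>
      intro t ht
      rw [pow_succ, mul_assoc]
      exact ih _ (hc t ht)
  have hainv : a⁻¹ = a ^ m := by
    rw [inv_eq_iff_mul_eq_one, ← pow_succ']; exact hm
  have hcinv : c⁻¹ = c ^ n := by
    rw [inv_eq_iff_mul_eq_one, ← pow_succ']; exact hn
  intro x hx
  refine Subgroup.closure_induction_left (p := fun x _ => x ∈ T) h1 ?_ ?_ hx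
  · rintro y (rfl | rfl) z _ hz
    · exact ha z hz
    · exact hc z hz
  · rintro y (rfl | rfl) z _ hz
    · rw [hainv]; exact hapow m z hz
    · rw [hcinv]; exact hcpow n z hz

/-- Coset enumeration: if finitely many cosets `r i * ⟨c⟩` are permuted by left multiplication by `a` and `c`, the
group generated by `a` and `c` has at most `k * n` elements. -/
theorem card_closure_le {G : Type*} [Group G] {a c : G} {m n k : ℕ}
    (hm : a ^ (m + 1) = 1) (hn : c ^ (n + 1) = 1) (r : Fin k → G) (i0 : Fin k) (h0 : r i0 = 1)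
    (ha : ∀ i, ∃ j, ∃ l : ℕ, a * r i = r j * c ^ l) (hc : ∀ i, ∃ j, ∃ l : ℕ, c * r i = r j * c ^ l) :
    Finite (closure {a, c} : Subgroup G) ∧ Nat.card (closure {a, c} : Subgroup G) ≤ k * (n + 1) := by
  let f : Fin k × Fin (n + 1) → G := fun p => r p.1 * c ^ (p.2 : ℕ)
  have hmem : ∀ j, ∀ l : ℕ, r j * c ^ l ∈ Set.range f := by
    intro j l
    refine ⟨(j, ⟨l % (n + 1), Nat.mod_lt _ (Nat.succ_pos n)⟩), ?_⟩
    show r j * c ^ (l % (n + 1)) = r j * c ^ l
    rw [← pow_eq_pow_mod l hn]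
  have hsub : ((closure {a, c} : Subgroup G) : Set G) ⊆ Set.range f := by
    apply closure_pair_subset hm hn
    · have := hmem i0 0
      simpa [h0] using this
    · rintro _ ⟨⟨i, l⟩, rfl⟩
      obtain ⟨j, l', h⟩ := ha i
      have := hmem j (l' + l)
      rwa [pow_add, ← mul_assoc, ← h, mul_assoc] at this
    · rintro _ ⟨⟨i, l⟩, rfl⟩
      obtain ⟨j, l', h⟩ := hc i
      have := hmem j (l' + l)
      rwa [pow_add, ← mul_assoc, ← h, mul_assoc] at this
  have hfin : (Set.range f).Finite := Set.finite_range f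
  constructor
  · exact (hfin.subset hsub).to_subtype
  · calc Nat.card (closure {a, c} : Subgroup G) ≤ Nat.card (Set.range f) := Nat.card_mono hfin hsub
      _ ≤ Nat.card (Fin k × Fin (n + 1)) := Finite.card_range_le f
      _ = k * (n + 1) := by simp

/-- If `a0, c0` generate `G0` and the pairs `(a0, a), (c0, c)` generate a group of order at most `|G0|`, then
`a0 ↦ a, c0 ↦ c` extends to a homomorphism. -/
theorem exists_hom {G0 G : Type*} [Group G0] [Group G] [Finite G0] {a0 c0 : G0}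
    (hgen : closure {a0, c0} = (⊤ : Subgroup G0)) {a c : G}
    (hfin : Finite (closure {(a0, a), (c0, c)} : Subgroup (G0 × G)))
    (hcard : Nat.card (closure {(a0, a), (c0, c)} : Subgroup (G0 × G)) ≤ Nat.card G0) :
    ∃ φ : G0 →* G, φ a0 = a ∧ φ c0 = c := by
  set K : Subgroup (G0 × G) := closure {(a0, a), (c0, c)} with hK
  let p : K →* G0 := (MonoidHom.fst G0 G).comp K.subtype
  have hmap : K.map (MonoidHom.fst G0 G) = ⊤ := by
    rw [hK, MonoidHom.map_closure, Set.image_pair]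
    exact hgen
  have hsurj : Function.Surjective p := by
    intro x
    have hx : x ∈ K.map (MonoidHom.fst G0 G) := by rw [hmap]; trivial
    obtain ⟨y, hy, rfl⟩ := hx
    exact ⟨⟨y, hy⟩, rfl⟩
  have hbij : Function.Bijective p := by
    have : Nat.card K = Nat.card G0 := le_antisymm hcard (Nat.card_le_card_of_surjective p hsurj)
    exact (Nat.bijective_iff_surjective_and_card p).2 ⟨hsurj, this⟩
  let e : K ≃* G0 := MulEquiv.ofBijective p hbij
  have ha : (a0, a) ∈ K := subset_closure (by simp)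
  have hc : (c0, c) ∈ K := subset_closure (by simp)
  refine ⟨((MonoidHom.snd G0 G).comp K.subtype).comp e.symm.toMonoidHom, ?_, ?_⟩
  · have : e.symm a0 = ⟨(a0, a), ha⟩ := by
      rw [MulEquiv.symm_apply_eq]; rfl
    show (e.symm a0 : G0 × G).2 = a
    rw [this]
  · have : e.symm c0 = ⟨(c0, c), hc⟩ := by
      rw [MulEquiv.symm_apply_eq]; rfl
    show (e.symm c0 : G0 × G).2 = c
    rw [this]

/-! ### Relations -/

section relations

variable {G : Type*} [Group G] {a c : G}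

theorem rel_inv (ha : a ^ 2 = 1) : a⁻¹ = a := by
  rw [inv_eq_iff_mul_eq_one, ← pow_two]; exact ha

theorem rel_aa (ha : a ^ 2 = 1) (x : G) : a * (a * x) = x := by
  rw [← mul_assoc, ← pow_two, ha, one_mul]

theorem rel1 (ha : a ^ 2 = 1) (h3 : (a * c) ^ 3 = 1) : a * (c * a) = c⁻¹ * (a * c⁻¹) := by
  have h : (a * (c * a)) * (c * (a * c)) = 1 := by
    rw [← h3]; simp only [pow_succ, pow_zero, one_mul, mul_assoc]
  rw [mul_eq_one_iff_eq_inv] at h
  rw [h, mul_inv_rev, mul_inv_rev, rel_inv ha, mul_assoc]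

theorem rel2 (ha : a ^ 2 = 1) (h3 : (a * c) ^ 3 = 1) : a * (c⁻¹ * a) = c * (a * c) := by
  have h := congrArg (fun x => x⁻¹) (rel1 ha h3)
  simpa only [mul_inv_rev, inv_inv, rel_inv ha, mul_assoc] using h

theorem rel3 (ha : a ^ 2 = 1) (h3 : (a * c) ^ 3 = 1) :
    a * (c⁻¹ * (c⁻¹ * a)) = c * (a * (c * (c * (a * c)))) := by
  have h : a * (c⁻¹ * (c⁻¹ * a)) = (a * (c⁻¹ * a)) * (a * (c⁻¹ * a)) := by
    simp only [mul_assoc, rel_aa ha]
  rw [h, rel2 ha h3]
  simp only [mul_assoc]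

end relations

/-! ### A group generated by a `(2, 3, 3)` pair -/

theorem card_233 {G : Type*} [Group G] {a c : G} (ha : a ^ 2 = 1) (hc : c ^ 3 = 1) (h3 : (a * c) ^ 3 = 1) :
    Finite (closure {a, c} : Subgroup G) ∧ Nat.card (closure {a, c} : Subgroup G) ≤ 12 := by
  have hcinv : c⁻¹ = c ^ 2 := by rw [inv_eq_iff_mul_eq_one, ← pow_succ']; exact hc
  have h1 : a * (c * a) = c ^ 2 * a * c ^ 2 := by
    rw [rel1 ha h3, hcinv, mul_assoc]
  have h2 : a * (c ^ 2 * a) = c * a * c := by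
    rw [← hcinv, rel2 ha h3, mul_assoc]
  have haa : a * a = 1 := by rw [← pow_two]; exact ha
  refine card_closure_le (m := 1) (n := 2) (k := 4) ha hc ![1, a, c * a, c ^ 2 * a] 0 rfl ?_ ?_
  · intro i
    fin_cases i
    · exact ⟨1, 0, by simp⟩
    · exact ⟨0, 0, by simp [haa]⟩
    · exact ⟨3, 2, by simpa using h1⟩
    · exact ⟨2, 1, by simpa using h2⟩
  · intro i
    fin_cases i
    · exact ⟨0, 1, by simp⟩
    · exact ⟨2, 0, by simp⟩
    · exact ⟨3, 0, by simp [← mul_assoc, pow_two]⟩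
    · refine ⟨1, 0, ?_⟩
      show c * (c ^ 2 * a) = a * c ^ 0
      rw [← mul_assoc, ← pow_succ', hc]; simp

/-! ### A group generated by a `(2, 3, 4)` pair -/

theorem card_234 {G : Type*} [Group G] {a c : G} (ha : a ^ 2 = 1) (hc : c ^ 4 = 1) (h3 : (a * c) ^ 3 = 1) :
    Finite (closure {a, c} : Subgroup G) ∧ Nat.card (closure {a, c} : Subgroup G) ≤ 24 := by
  have hcinv : c⁻¹ = c ^ 3 := by rw [inv_eq_iff_mul_eq_one, ← pow_succ']; exact hc
  have hcinv2 : c⁻¹ * c⁻¹ = c ^ 2 := by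
    rw [hcinv, ← pow_add]
    exact (pow_eq_pow_mod 6 hc)
  have h1 : a * (c * a) = c ^ 3 * a * c ^ 3 := by
    rw [rel1 ha h3, hcinv, mul_assoc]
  have h2 : a * (c ^ 3 * a) = c * a * c := by
    rw [← hcinv, rel2 ha h3, mul_assoc]
  have haa : a * a = 1 := by rw [← pow_two]; exact ha
  have h4 : c * (a * (c ^ 2 * a)) = (a * (c ^ 2 * a)) * c ^ 3 := by
    have h := rel3 ha h3
    rw [← mul_assoc c⁻¹, hcinv2] at h
    rw [← hcinv, eq_mul_inv_iff_mul_eq]
    conv_rhs => rw [h]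
    simp only [pow_two, mul_assoc]
  refine card_closure_le (m := 1) (n := 3) (k := 6) ha hc
    ![1, a, c * a, c ^ 2 * a, c ^ 3 * a, a * (c ^ 2 * a)] 0 rfl ?_ ?_
  · intro i
    fin_cases i
    · exact ⟨1, 0, by simp⟩
    · exact ⟨0, 0, by simp [haa]⟩
    · exact ⟨4, 3, by simpa using h1⟩
    · exact ⟨5, 0, by simp⟩
    · exact ⟨2, 1, by simpa using h2⟩
    · exact ⟨3, 0, by simp [rel_aa ha]⟩
  · intro i
    fin_cases i
    · exact ⟨0, 1, by simp⟩
    · exact ⟨2, 0, by simp⟩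
    · exact ⟨3, 0, by simp [← mul_assoc, pow_two]⟩
    · exact ⟨4, 0, by simp [← mul_assoc, ← pow_succ']⟩
    · refine ⟨1, 0, ?_⟩
      show c * (c ^ 3 * a) = a * c ^ 0
      rw [← mul_assoc, ← pow_succ', hc]; simp
    · exact ⟨5, 3, h4⟩

/-! ### A group generated by a `(2, 3, 5)` pair -/

theorem card_235 {G : Type*} [Group G] {a c : G} (ha : a ^ 2 = 1) (hc : c ^ 5 = 1) (h3 : (a * c) ^ 3 = 1) :
    Finite (closure {a, c} : Subgroup G) ∧ Nat.card (closure {a, c} : Subgroup G) ≤ 60 := by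
  have hcinv : c⁻¹ = c ^ 4 := by rw [inv_eq_iff_mul_eq_one, ← pow_succ']; exact hc
  have hcinv2 : c⁻¹ * c⁻¹ = c ^ 3 := by
    rw [hcinv, ← pow_add]
    exact (pow_eq_pow_mod 8 hc)
  have h1 : a * (c * a) = c ^ 4 * a * c ^ 4 := by
    rw [rel1 ha h3, hcinv, mul_assoc]
  have h2 : a * (c ^ 4 * a) = c * a * c := by
    rw [← hcinv, rel2 ha h3, mul_assoc]
  have h3' : a * (c ^ 3 * a) = (c * (a * (c ^ 2 * a))) * c := by
    have h := rel3 ha h3
    rw [← mul_assoc c⁻¹, hcinv2] at h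
    rw [h]
    simp only [pow_two, mul_assoc]
  have haa : a * a = 1 := by rw [← pow_two]; exact ha
  have h4 : a * (c * (a * (c ^ 2 * a))) = c ^ 3 * a * c ^ 4 := by
    rw [← hcinv, eq_mul_inv_iff_mul_eq, mul_assoc, ← h3', rel_aa ha]
  -- `a * y_4 = y_2 * c`
  have h5 : a * (c ^ 4 * (a * (c ^ 2 * a))) = c ^ 2 * (a * (c ^ 2 * a)) * c := by
    have : a * (c ^ 4 * (a * (c ^ 2 * a))) = (a * (c ^ 4 * a)) * (c ^ 2 * a) := by simp only [mul_assoc]
    rw [this, h2]
    have : c * a * c * (c ^ 2 * a) = c * (a * (c ^ 3 * a)) := by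
      simp only [mul_assoc, pow_succ, pow_zero, one_mul]
    rw [this, h3']
    simp only [mul_assoc, pow_succ, pow_zero, one_mul]
  have h6 : a * (c ^ 2 * (a * (c ^ 2 * a))) = c ^ 4 * (a * (c ^ 2 * a)) * c ^ 4 := by
    rw [← hcinv, eq_mul_inv_iff_mul_eq, mul_assoc, hcinv, ← h5, rel_aa ha]
  -- `c * z = z * c⁻¹`
  have h7 : c * (a * (c ^ 3 * (a * (c ^ 2 * a)))) = (a * (c ^ 3 * (a * (c ^ 2 * a)))) * c ^ 4 := by
    rw [← hcinv, eq_mul_inv_iff_mul_eq]
    symm
    calc a * (c ^ 3 * (a * (c ^ 2 * a))) = (a * (c ^ 3 * a)) * (c ^ 2 * a) := by simp only [mul_assoc]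
      _ = c * (a * (c ^ 2 * (a * (c ^ 3 * a)))) := by
        conv_lhs => rw [h3']
        simp only [mul_assoc, pow_succ, pow_zero, one_mul]
      _ = c * (a * (c ^ 3 * (a * (c ^ 2 * a)))) * c := by
        rw [h3']
        simp only [mul_assoc, pow_succ, pow_zero, one_mul]
  refine card_closure_le (m := 1) (n := 4) (k := 12) ha hc
    ![1, a, c * a, c ^ 2 * a, c ^ 3 * a, c ^ 4 * a, a * (c ^ 2 * a), c * (a * (c ^ 2 * a)),
      c ^ 2 * (a * (c ^ 2 * a)), c ^ 3 * (a * (c ^ 2 * a)), c ^ 4 * (a * (c ^ 2 * a)),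
      a * (c ^ 3 * (a * (c ^ 2 * a)))] 0 rfl ?_ ?_
  · intro i
    fin_cases i
    · exact ⟨1, 0, by simp⟩
    · exact ⟨0, 0, by simp [haa]⟩
    · exact ⟨5, 4, by simpa using h1⟩
    · exact ⟨6, 0, by simp⟩
    · exact ⟨7, 1, by simpa using h3'⟩
    · exact ⟨2, 1, by simpa using h2⟩
    · exact ⟨3, 0, by simp [rel_aa ha]⟩
    · exact ⟨4, 4, h4⟩
    · exact ⟨10, 4, h6⟩
    · exact ⟨11, 0, by simp⟩
    · exact ⟨8, 1, by simpa using h5⟩
    · exact ⟨9, 0, by simp [rel_aa ha]⟩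
  · intro i
    fin_cases i
    · exact ⟨0, 1, by simp⟩
    · exact ⟨2, 0, by simp⟩
    · exact ⟨3, 0, by simp [← mul_assoc, pow_two]⟩
    · exact ⟨4, 0, by simp [← mul_assoc, ← pow_succ']⟩
    · exact ⟨5, 0, by simp [← mul_assoc, ← pow_succ']⟩
    · refine ⟨1, 0, ?_⟩
      show c * (c ^ 4 * a) = a * c ^ 0
      rw [← mul_assoc, ← pow_succ', hc]; simp
    · exact ⟨7, 0, by simp⟩
    · exact ⟨8, 0, by simp [← mul_assoc, pow_two]⟩
    · exact ⟨9, 0, by simp [← mul_assoc, ← pow_succ']⟩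
    · exact ⟨10, 0, by simp [← mul_assoc, ← pow_succ']⟩
    · refine ⟨6, 0, ?_⟩
      show c * (c ^ 4 * (a * (c ^ 2 * a))) = (a * (c ^ 2 * a)) * c ^ 0
      rw [← mul_assoc c, ← pow_succ', hc]; simp
    · exact ⟨11, 4, h7⟩

/-! ### The alternating and symmetric groups -/

theorem closure_pair_mul {G : Type*} [Group G] (a b : G) : closure {a, a * b} = closure ({a, b} : Set G) := by
  apply le_antisymm
  · rw [closure_le]
    have ha : a ∈ closure ({a, b} : Set G) := subset_closure (by simp)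
    have hb : b ∈ closure ({a, b} : Set G) := subset_closure (by simp)
    rintro x (rfl | rfl)
    · exact ha
    · exact mul_mem ha hb
  · rw [closure_le]
    have ha : a ∈ closure ({a, a * b} : Set G) := subset_closure (by simp)
    have hb : a * b ∈ closure ({a, a * b} : Set G) := subset_closure (by simp)
    rintro x (rfl | rfl)
    · exact ha
    · have := mul_mem (inv_mem ha) hb
      rwa [inv_mul_cancel_left] at this

/-- The element `(0 1)(2 3)` of `A_5`. -/
def a5 : alternatingGroup (Fin 5) := ⟨Equiv.swap 0 1 * Equiv.swap 2 3, Equiv.Perm.mem_alternatingGroup.2 (by decide)⟩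

/-- A 3-cycle `b` of `A_5` with `a5 * b` a five-cycle. -/
def b5 : alternatingGroup (Fin 5) := ⟨Equiv.swap 0 2 * Equiv.swap 2 4, Equiv.Perm.mem_alternatingGroup.2 (by decide)⟩

theorem a5_sq : a5 ^ 2 = 1 := by decide
theorem b5_pow : b5 ^ 3 = 1 := by decide
theorem ab5_pow : (a5 * b5) ^ 5 = 1 := by decide
theorem a5_ne : a5 ≠ 1 := by decide
theorem b5_ne : b5 ≠ 1 := by decide
theorem ab5_ne : a5 * b5 ≠ 1 := by decide

theorem card_alternating5 : Nat.card (alternatingGroup (Fin 5)) = 60 := by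
  rw [nat_card_alternatingGroup]
  simp [Nat.factorial]

theorem closure_a5_b5 : closure {a5, b5} = (⊤ : Subgroup (alternatingGroup (Fin 5))) := by
  set H : Subgroup (alternatingGroup (Fin 5)) := closure {a5, b5} with hH
  have ha : a5 ∈ H := subset_closure (by simp)
  have hb : b5 ∈ H := subset_closure (by simp)
  have hab : a5 * b5 ∈ H := mul_mem ha hb
  have h2 : 2 ∣ Nat.card H := by
    have h := orderOf_dvd_natCard (⟨a5, ha⟩ : H)
    rwa [orderOf_mk, orderOf_eq_prime a5_sq a5_ne] at h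
  have h3 : 3 ∣ Nat.card H := by
    have h := orderOf_dvd_natCard (⟨b5, hb⟩ : H)
    rwa [orderOf_mk, orderOf_eq_prime b5_pow b5_ne] at h
  have h5 : 5 ∣ Nat.card H := by
    have : Fact (Nat.Prime 5) := ⟨by norm_num⟩
    have h := orderOf_dvd_natCard (⟨a5 * b5, hab⟩ : H)
    rwa [orderOf_mk, orderOf_eq_prime ab5_pow ab5_ne] at h
  have h30 : 30 ∣ Nat.card H := by omega
  have hidx : H.index * Nat.card H = 60 := by
    rw [H.index_mul_card, card_alternating5]
  obtain ⟨k, hk⟩ := h30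
  have hi : H.index = 1 ∨ H.index = 2 := by
    rw [hk] at hidx
    have hk0 : k * H.index = 2 := by nlinarith
    have : H.index ∣ 2 := ⟨k, by rw [mul_comm, mul_comm k]; linarith⟩
    exact (Nat.dvd_prime Nat.prime_two).1 this
  rcases hi with hi | hi
  · exact index_eq_one.1 hi
  · have : H.Normal := normal_of_index_eq_two hi
    rcases this.eq_bot_or_eq_top with h | h
    · exfalso
      rw [h] at ha
      exact a5_ne (mem_bot.1 ha)
    · exact h

/-- The element `(0 1)(2 3)` of `A_4`. -/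
def a4 : alternatingGroup (Fin 4) := ⟨Equiv.swap 0 1 * Equiv.swap 2 3, Equiv.Perm.mem_alternatingGroup.2 (by decide)⟩

/-- The 3-cycle `(0 1 2)` of `A_4`. -/
def b4 : alternatingGroup (Fin 4) := ⟨Equiv.swap 0 1 * Equiv.swap 1 2, Equiv.Perm.mem_alternatingGroup.2 (by decide)⟩

theorem a4_sq : a4 ^ 2 = 1 := by decide
theorem b4_pow : b4 ^ 3 = 1 := by decide
theorem ab4_pow : (a4 * b4) ^ 3 = 1 := by decide
theorem a4_ne : a4 ≠ 1 := by decide
theorem b4_ne : b4 ≠ 1 := by decide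

theorem card_alternating4 : Nat.card (alternatingGroup (Fin 4)) = 12 := by
  rw [nat_card_alternatingGroup]
  simp [Nat.factorial]

theorem card_perm4 : Nat.card (Equiv.Perm (Fin 4)) = 24 := by
  rw [Nat.card_perm]
  simp [Nat.factorial]

/-- The transposition `(0 1)` of `S_4`. -/
def s4 : Equiv.Perm (Fin 4) := Equiv.swap 0 1

/-- A 3-cycle of `S_4` such that `s4 * t4` is a 4-cycle. -/
def t4 : Equiv.Perm (Fin 4) := Equiv.swap 0 2 * Equiv.swap 2 3

theorem s4_sq : s4 ^ 2 = 1 := by decide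
theorem t4_pow : t4 ^ 3 = 1 := by decide
theorem st4_pow : (s4 * t4) ^ 4 = 1 := by decide
theorem st4_ne : (s4 * t4) ^ 2 ≠ 1 := by decide

set_option maxRecDepth 100000 in
theorem mem_words_a4 : ∀ x : alternatingGroup (Fin 4), ∃ i : Fin 3, ∃ j : Fin 2, ∃ k : Fin 3,
    x = b4 ^ (i : ℕ) * a4 ^ (j : ℕ) * b4 ^ (k : ℕ) := by
  decide +kernel

theorem closure_a4_b4 : closure {a4, b4} = (⊤ : Subgroup (alternatingGroup (Fin 4))) := by
  rw [eq_top_iff]
  intro x _
  have ha : a4 ∈ closure {a4, b4} := subset_closure (by simp)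
  have hb : b4 ∈ closure {a4, b4} := subset_closure (by simp)
  obtain ⟨i, j, k, rfl⟩ := mem_words_a4 x
  exact mul_mem (mul_mem (pow_mem hb _) (pow_mem ha _)) (pow_mem hb _)

theorem mem_words_s4 : ∀ x : Equiv.Perm (Fin 4), ∃ i : Fin 4, ∃ j : Fin 2, ∃ k : Fin 3, ∃ l : Fin 4,
    x = (s4 * t4) ^ (i : ℕ) * s4 ^ (j : ℕ) * (s4 * t4) ^ (2 * k : ℕ) * s4 ^ (j : ℕ) * (s4 * t4) ^ (l : ℕ) ∨
    x = (s4 * t4) ^ (i : ℕ) * s4 * (s4 * t4) ^ (l : ℕ) := by
  decide +kernel

theorem closure_s4_t4 : closure {s4, t4} = (⊤ : Subgroup (Equiv.Perm (Fin 4))) := by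
  rw [eq_top_iff]
  intro x _
  have ha : s4 ∈ closure {s4, t4} := subset_closure (by simp)
  have hb : t4 ∈ closure {s4, t4} := subset_closure (by simp)
  have hc := mul_mem ha hb
  obtain ⟨i, j, k, l, rfl | rfl⟩ := mem_words_s4 x
  · exact mul_mem (mul_mem (mul_mem (mul_mem (pow_mem hc _) (pow_mem ha _)) (pow_mem hc _)) (pow_mem ha _))
      (pow_mem hc _)
  · exact mul_mem (mul_mem (pow_mem hc _) ha) (pow_mem hc _)

theorem normal_a4 : ∀ x : alternatingGroup (Fin 4), x ≠ 1 → ∃ y z : alternatingGroup (Fin 4),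
    (y * x * y⁻¹) * (z * x * z⁻¹)⁻¹ = a4 := by
  decide +kernel

theorem normal_s4 : ∀ x : Equiv.Perm (Fin 4), x ≠ 1 → ∃ y z : Equiv.Perm (Fin 4),
    (y * x * y⁻¹) * (z * x * z⁻¹) = (s4 * t4) ^ 2 := by
  decide +kernel


/-! ### Main results -/

section main

variable {G : Type*} [Group G] {a b : G}

theorem exists_hom_alternatingFive (ha : a ^ 2 = 1) (hb : b ^ 3 = 1) (hab : (a * b) ^ 5 = 1) :
    ∃ φ : alternatingGroup (Fin 5) →* G, φ a5 = a ∧ φ b5 = b := by
  have hA : ((a5, a) : alternatingGroup (Fin 5) × G) ^ 2 = 1 := by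
    rw [Prod.pow_mk, a5_sq, ha, Prod.mk_one_one]
  have hB : ((a5 * b5, a * b) : alternatingGroup (Fin 5) × G) ^ 5 = 1 := by
    rw [Prod.pow_mk, ab5_pow, hab, Prod.mk_one_one]
  have hC : (((a5, a) : alternatingGroup (Fin 5) × G) * (a5 * b5, a * b)) ^ 3 = 1 := by
    rw [Prod.mk_mul_mk, Prod.pow_mk, rel_aa a5_sq, rel_aa ha, b5_pow, hb, Prod.mk_one_one]
  obtain ⟨h1, h2⟩ := card_235 hA hB hC
  have hgen : closure {a5, a5 * b5} = (⊤ : Subgroup (alternatingGroup (Fin 5))) := by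
    rw [closure_pair_mul, closure_a5_b5]
  obtain ⟨φ, hφ1, hφ2⟩ := exists_hom hgen h1 (by rw [card_alternating5]; exact h2)
  refine ⟨φ, hφ1, ?_⟩
  rw [map_mul, hφ1] at hφ2
  exact mul_left_cancel hφ2

theorem exists_hom_permFour (ha : a ^ 2 = 1) (hb : b ^ 3 = 1) (hab : (a * b) ^ 4 = 1) :
    ∃ φ : Equiv.Perm (Fin 4) →* G, φ s4 = a ∧ φ t4 = b := by
  have hA : ((s4, a) : Equiv.Perm (Fin 4) × G) ^ 2 = 1 := by
    rw [Prod.pow_mk, s4_sq, ha, Prod.mk_one_one]
  have hB : ((s4 * t4, a * b) : Equiv.Perm (Fin 4) × G) ^ 4 = 1 := by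
    rw [Prod.pow_mk, st4_pow, hab, Prod.mk_one_one]
  have hC : (((s4, a) : Equiv.Perm (Fin 4) × G) * (s4 * t4, a * b)) ^ 3 = 1 := by
    rw [Prod.mk_mul_mk, Prod.pow_mk, rel_aa s4_sq, rel_aa ha, t4_pow, hb, Prod.mk_one_one]
  obtain ⟨h1, h2⟩ := card_234 hA hB hC
  have hgen : closure {s4, s4 * t4} = (⊤ : Subgroup (Equiv.Perm (Fin 4))) := by
    rw [closure_pair_mul, closure_s4_t4]
  obtain ⟨φ, hφ1, hφ2⟩ := exists_hom hgen h1 (by rw [card_perm4]; exact h2)
  refine ⟨φ, hφ1, ?_⟩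
  rw [map_mul, hφ1] at hφ2
  exact mul_left_cancel hφ2

theorem exists_hom_alternatingFour (ha : a ^ 2 = 1) (hb : b ^ 3 = 1) (hab : (a * b) ^ 3 = 1) :
    ∃ φ : alternatingGroup (Fin 4) →* G, φ a4 = a ∧ φ b4 = b := by
  have hA : ((a4, a) : alternatingGroup (Fin 4) × G) ^ 2 = 1 := by
    rw [Prod.pow_mk, a4_sq, ha, Prod.mk_one_one]
  have hB : ((b4, b) : alternatingGroup (Fin 4) × G) ^ 3 = 1 := by
    rw [Prod.pow_mk, b4_pow, hb, Prod.mk_one_one]
  have hC : (((a4, a) : alternatingGroup (Fin 4) × G) * (b4, b)) ^ 3 = 1 := by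
    rw [Prod.mk_mul_mk, Prod.pow_mk, ab4_pow, hab, Prod.mk_one_one]
  obtain ⟨h1, h2⟩ := card_233 hA hB hC
  exact exists_hom closure_a4_b4 h1 (by rw [card_alternating4]; exact h2)

/-- A homomorphism from `G0 = ⟨a0, b0⟩` which is injective gives an isomorphism of `G0` with the subgroup generated by
the images of the generators. -/
theorem nonempty_equiv_closure {G0 : Type*} [Group G0] {a0 b0 : G0} (hgen : closure {a0, b0} = (⊤ : Subgroup G0))
    (φ : G0 →* G) (h1 : φ a0 = a) (h2 : φ b0 = b) (hinj : Function.Injective φ) :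
    Nonempty ((closure {a, b} : Subgroup G) ≃* G0) := by
  have hr : closure {a, b} = φ.range := by
    rw [MonoidHom.range_eq_map, ← hgen, MonoidHom.map_closure, Set.image_pair, h1, h2]
  rw [hr]
  exact ⟨(MonoidHom.ofInjective hinj).symm⟩

/-- In any group, elements `a, b`, not both trivial, with `a² = b³ = (ab)⁵ = 1` generate a group isomorphic to
`A_5`. -/
theorem closure_equiv_alternatingFive (ha : a ^ 2 = 1) (hb : b ^ 3 = 1) (hab : (a * b) ^ 5 = 1)
    (hne : a ≠ 1 ∨ b ≠ 1) : Nonempty ((closure {a, b} : Subgroup G) ≃* alternatingGroup (Fin 5)) := by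
  obtain ⟨φ, h1, h2⟩ := exists_hom_alternatingFive ha hb hab
  refine nonempty_equiv_closure closure_a5_b5 φ h1 h2 ?_
  rw [← MonoidHom.ker_eq_bot_iff]
  rcases φ.normal_ker.eq_bot_or_eq_top with h | h
  · exact h
  · exfalso
    rcases hne with hne | hne
    · apply hne
      rw [← h1, ← MonoidHom.mem_ker, h]; trivial
    · apply hne
      rw [← h2, ← MonoidHom.mem_ker, h]; trivial

/-- In any group, elements `a, b` with `a² = b³ = (ab)⁴ = 1` and `(ab)² ≠ 1` generate a group isomorphic to `S_4`. -/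
theorem closure_equiv_permFour (ha : a ^ 2 = 1) (hb : b ^ 3 = 1) (hab : (a * b) ^ 4 = 1)
    (hne : (a * b) ^ 2 ≠ 1) : Nonempty ((closure {a, b} : Subgroup G) ≃* Equiv.Perm (Fin 4)) := by
  obtain ⟨φ, h1, h2⟩ := exists_hom_permFour ha hb hab
  refine nonempty_equiv_closure closure_s4_t4 φ h1 h2 ?_
  rw [injective_iff_map_eq_one]
  intro x hx
  by_contra hx1
  obtain ⟨y, z, h⟩ := normal_s4 x hx1
  apply hne
  have := congrArg φ h
  rw [← h1, ← h2, ← map_mul, ← map_pow, ← this]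
  simp [hx]

/-- In any group, elements `a, b` with `a² = b³ = (ab)³ = 1` and `a ≠ 1` generate a group isomorphic to `A_4`. -/
theorem closure_equiv_alternatingFour (ha : a ^ 2 = 1) (hb : b ^ 3 = 1) (hab : (a * b) ^ 3 = 1)
    (hne : a ≠ 1) : Nonempty ((closure {a, b} : Subgroup G) ≃* alternatingGroup (Fin 4)) := by
  obtain ⟨φ, h1, h2⟩ := exists_hom_alternatingFour ha hb hab
  refine nonempty_equiv_closure closure_a4_b4 φ h1 h2 ?_
  rw [injective_iff_map_eq_one]
  intro x hx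
  by_contra hx1
  obtain ⟨y, z, h⟩ := normal_a4 x hx1
  apply hne
  have := congrArg φ h
  rw [← h1, ← this]
  simp [hx]

end main

end Cfsg.Agent.Lib.VonDyck
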