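import Mathlib
set_option linter.all false

/-!
# Recognition of dihedral and (generalized) quaternion groups

`DihedralGroup m` and `QuaternionGroup m` are recognised from a pair of elements satisfying the usual relations.
Everything is stated without finiteness except where the order of the group is used.
-/

set_option autoImplicit false

namespace Cfsg.Agent.Lib.DihedralRecog

variable {G : Type*} [Group G]

/-- The power map `i ↦ r ^ i` from `ZMod m` for an element with `r ^ m = 1`. -/
def zmodPowHom {m : ℕ} (r : G) (hr : r ^ m = 1) : ZMod m →+ Additive G :=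
  ZMod.lift m ⟨zmultiplesHom (Additive G) (Additive.ofMul r), by
    simp only [zmultiplesHom_apply, natCast_zsmul]
    rw [← ofMul_pow, hr, ofMul_one]⟩

/-- The power map `i ↦ r ^ i` from `ZMod m`, as a plain function. -/
def zpw {m : ℕ} (r : G) (hr : r ^ m = 1) (i : ZMod m) : G := (zmodPowHom r hr i).toMul

theorem zpw_add {m : ℕ} (r : G) (hr : r ^ m = 1) (i j : ZMod m) :
    zpw r hr (i + j) = zpw r hr i * zpw r hr j := by
  simp [zpw, map_add]

theorem zpw_zero {m : ℕ} (r : G) (hr : r ^ m = 1) : zpw r hr 0 = 1 := by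
  simp [zpw]

theorem zpw_neg {m : ℕ} (r : G) (hr : r ^ m = 1) (i : ZMod m) :
    zpw r hr (-i) = (zpw r hr i)⁻¹ := by
  simp [zpw]

theorem zpw_sub {m : ℕ} (r : G) (hr : r ^ m = 1) (i j : ZMod m) :
    zpw r hr (i - j) = zpw r hr i * (zpw r hr j)⁻¹ := by
  rw [sub_eq_add_neg, zpw_add, zpw_neg]

theorem zpw_intCast {m : ℕ} (r : G) (hr : r ^ m = 1) (i : ℤ) :
    zpw r hr (i : ZMod m) = r ^ i := by
  unfold zpw zmodPowHom
  erw [ZMod.lift_coe]
  simp [zmultiplesHom_apply]

theorem zpw_natCast {m : ℕ} (r : G) (hr : r ^ m = 1) (i : ℕ) :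
    zpw r hr (i : ZMod m) = r ^ i := by
  have := zpw_intCast r hr (i : ℤ)
  simpa using this

theorem zpw_one {m : ℕ} (r : G) (hr : r ^ m = 1) : zpw r hr 1 = r := by
  have := zpw_natCast r hr 1
  simpa using this

theorem zpw_mem {m : ℕ} (r : G) (hr : r ^ m = 1) (i : ZMod m) :
    zpw r hr i ∈ Subgroup.zpowers r := by
  obtain ⟨i, rfl⟩ := ZMod.intCast_surjective i
  rw [zpw_intCast]
  exact Subgroup.zpow_mem_zpowers r i

theorem zpw_inj {m : ℕ} (r : G) (hr : r ^ m = 1) (ho : orderOf r = m) (i j : ZMod m)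
    (h : zpw r hr i = zpw r hr j) : i = j := by
  obtain ⟨i, rfl⟩ := ZMod.intCast_surjective i
  obtain ⟨j, rfl⟩ := ZMod.intCast_surjective j
  rw [zpw_intCast, zpw_intCast, zpow_eq_zpow_iff_modEq, ho] at h
  exact (ZMod.intCast_eq_intCast_iff i j m).2 h

/-- An element inverting `r` inverts all powers of `r`. -/
theorem conj_zpw {m : ℕ} (r s : G) (hr : r ^ m = 1) (hsr : s * r * s⁻¹ = r⁻¹) (i : ZMod m) :
    s * zpw r hr i = zpw r hr (-i) * s := by
  obtain ⟨i, rfl⟩ := ZMod.intCast_surjective i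
  have h1 : s * r ^ i * s⁻¹ = (r ^ i)⁻¹ := by
    rw [← conj_zpow, hsr, inv_zpow]
  rw [zpw_neg, zpw_intCast, ← h1]
  group

/-- The homomorphism from `DihedralGroup m` given by `r` with `r ^ m = 1` and an involution (or identity) `s`
inverting `r`. It maps `r i` to `r ^ i` and `sr i` to `s * r ^ i`. -/
def dihedralHom {m : ℕ} (r s : G) (hr : r ^ m = 1) (hs : s * s = 1) (hsr : s * r * s⁻¹ = r⁻¹) :
    DihedralGroup m →* G where
  toFun
    | .r i => zpw r hr i
    | .sr i => s * zpw r hr i
  map_one' := by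
    rw [DihedralGroup.one_def]
    exact zpw_zero r hr
  map_mul' := by
    rintro (i | i) (j | j)
    · rw [DihedralGroup.r_mul_r]
      exact zpw_add r hr i j
    · rw [DihedralGroup.r_mul_sr]
      show s * zpw r hr (j - i) = zpw r hr i * (s * zpw r hr j)
      have h := conj_zpw r s hr hsr (-i)
      rw [neg_neg] at h
      rw [← mul_assoc, ← h, mul_assoc, ← zpw_add, neg_add_eq_sub]
    · rw [DihedralGroup.sr_mul_r]
      show s * zpw r hr (i + j) = s * zpw r hr i * zpw r hr j
      rw [zpw_add, mul_assoc]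
    · rw [DihedralGroup.sr_mul_sr]
      show zpw r hr (j - i) = s * zpw r hr i * (s * zpw r hr j)
      rw [conj_zpw r s hr hsr i, mul_assoc, ← mul_assoc s, hs, one_mul, ← zpw_add, neg_add_eq_sub]

theorem dihedralHom_r {m : ℕ} (r s : G) (hr : r ^ m = 1) (hs : s * s = 1)
    (hsr : s * r * s⁻¹ = r⁻¹) (i : ZMod m) :
    dihedralHom r s hr hs hsr (.r i) = zpw r hr i := rfl

theorem dihedralHom_sr {m : ℕ} (r s : G) (hr : r ^ m = 1) (hs : s * s = 1)
    (hsr : s * r * s⁻¹ = r⁻¹) (i : ZMod m) :
    dihedralHom r s hr hs hsr (.sr i) = s * zpw r hr i := rfl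

theorem dihedralHom_injective {m : ℕ} (r s : G) (hr : r ^ m = 1) (hs : s * s = 1)
    (hsr : s * r * s⁻¹ = r⁻¹) (ho : orderOf r = m) (hns : s ∉ Subgroup.zpowers r) :
    Function.Injective (dihedralHom r s hr hs hsr) := by
  rw [injective_iff_map_eq_one]
  rintro (i | i) h
  · rw [dihedralHom_r, ← zpw_zero r hr] at h
    rw [zpw_inj r hr ho _ _ h, DihedralGroup.one_def]
  · rw [dihedralHom_sr] at h
    exfalso
    apply hns
    rw [mul_eq_one_iff_eq_inv] at h
    rw [h]
    exact inv_mem (zpw_mem r hr i)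

/-- The homomorphism from `QuaternionGroup m` given by `a` with `a ^ (2 * m) = 1` and `x` inverting `a` with
`x * x = a ^ m`. It maps `a i` to `a ^ i` and `xa i` to `x * a ^ i`. -/
def quaternionHom {m : ℕ} (a x : G) (ha : a ^ (2 * m) = 1) (hx : x * x = a ^ m)
    (hxa : x * a * x⁻¹ = a⁻¹) : QuaternionGroup m →* G where
  toFun
    | .a i => zpw a ha i
    | .xa i => x * zpw a ha i
  map_one' := by
    rw [QuaternionGroup.one_def]
    exact zpw_zero a ha
  map_mul' := by
    rintro (i | i) (j | j)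
    · rw [QuaternionGroup.a_mul_a]
      exact zpw_add a ha i j
    · rw [QuaternionGroup.a_mul_xa]
      show x * zpw a ha (j - i) = zpw a ha i * (x * zpw a ha j)
      have h := conj_zpw a x ha hxa (-i)
      rw [neg_neg] at h
      rw [← mul_assoc, ← h, mul_assoc, ← zpw_add, neg_add_eq_sub]
    · rw [QuaternionGroup.xa_mul_a]
      show x * zpw a ha (i + j) = x * zpw a ha i * zpw a ha j
      rw [zpw_add, mul_assoc]
    · rw [QuaternionGroup.xa_mul_xa]
      show zpw a ha ((m : ZMod (2 * m)) + j - i) = x * zpw a ha i * (x * zpw a ha j)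
      rw [conj_zpw a x ha hxa i, mul_assoc, ← mul_assoc x, hx, ← zpw_natCast a ha m, ← zpw_add,
        ← zpw_add]
      congr 1
      ring

theorem quaternionHom_a {m : ℕ} (a x : G) (ha : a ^ (2 * m) = 1) (hx : x * x = a ^ m)
    (hxa : x * a * x⁻¹ = a⁻¹) (i : ZMod (2 * m)) :
    quaternionHom a x ha hx hxa (.a i) = zpw a ha i := rfl

theorem quaternionHom_xa {m : ℕ} (a x : G) (ha : a ^ (2 * m) = 1) (hx : x * x = a ^ m)
    (hxa : x * a * x⁻¹ = a⁻¹) (i : ZMod (2 * m)) :
    quaternionHom a x ha hx hxa (.xa i) = x * zpw a ha i := rfl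

theorem quaternionHom_injective {m : ℕ} (a x : G) (ha : a ^ (2 * m) = 1) (hx : x * x = a ^ m)
    (hxa : x * a * x⁻¹ = a⁻¹) (ho : orderOf a = 2 * m) (hns : x ∉ Subgroup.zpowers a) :
    Function.Injective (quaternionHom a x ha hx hxa) := by
  rw [injective_iff_map_eq_one]
  rintro (i | i) h
  · rw [quaternionHom_a, ← zpw_zero a ha] at h
    rw [zpw_inj a ha ho _ _ h, QuaternionGroup.one_def]
  · rw [quaternionHom_xa] at h
    exfalso
    apply hns
    rw [mul_eq_one_iff_eq_inv] at h
    rw [h]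
    exact inv_mem (zpw_mem a ha i)

theorem nat_card_quaternion (m : ℕ) [NeZero m] : Nat.card (QuaternionGroup m) = 4 * m := by
  rw [Nat.card_eq_fintype_card, QuaternionGroup.card]

/-- Recognition of a finite dihedral group of order `2 * m` by generators. -/
theorem dihedral_of_generators {m : ℕ} (hm : m ≠ 0) (r s : G) (hr : orderOf r = m)
    (hs : s * s = 1) (hsr : s * r * s⁻¹ = r⁻¹) (hns : s ∉ Subgroup.zpowers r)
    (hcard : Nat.card G = 2 * m) : Nonempty (G ≃* DihedralGroup m) := by
  have hr' : r ^ m = 1 := hr ▸ pow_orderOf_eq_one r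
  haveI : NeZero m := ⟨hm⟩
  haveI : Finite G := Nat.finite_of_card_ne_zero (by rw [hcard]; positivity)
  have hinj := dihedralHom_injective r s hr' hs hsr hr hns
  have hbij : Function.Bijective (dihedralHom r s hr' hs hsr) := by
    rw [Nat.bijective_iff_injective_and_card]
    exact ⟨hinj, by rw [DihedralGroup.nat_card, hcard]⟩
  exact ⟨(MulEquiv.ofBijective _ hbij).symm⟩

/-- Recognition of a finite (generalized) quaternion group of order `4 * m` by generators. -/
theorem quaternion_of_generators {m : ℕ} (hm : m ≠ 0) (a x : G) (ha : orderOf a = 2 * m)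
    (hx : x * x = a ^ m) (hxa : x * a * x⁻¹ = a⁻¹) (hns : x ∉ Subgroup.zpowers a)
    (hcard : Nat.card G = 4 * m) : Nonempty (G ≃* QuaternionGroup m) := by
  have ha' : a ^ (2 * m) = 1 := ha ▸ pow_orderOf_eq_one a
  haveI : NeZero m := ⟨hm⟩
  haveI : Finite G := Nat.finite_of_card_ne_zero (by rw [hcard]; positivity)
  have hinj := quaternionHom_injective a x ha' hx hxa ha hns
  have hbij : Function.Bijective (quaternionHom a x ha' hx hxa) := by
    rw [Nat.bijective_iff_injective_and_card]
    exact ⟨hinj, by rw [nat_card_quaternion, hcard]⟩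
  exact ⟨(MulEquiv.ofBijective _ hbij).symm⟩

/-- Version of `dihedral_of_generators` for a subgroup, with all hypotheses in the ambient group. -/
theorem subgroup_dihedral_of_generators {m : ℕ} (hm : m ≠ 0) (H : Subgroup G) (r s : G)
    (hrH : r ∈ H) (hsH : s ∈ H) (hr : orderOf r = m) (hs : s * s = 1)
    (hsr : s * r * s⁻¹ = r⁻¹) (hns : s ∉ Subgroup.zpowers r) (hcard : Nat.card H = 2 * m) :
    Nonempty (H ≃* DihedralGroup m) := by
  refine dihedral_of_generators hm (⟨r, hrH⟩ : H) ⟨s, hsH⟩ ?_ ?_ ?_ ?_ hcard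
  · rw [Subgroup.orderOf_mk, hr]
  · exact Subtype.ext hs
  · exact Subtype.ext hsr
  · intro h
    apply hns
    obtain ⟨k, hk⟩ := h
    exact ⟨k, by simpa using congrArg Subtype.val hk⟩

/-- Version of `quaternion_of_generators` for a subgroup, with all hypotheses in the ambient group. -/
theorem subgroup_quaternion_of_generators {m : ℕ} (hm : m ≠ 0) (H : Subgroup G) (a x : G)
    (haH : a ∈ H) (hxH : x ∈ H) (ha : orderOf a = 2 * m) (hx : x * x = a ^ m)
    (hxa : x * a * x⁻¹ = a⁻¹) (hns : x ∉ Subgroup.zpowers a) (hcard : Nat.card H = 4 * m) :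
    Nonempty (H ≃* QuaternionGroup m) := by
  refine quaternion_of_generators hm (⟨a, haH⟩ : H) ⟨x, hxH⟩ ?_ ?_ ?_ ?_ hcard
  · rw [Subgroup.orderOf_mk, ha]
  · exact Subtype.ext hx
  · exact Subtype.ext hxa
  · intro h
    apply hns
    obtain ⟨k, hk⟩ := h
    exact ⟨k, by simpa using congrArg Subtype.val hk⟩

/-- The subgroup generated by `r` of order `m ≠ 0` and an involution `s` outside `⟨r⟩` inverting `r` is dihedral
of order `2 * m`. -/
theorem closure_dihedral {m : ℕ} (r s : G) (hr : orderOf r = m)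
    (hs : s * s = 1) (hsr : s * r * s⁻¹ = r⁻¹) (hns : s ∉ Subgroup.zpowers r) :
    Nonempty (Subgroup.closure {r, s} ≃* DihedralGroup m) := by
  have hr' : r ^ m = 1 := hr ▸ pow_orderOf_eq_one r
  have hinj := dihedralHom_injective r s hr' hs hsr hr hns
  have hrange : (dihedralHom r s hr' hs hsr).range = Subgroup.closure {r, s} := by
    apply le_antisymm
    · rintro _ ⟨(i | i), rfl⟩
      · rw [dihedralHom_r]
        exact (Subgroup.zpowers_le.2 (Subgroup.subset_closure (by simp))) (zpw_mem r hr' i)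
      · rw [dihedralHom_sr]
        exact mul_mem (Subgroup.subset_closure (by simp))
          ((Subgroup.zpowers_le.2 (Subgroup.subset_closure (by simp))) (zpw_mem r hr' i))
    · rw [Subgroup.closure_le]
      rintro _ (rfl | rfl)
      · exact ⟨.r 1, by rw [dihedralHom_r, zpw_one]⟩
      · exact ⟨.sr 0, by rw [dihedralHom_sr, zpw_zero, mul_one]⟩
  rw [← hrange]
  exact ⟨(MonoidHom.ofInjective hinj).symm⟩

/-- The subgroup generated by `a` of order `2 * m` and an element `x` outside `⟨a⟩` inverting `a` with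
`x * x = a ^ m` is generalized quaternion of order `4 * m`. -/
theorem closure_quaternion {m : ℕ} (a x : G) (ha : orderOf a = 2 * m)
    (hx : x * x = a ^ m) (hxa : x * a * x⁻¹ = a⁻¹) (hns : x ∉ Subgroup.zpowers a) :
    Nonempty (Subgroup.closure {a, x} ≃* QuaternionGroup m) := by
  have ha' : a ^ (2 * m) = 1 := ha ▸ pow_orderOf_eq_one a
  have hinj := quaternionHom_injective a x ha' hx hxa ha hns
  have hrange : (quaternionHom a x ha' hx hxa).range = Subgroup.closure {a, x} := by
    apply le_antisymm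
    · rintro _ ⟨(i | i), rfl⟩
      · rw [quaternionHom_a]
        exact (Subgroup.zpowers_le.2 (Subgroup.subset_closure (by simp))) (zpw_mem a ha' i)
      · rw [quaternionHom_xa]
        exact mul_mem (Subgroup.subset_closure (by simp))
          ((Subgroup.zpowers_le.2 (Subgroup.subset_closure (by simp))) (zpw_mem a ha' i))
    · rw [Subgroup.closure_le]
      rintro _ (rfl | rfl)
      · exact ⟨.a 1, by rw [quaternionHom_a, zpw_one]⟩
      · exact ⟨.xa 0, by rw [quaternionHom_xa, zpw_zero, mul_one]⟩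
  rw [← hrange]
  exact ⟨(MonoidHom.ofInjective hinj).symm⟩

end Cfsg.Agent.Lib.DihedralRecog
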