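import Mathlib
import Cfsg.Prelude.Def_Transfer
set_option linter.all false

/-!
# Coprime action of an elementary abelian `p`-group: generation by hyperplane centralizers

An elementary abelian `p`-group `A ≠ 1` acting on a finite `p'`-group `Q`:
`Q` is generated by the fixed points of the subgroups of index `p` of `A`.
-/

set_option autoImplicit false

namespace Cfsg.Agent.Lib.CoprimeHyperplane

open Subgroup

/-- Combinatorial identity behind the partition of an elementary abelian group of order `p²`. -/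
theorem prod_identity {p : ℕ} [Fact p.Prime] {M : Type*} [CommMonoid M] (f : ZMod p → ZMod p → M) :
    (∏ j, f 0 j) * ∏ j, ∏ i, f i (i * j) = f 0 0 ^ p * ∏ i, ∏ j, f i j := by
  have h2 : ∏ j, ∏ i, f i (i * j) = ∏ i, ∏ j, f i (i * j) := Finset.prod_comm
  rw [h2]
  rw [Fintype.prod_eq_mul_prod_compl (0 : ZMod p) (fun i => ∏ j, f i (i * j)),
    Fintype.prod_eq_mul_prod_compl (0 : ZMod p) (fun i => ∏ j, f i j)]
  have h0 : ∏ j : ZMod p, f 0 (0 * j) = f 0 0 ^ p := by
    simp [ZMod.card]
  have h1 : ∏ i ∈ ({0} : Finset (ZMod p))ᶜ, ∏ j, f i (i * j) =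
      ∏ i ∈ ({0} : Finset (ZMod p))ᶜ, ∏ j, f i j := by
    refine Finset.prod_congr rfl fun i hi => ?_
    have hi0 : i ≠ 0 := by simpa using hi
    exact Equiv.prod_comp (Equiv.mulLeft₀ i hi0) (fun j => f i j)
  rw [h0, h1]
  exact mul_left_comm _ _ _

theorem pow_val_add {p : ℕ} [Fact p.Prime] {A : Type*} [Monoid A] {a : A} (ha : a ^ p = 1)
    (i j : ZMod p) : a ^ (i + j).val = a ^ i.val * a ^ j.val := by
  rw [ZMod.val_add, ← pow_eq_pow_mod _ ha, pow_add]

theorem pow_val_mul {p : ℕ} [Fact p.Prime] {A : Type*} [Monoid A] {a : A} (ha : a ^ p = 1)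
    (i j : ZMod p) : a ^ (i * j).val = (a ^ j.val) ^ i.val := by
  rw [ZMod.val_mul, ← pow_eq_pow_mod _ ha, ← pow_mul, mul_comm]

theorem pow_val_one {p : ℕ} [Fact p.Prime] {A : Type*} [Monoid A] (a : A) :
    a ^ (1 : ZMod p).val = a := by
  have : Fact (1 < p) := ⟨(Fact.out : p.Prime).one_lt⟩
  rw [ZMod.val_one, pow_one]

section Abstract

variable {A R : Type*} [CommGroup A] [Group R] (φ : A →* MulAut R)

/-- The fixed points of `B ≤ A` on `R`. -/
def fix (B : Subgroup A) : Subgroup R where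
  carrier := {x | ∀ b ∈ B, φ b x = x}
  one_mem' := fun b _ => map_one _
  mul_mem' := fun {x y} hx hy b hb => by rw [map_mul, hx b hb, hy b hb]
  inv_mem' := fun {x} hx b hb => by rw [map_inv, hx b hb]

theorem mem_fix {B : Subgroup A} {x : R} : x ∈ fix φ B ↔ ∀ b ∈ B, φ b x = x := Iff.rfl

theorem fix_invariant (B : Subgroup A) (a : A) {x : R} (hx : x ∈ fix φ B) : φ a x ∈ fix φ B := by
  intro b hb
  rw [← MulAut.mul_apply, ← map_mul, mul_comm, map_mul, MulAut.mul_apply, hx b hb]

theorem iSup_invariant {ι : Sort*} (S : ι → Subgroup R) (hS : ∀ i, ∀ a : A, ∀ x ∈ S i, φ a x ∈ S i)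
    (a : A) {x : R} (hx : x ∈ ⨆ i, S i) : φ a x ∈ ⨆ i, S i := by
  have h : (⨆ i, S i) ≤ (⨆ i, S i).comap (φ a).toMonoidHom := by
    refine iSup_le fun i y hy => ?_
    exact (le_iSup S i) (hS i a y hy)
  exact h hx

/-- Fixed points of a `p`-group `B` in a coset of an invariant `p'`-subgroup. -/
theorem exists_fixed_in_coset {p : ℕ} [Fact p.Prime] {B : Subgroup A} (hB : IsPGroup p B)
    {N : Subgroup R} [Finite R] (hN : ¬ p ∣ Nat.card N) (hNinv : ∀ b ∈ B, ∀ x ∈ N, φ b x ∈ N)
    (x : R) (hx : ∀ b ∈ B, x⁻¹ * φ b x ∈ N) : ∃ y ∈ fix φ B, x⁻¹ * y ∈ N := by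
  let X : Type _ := {y : R // x⁻¹ * y ∈ N}
  have hX : Nat.card X = Nat.card N := by
    refine Nat.card_congr ⟨fun y => ⟨x⁻¹ * y.1, y.2⟩, fun n => ⟨x * n.1, by simp⟩, ?_, ?_⟩
    · intro y
      simp
    · intro n
      simp
  let act : MulAction B X :=
    { smul := fun b y => ⟨φ (b : A) y.1, by
        have h1 := hx b b.2
        have h2 := hNinv b b.2 _ y.2
        have h3 : x⁻¹ * φ (b : A) y.1 = (x⁻¹ * φ (b : A) x) * φ (b : A) (x⁻¹ * y.1) := by
          rw [map_mul, map_inv]; group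
        rw [h3]
        exact N.mul_mem h1 h2⟩
      one_smul := fun y => by
        apply Subtype.ext
        show φ ((1 : B) : A) y.1 = y.1
        simp
      mul_smul := fun b c y => by
        apply Subtype.ext
        show φ ((b * c : B) : A) y.1 = φ (b : A) (φ (c : A) y.1)
        simp }
  obtain ⟨y, hy⟩ := hB.nonempty_fixed_point_of_prime_not_dvd_card X (by rwa [hX])
  refine ⟨y.1, fun b hb => ?_, y.2⟩
  have := hy ⟨b, hb⟩
  exact congrArg Subtype.val this

/-- The subgroup of elements of `A` acting trivially on `R / N`. -/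
def ker (N : Subgroup R) [N.Normal] (hN : ∀ a, ∀ x ∈ N, φ a x ∈ N) : Subgroup A where
  carrier := {a | ∀ x : R, x⁻¹ * φ a x ∈ N}
  one_mem' := fun x => by simp
  mul_mem' := fun {a b} ha hb x => by
    have h : x⁻¹ * φ (a * b) x = (x⁻¹ * φ a x) * φ a (x⁻¹ * φ b x) := by
      rw [map_mul, map_mul, MulAut.mul_apply, map_inv]; group
    rw [h]
    exact N.mul_mem (ha x) (hN a _ (hb x))
  inv_mem' := fun {a} ha x => by
    have h1 := N.inv_mem (ha (φ a⁻¹ x))
    have h2 : φ a (φ a⁻¹ x) = x := by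
      rw [← MulAut.mul_apply, ← map_mul, mul_inv_cancel, map_one, MulAut.one_apply]
    rw [h2] at h1
    simpa using h1

theorem mem_ker {N : Subgroup R} [N.Normal] {hN : ∀ a, ∀ x ∈ N, φ a x ∈ N} {a : A} :
    a ∈ ker φ N hN ↔ ∀ x : R, x⁻¹ * φ a x ∈ N := Iff.rfl

/-- If `A` (of exponent `p`) acts irreducibly on the abelian `p'`-section `R / N`, and `a` acts
non-trivially, then every `b ∈ A` lies in `⟨a⟩ ker`. -/
theorem exists_pow_mul_mem_ker {p : ℕ} [Fact p.Prime] (hA : ∀ a : A, a ^ p = 1)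
    (N : Subgroup R) [N.Normal] (hN : ∀ a, ∀ x ∈ N, φ a x ∈ N) (hNtop : N ≠ ⊤)
    (hcomm : commutator R ≤ N)
    (hp : ∀ x : R, x ^ p ∈ N → x ∈ N)
    (hmax : ∀ S : Subgroup R, (∀ a, ∀ x ∈ S, φ a x ∈ S) → N ≤ S → S = N ∨ S = ⊤)
    {a : A} (ha : a ∉ ker φ N hN) (b : A) : ∃ j : ZMod p, a ^ j.val * b ∈ ker φ N hN := by
  by_contra hcon
  push Not at hcon
  have hcomm' : IsMulCommutative (R ⧸ N) :=
    Subgroup.Normal.quotient_commutative_iff_commutator_le.2 hcomm
  let cg : CommGroup (R ⧸ N) :=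
    { (inferInstance : Group (R ⧸ N)) with mul_comm := fun x y => hcomm'.is_comm.comm x y }
  -- the induced action on the quotient
  let θ : A → (R ⧸ N →* R ⧸ N) := fun c =>
    QuotientGroup.map N N (φ c).toMonoidHom (fun x hx => hN c x hx)
  have hθ : ∀ c x, θ c (QuotientGroup.mk x) = QuotientGroup.mk (φ c x) := fun c x => rfl
  -- fixed points of elements outside the kernel are trivial
  have key : ∀ c : A, c ∉ ker φ N hN → ∀ m : R ⧸ N, θ c m = m → m = 1 := by
    intro c hc m hm
    let F : Subgroup R := (QuotientGroup.mk' N).eqLocus ((QuotientGroup.mk' N).comp (φ c).toMonoidHom)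
    have hF : ∀ y : R, y ∈ F ↔ (QuotientGroup.mk y : R ⧸ N) = QuotientGroup.mk (φ c y) :=
      fun y => Iff.rfl
    have hFinv : ∀ a, ∀ x ∈ F, φ a x ∈ F := by
      intro d x hx
      rw [hF] at hx ⊢
      have h1 : φ c (φ d x) = φ d (φ c x) := by
        rw [← MulAut.mul_apply, ← map_mul, mul_comm, map_mul, MulAut.mul_apply]
      rw [h1, ← hθ d, ← hθ d, hx]
    have hNF : N ≤ F := by
      intro x hx
      rw [hF, (QuotientGroup.eq_one_iff x).2 hx, (QuotientGroup.eq_one_iff _).2 (hN c x hx)]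
    rcases hmax F hFinv hNF with h | h
    · obtain ⟨y, rfl⟩ := QuotientGroup.mk_surjective m
      have hy : y ∈ F := by
        rw [hF, ← hθ c, hm]
      rw [h] at hy
      exact (QuotientGroup.eq_one_iff y).2 hy
    · exfalso
      apply hc
      intro x
      have hx : x ∈ F := by rw [h]; exact mem_top x
      rw [hF] at hx
      exact QuotientGroup.eq.1 hx
  -- hence norms vanish
  have norm : ∀ c : A, c ∉ ker φ N hN → ∀ g : ZMod p → R ⧸ N, (∀ j, θ c (g j) = g (j + 1)) →
      ∏ j, g j = 1 := by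
    intro c hc g hg
    apply key c hc
    rw [map_prod]
    simp_rw [hg]
    exact Equiv.prod_comp (Equiv.addRight (1 : ZMod p)) g
  apply hNtop
  rw [eq_top_iff]
  intro x _
  apply hp
  rw [← QuotientGroup.eq_one_iff]
  let f : ZMod p → ZMod p → R ⧸ N := fun i j => QuotientGroup.mk (φ (a ^ j.val * b ^ i.val) x)
  have hid := prod_identity f
  have h1 : ∀ i, ∏ j, f i j = 1 := by
    intro i
    apply norm a ha
    intro j
    show (QuotientGroup.mk (φ a (φ (a ^ j.val * b ^ i.val) x)) : R ⧸ N) =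
      QuotientGroup.mk (φ (a ^ (j + 1).val * b ^ i.val) x)
    rw [← MulAut.mul_apply, ← map_mul, pow_val_add (hA a), pow_val_one]
    congr 3
    rw [← mul_assoc, mul_comm a]
  have h2 : ∀ j, ∏ i, f i (i * j) = 1 := by
    intro j
    apply norm (a ^ j.val * b) (hcon j)
    intro i
    show (QuotientGroup.mk (φ (a ^ j.val * b) (φ (a ^ (i * j).val * b ^ i.val) x)) : R ⧸ N) =
      QuotientGroup.mk (φ (a ^ ((i + 1) * j).val * b ^ (i + 1).val) x)
    rw [← MulAut.mul_apply, ← map_mul, add_mul, one_mul, pow_val_add (hA a), pow_val_add (hA b),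
      pow_val_one]
    congr 3
    rw [mul_mul_mul_comm, mul_comm (a ^ j.val), mul_comm b]
  rw [h1 0] at hid
  simp only [h1, h2, Finset.prod_const_one, mul_one] at hid
  have h3 : f 0 0 = QuotientGroup.mk x := by
    show (QuotientGroup.mk (φ (a ^ (0 : ZMod p).val * b ^ (0 : ZMod p).val) x) : R ⧸ N) = _
    simp
  rw [h3] at hid
  exact hid.symm

theorem exists_hyperplane_le_ker {p : ℕ} [Fact p.Prime] [Finite A] [Nontrivial A]
    (hA : ∀ a : A, a ^ p = 1)
    (N : Subgroup R) [N.Normal] (hN : ∀ a, ∀ x ∈ N, φ a x ∈ N) (hNtop : N ≠ ⊤)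
    (hcomm : commutator R ≤ N)
    (hp : ∀ x : R, x ^ p ∈ N → x ∈ N)
    (hmax : ∀ S : Subgroup R, (∀ a, ∀ x ∈ S, φ a x ∈ S) → N ≤ S → S = N ∨ S = ⊤) :
    ∃ B : Subgroup A, B.index = p ∧ B ≤ ker φ N hN := by
  have hpA : IsPGroup p A := fun a => ⟨1, by rw [pow_one]; exact hA a⟩
  by_cases h : ker φ N hN = ⊤
  · obtain ⟨n, hn⟩ := IsPGroup.iff_card.1 hpA
    have hn0 : n ≠ 0 := by
      rintro rfl
      rw [pow_zero] at hn
      have := Finite.one_lt_card (α := A)
      omega
    obtain ⟨m, rfl⟩ := Nat.exists_eq_succ_of_ne_zero hn0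
    obtain ⟨K, hK⟩ := Sylow.exists_subgroup_card_pow_prime (G := A) p (n := m)
      (by rw [hn]; exact pow_dvd_pow p (Nat.le_succ m))
    refine ⟨K, ?_, by rw [h]; exact le_top⟩
    have h1 := K.card_mul_index
    rw [hK, hn, pow_succ] at h1
    exact Nat.eq_of_mul_eq_mul_left (pow_pos (Fact.out : p.Prime).pos m) h1
  · obtain ⟨a, ha⟩ : ∃ a, a ∉ ker φ N hN := by
      by_contra hcon
      push Not at hcon
      exact h (eq_top_iff.2 fun a _ => hcon a)
    refine ⟨ker φ N hN, ?_, le_rfl⟩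
    have hle : (ker φ N hN).index ≤ p := by
      have hsurj : Function.Surjective
          (fun j : ZMod p => (QuotientGroup.mk ((a ^ j.val)⁻¹) : A ⧸ ker φ N hN)) := by
        intro m
        obtain ⟨b, rfl⟩ := QuotientGroup.mk_surjective m
        obtain ⟨j, hj⟩ := exists_pow_mul_mem_ker φ hA N hN hNtop hcomm hp hmax ha b
        refine ⟨j, ?_⟩
        apply QuotientGroup.eq.2
        rwa [inv_inv]
      have := Nat.card_le_card_of_surjective _ hsurj
      rwa [Nat.card_zmod] at this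
    obtain ⟨n, hn⟩ := hpA.index (ker φ N hN)
    rw [hn] at hle ⊢
    have hn0 : n ≠ 0 := by
      rintro rfl
      rw [pow_zero, Subgroup.index_eq_one] at hn
      exact h hn
    have h1 : p ^ 1 ≤ p ^ n := Nat.pow_le_pow_right (Fact.out : p.Prime).pos (by omega)
    rw [pow_one] at h1
    omega

/-- An elementary abelian `p`-group `A ≠ 1` acting on a finite `q`-group, `q ≠ p`: the group is
generated by the fixed points of the hyperplanes of `A`. -/
theorem iSup_fix_eq_top_of_isPGroup {p q : ℕ} [Fact p.Prime] [Fact q.Prime] (hpq : p ≠ q)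
    [Finite A] [Nontrivial A] (hA : ∀ a : A, a ^ p = 1) [Finite R] (hR : IsPGroup q R) :
    ⨆ B : {B : Subgroup A // B.index = p}, fix φ B.1 = ⊤ := by
  by_contra hW
  set W : Subgroup R := ⨆ B : {B : Subgroup A // B.index = p}, fix φ B.1 with hWdef
  have hWinv : ∀ a, ∀ x ∈ W, φ a x ∈ W := fun a x hx =>
    iSup_invariant φ _ (fun B a x hx => fix_invariant φ B.1 a hx) a hx
  obtain ⟨N, hWN, hNmax⟩ := Set.Finite.exists_le_maximal
    (s := {S : Subgroup R | S ≠ ⊤ ∧ ∀ a, ∀ x ∈ S, φ a x ∈ S}) (Set.toFinite _)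
    (a := W) ⟨hW, hWinv⟩
  obtain ⟨⟨hNtop, hNinv⟩, hNmax'⟩ := hNmax
  have hmax : ∀ S : Subgroup R, (∀ a, ∀ x ∈ S, φ a x ∈ S) → N ≤ S → S = N ∨ S = ⊤ := by
    intro S hS hNS
    by_cases h : S = ⊤
    · exact Or.inr h
    · exact Or.inl (le_antisymm (hNmax' ⟨h, hS⟩ hNS) hNS)
  have : Group.IsNilpotent R := hR.isNilpotent
  -- `N` is normal
  have hNn : N.Normal := by
    rw [← Subgroup.normalizer_eq_top_iff]
    have hlt : N < normalizer (N : Set R) :=
      Group.normalizerCondition_of_isNilpotent N (lt_top_iff_ne_top.2 hNtop)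
    have hinv : ∀ a, ∀ x ∈ normalizer (N : Set R), φ a x ∈ normalizer (N : Set R) := by
      intro a x hx
      rw [Subgroup.mem_normalizer_iff] at hx ⊢
      intro y
      have h1 : y = φ a (φ a⁻¹ y) := by
        rw [← MulAut.mul_apply, ← map_mul, mul_inv_cancel, map_one, MulAut.one_apply]
      constructor
      · intro hy
        rw [h1, ← map_inv, ← map_mul, ← map_mul]
        exact hNinv a _ ((hx _).1 (hNinv a⁻¹ y hy))
      · intro hy
        rw [h1]
        apply hNinv a
        rw [hx]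
        have h2 := hNinv a⁻¹ _ hy
        rw [map_mul, map_mul, ← map_inv, ← MulAut.mul_apply, ← MulAut.mul_apply, ← map_mul,
          inv_mul_cancel, map_one, MulAut.one_apply, MulAut.one_apply] at h2
        exact h2
    rcases hmax _ hinv hlt.le with h | h
    · exact absurd h hlt.ne'
    · exact h
  -- the quotient is abelian
  have hcomm : commutator R ≤ N := by
    have hinv : ∀ a, ∀ x ∈ N ⊔ commutator R, φ a x ∈ N ⊔ commutator R := by
      intro a x hx
      have h : N ⊔ commutator R ≤ (N ⊔ commutator R).comap (φ a).toMonoidHom := by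
        refine sup_le (fun y hy => ?_) (fun y hy => ?_)
        · exact (le_sup_left : N ≤ N ⊔ commutator R) (hNinv a y hy)
        · apply (le_sup_right : commutator R ≤ N ⊔ commutator R)
          have h2 := (Subgroup.characteristic_iff_map_le.1
            (inferInstance : (commutator R).Characteristic)) (φ a)
          exact h2 ⟨y, hy, rfl⟩
      exact h hx
    rcases hmax _ hinv le_sup_left with h | h
    · rw [← h]; exact le_sup_right
    · exfalso
      have : Nontrivial (R ⧸ N) := QuotientGroup.nontrivial_iff.2 hNtop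
      have hlt := Group.IsSolvable.commutator_lt_top_of_nontrivial (R ⧸ N)
      apply hlt.ne
      have h3 : (commutator R).map (QuotientGroup.mk' N) = commutator (R ⧸ N) := by
        rw [commutator_def, commutator_def, Subgroup.map_commutator,
          ← MonoidHom.range_eq_map, QuotientGroup.range_mk']
      rw [← h3]
      have h4 : (N ⊔ commutator R).map (QuotientGroup.mk' N) = ⊤ := by
        rw [h, ← MonoidHom.range_eq_map, QuotientGroup.range_mk']
      rw [Subgroup.map_sup] at h4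
      have h5 : N.map (QuotientGroup.mk' N) = ⊥ := by
        rw [Subgroup.map_eq_bot_iff, QuotientGroup.ker_mk']
      rwa [h5, bot_sup_eq] at h4
  -- `p` is invertible on the quotient
  have hpc : Nat.Coprime p (Nat.card R) := by
    obtain ⟨n, hn⟩ := IsPGroup.iff_card.1 hR
    rw [hn]
    exact Nat.Coprime.pow_right n
      ((Nat.coprime_primes (Fact.out : p.Prime) (Fact.out : q.Prime)).2 hpq)
  have hp : ∀ x : R, x ^ p ∈ N → x ∈ N := by
    intro x hx
    have h1 : (QuotientGroup.mk x : R ⧸ N) ^ p = 1 := by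
      rw [← QuotientGroup.mk_pow, QuotientGroup.eq_one_iff]; exact hx
    have h2 : orderOf (QuotientGroup.mk x : R ⧸ N) ∣ p := orderOf_dvd_of_pow_eq_one h1
    have h3 : orderOf (QuotientGroup.mk x : R ⧸ N) ∣ Nat.card R :=
      (_root_.orderOf_dvd_natCard _).trans (Subgroup.card_quotient_dvd_card N)
    have h4 : orderOf (QuotientGroup.mk x : R ⧸ N) = 1 := Nat.eq_one_of_dvd_coprimes hpc h2 h3
    rw [orderOf_eq_one_iff, QuotientGroup.eq_one_iff] at h4
    exact h4
  obtain ⟨B, hB, hBK⟩ := exists_hyperplane_le_ker φ hA N hNinv hNtop hcomm hp hmax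
  apply hNtop
  rw [eq_top_iff]
  intro x _
  have hpA : IsPGroup p A := fun a => ⟨1, by rw [pow_one]; exact hA a⟩
  have hNp : ¬ p ∣ Nat.card N := by
    intro hdvd
    have := Nat.eq_one_of_dvd_coprimes hpc dvd_rfl (hdvd.trans (Subgroup.card_subgroup_dvd_card N))
    exact (Fact.out : p.Prime).one_lt.ne' this
  obtain ⟨y, hy, hxy⟩ := exists_fixed_in_coset φ (hpA.to_subgroup B) hNp
    (fun b _ x hx => hNinv b x hx) x (fun b hb => hBK hb x)
  have hyN : y ∈ N := hWN ((le_iSup (fun B : {B : Subgroup A // B.index = p} => fix φ B.1) ⟨B, hB⟩) hy)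
  have h6 := N.mul_mem hyN (N.inv_mem hxy)
  simpa using h6

end Abstract

section Ambient

variable {G : Type*} [Group G]

/-- The conjugation action of `A ≤ N(Q)` on `Q`. -/
def conjHom {A Q : Subgroup G} (hAQ : A ≤ normalizer (Q : Set G)) : A →* MulAut Q :=
  Q.normalizerMonoidHom.comp (Subgroup.inclusion hAQ)

theorem conjHom_apply {A Q : Subgroup G} (hAQ : A ≤ normalizer (Q : Set G)) (a : A) (x : Q) :
    ((conjHom hAQ a x : Q) : G) = a * x * (a : G)⁻¹ := rfl

/-- A `p`-group acting on a finite `p'`-group leaves a Sylow `q`-subgroup invariant. -/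
theorem exists_invariant_sylow [Finite G] {p : ℕ} [Fact p.Prime] {A Q : Subgroup G}
    (hA : IsPGroup p A) (hAQ : A ≤ normalizer (Q : Set G)) (hQ : ¬ p ∣ Nat.card Q)
    (q : ℕ) [Fact q.Prime] :
    ∃ P : Sylow q Q, A ≤ normalizer (((P : Subgroup Q).map Q.subtype : Subgroup G) : Set G) := by
  let act : MulDistribMulAction A Q := MulDistribMulAction.compHom Q (conjHom hAQ)
  have hact : ∀ (a : A) (x : Q), ((a • x : Q) : G) = a * x * (a : G)⁻¹ := fun a x => rfl
  have hcard : ¬ p ∣ Nat.card (Sylow q Q) := by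
    intro h
    obtain ⟨P⟩ : Nonempty (Sylow q Q) := inferInstance
    exact hQ (h.trans (P.card_dvd_index.trans (Subgroup.index_dvd_card _)))
  obtain ⟨P, hP⟩ := hA.nonempty_fixed_point_of_prime_not_dvd_card (Sylow q Q) hcard
  refine ⟨P, ?_⟩
  have hle : ∀ a ∈ A, ∀ x ∈ (P : Subgroup Q).map Q.subtype, a * x * a⁻¹ ∈ (P : Subgroup Q).map Q.subtype := by
    rintro a ha _ ⟨x, hx, rfl⟩
    have h1 : (⟨a, ha⟩ : A) • P = P := hP ⟨a, ha⟩
    refine ⟨(⟨a, ha⟩ : A) • x, ?_, rfl⟩
    have h2 : (⟨a, ha⟩ : A) • x ∈ (⟨a, ha⟩ : A) • P := ⟨x, hx, rfl⟩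
    rwa [h1] at h2
  intro a ha
  rw [Subgroup.mem_normalizer_iff]
  intro x
  refine ⟨fun hx => hle a ha x hx, fun hx => ?_⟩
  have := hle a⁻¹ (A.inv_mem ha) _ hx
  simpa [mul_assoc] using this

/-- **Coprime generation**: an elementary abelian `p`-subgroup `A ≠ 1` normalizing a `p'`-subgroup
`Q`: `Q` is generated by the centralizers in `Q` of the subgroups of index `p` of `A`. -/
theorem iSup_centralizer_hyperplane [Finite G] {p : ℕ} [Fact p.Prime] {A Q : Subgroup G}
    (hA : Cfsg.IsElementaryAbelian p A) (hA1 : A ≠ ⊥) (hQ : ¬ p ∣ Nat.card Q)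
    (hAQ : A ≤ normalizer (Q : Set G)) :
    ⨆ B : {B : Subgroup G // B ≤ A ∧ B.relIndex A = p}, Q ⊓ centralizer ((B : Subgroup G) : Set G)
      = Q := by
  obtain ⟨hAc, hAp⟩ := hA
  have hpA : IsPGroup p A := fun a => ⟨1, by
    apply Subtype.ext
    simpa using hAp a a.2⟩
  apply le_antisymm
  · exact iSup_le fun B => inf_le_left
  set W : Subgroup G := ⨆ B : {B : Subgroup G // B ≤ A ∧ B.relIndex A = p},
    Q ⊓ centralizer ((B : Subgroup G) : Set G) with hW
  have hWQ : W ≤ Q := iSup_le fun B => inf_le_left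
  -- enough: `W` contains a Sylow `q`-subgroup of `Q` for all primes `q`
  have key : ∀ q : ℕ, q.Prime → ∃ P : Sylow q Q, (P : Subgroup Q) ≤ W.subgroupOf Q := by
    intro q hq
    have : Fact q.Prime := ⟨hq⟩
    obtain ⟨P, hP⟩ := exists_invariant_sylow hpA hAQ hQ q
    refine ⟨P, ?_⟩
    set R : Subgroup G := (P : Subgroup Q).map Q.subtype with hR
    by_cases hpq : p = q
    · -- then `P` is trivial
      subst hpq
      have hPc : Nat.card P = 1 := by
        obtain ⟨n, hn⟩ := IsPGroup.iff_card.1 P.isPGroup'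
        rcases Nat.eq_zero_or_pos n with h0 | h0
        · rw [hn, h0, pow_zero]
        · exfalso
          apply hQ
          refine dvd_trans ?_ (Subgroup.card_subgroup_dvd_card (P : Subgroup Q))
          rw [hn]
          exact dvd_pow_self p h0.ne'
      have hPb : (P : Subgroup Q) = ⊥ := Subgroup.card_eq_one.1 hPc
      rw [hPb]
      exact bot_le
    · have hRq : IsPGroup q R := P.isPGroup'.map _
      let cA : CommGroup A :=
        { (inferInstance : Group A) with mul_comm := fun x y => hAc.is_comm.comm x y }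
      have hAnt : Nontrivial A := (Subgroup.nontrivial_iff_ne_bot A).2 hA1
      have h1 := iSup_fix_eq_top_of_isPGroup (A := A) (R := R) (conjHom hP) hpq
        (fun a => by apply Subtype.ext; simpa using hAp a a.2) hRq
      intro x hx
      have hxR : (x : G) ∈ R := ⟨x, hx, rfl⟩
      have h2 : R ≤ W := by
        intro y hy
        have h3 : (⟨y, hy⟩ : R) ∈ ⨆ B : {B : Subgroup A // B.index = p}, fix (conjHom hP) B.1 := by
          rw [h1]; exact mem_top _
        have h4 : (⨆ B : {B : Subgroup A // B.index = p}, fix (conjHom hP) B.1) ≤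
            W.subgroupOf R := by
          refine iSup_le fun B z hz => ?_
          rw [Subgroup.mem_subgroupOf]
          have hBr : (B.1.map A.subtype).relIndex A = p := by
            rw [Subgroup.relIndex, Subgroup.subgroupOf, Subgroup.comap_map_eq_self_of_injective
              (Subgroup.subtype_injective A)]
            exact B.2
          have hBA : B.1.map A.subtype ≤ A := Subgroup.map_subtype_le B.1
          have hzQ : (z : G) ∈ Q := by
            obtain ⟨w, _, hw⟩ := z.2
            rw [← hw]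
            exact w.2
          have hzC : (z : G) ∈ centralizer ((B.1.map A.subtype : Subgroup G) : Set G) := by
            rw [Subgroup.mem_centralizer_iff]
            rintro _ ⟨b, hb, rfl⟩
            have h5 := congrArg Subtype.val (hz b hb)
            rw [conjHom_apply] at h5
            exact mul_inv_eq_iff_eq_mul.1 h5
          exact le_iSup (fun B : {B : Subgroup G // B ≤ A ∧ B.relIndex A = p} =>
            Q ⊓ centralizer ((B : Subgroup G) : Set G)) ⟨B.1.map A.subtype, hBA, hBr⟩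
            (Subgroup.mem_inf.2 ⟨hzQ, hzC⟩)
        exact h4 h3
      exact h2 hxR
  -- conclude
  have htop : W.subgroupOf Q = ⊤ := by
    rw [← Subgroup.index_eq_one]
    by_contra hne
    obtain ⟨q, hq, hqd⟩ := Nat.exists_prime_and_dvd hne
    have : Fact q.Prime := ⟨hq⟩
    obtain ⟨P, hP⟩ := key q hq
    exact P.not_dvd_index (hqd.trans (Subgroup.index_dvd_of_le hP))
  exact Subgroup.subgroupOf_eq_top.1 htop

/-- Same as `iSup_centralizer_hyperplane`, in the form announced in the team library. -/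
theorem le_iSup_hyperplane {G : Type*} [Group G] [Finite G] {p : ℕ} [Fact p.Prime]
    (A Q : Subgroup G) (hA : Cfsg.IsElementaryAbelian p A) (hA1 : A ≠ ⊥)
    (hQ : (Nat.card Q).Coprime p) (hAQ : A ≤ Subgroup.normalizer (Q : Set G)) :
    Q = ⨆ B : {B : Subgroup G // B ≤ A ∧ B.relIndex A = p},
      Q ⊓ Subgroup.centralizer ((B : Subgroup G) : Set G) :=
  (iSup_centralizer_hyperplane hA hA1
    (fun h => (Fact.out : p.Prime).one_lt.ne' (Nat.eq_one_of_dvd_coprimes hQ h dvd_rfl)) hAQ).symm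

/-- If `A` acts faithfully on the `p'`-group `Q`, every `a ∈ A`, `a ≠ 1`, avoids some hyperplane
`B` of `A` with `[C_Q(B), A] ≠ 1`. -/
theorem exists_hyperplane_not_mem [Finite G] {p : ℕ} [Fact p.Prime] {A Q : Subgroup G}
    (hA : Cfsg.IsElementaryAbelian p A) (hQ : ¬ p ∣ Nat.card Q)
    (hAQ : A ≤ normalizer (Q : Set G)) (hf : A ⊓ centralizer (Q : Set G) = ⊥)
    {a : G} (ha : a ∈ A) (ha1 : a ≠ 1) :
    ∃ B : Subgroup G, B ≤ A ∧ B.relIndex A = p ∧ a ∉ B ∧
      ⁅Q ⊓ centralizer (B : Set G), A⁆ ≠ ⊥ := by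
  by_contra hcon
  push Not at hcon
  apply ha1
  have hA1 : A ≠ ⊥ := by
    rintro rfl
    exact ha1 (Subgroup.mem_bot.1 ha)
  have hgen := iSup_centralizer_hyperplane hA hA1 hQ hAQ
  have hle : Q ≤ centralizer ({a} : Set G) := by
    rw [← hgen]
    refine iSup_le fun B x hx => ?_
    obtain ⟨hxQ, hxB⟩ := Subgroup.mem_inf.1 hx
    rw [Subgroup.mem_centralizer_iff]
    intro a' ha'
    obtain rfl : a' = a := ha'
    by_cases haB : a' ∈ B.1
    · exact Subgroup.mem_centralizer_iff.1 hxB a' haB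
    · have h1 := hcon B.1 B.2.1 B.2.2 haB
      rw [Subgroup.commutator_eq_bot_iff_le_centralizer] at h1
      exact Subgroup.mem_centralizer_iff.1 (h1 (Subgroup.mem_inf.2 ⟨hxQ, hxB⟩)) a' ha
  have haC : a ∈ centralizer (Q : Set G) := by
    rw [Subgroup.mem_centralizer_iff]
    intro x hx
    exact (Subgroup.mem_centralizer_iff.1 (hle hx) a rfl).symm
  have : a ∈ A ⊓ centralizer (Q : Set G) := Subgroup.mem_inf.2 ⟨ha, haC⟩
  rw [hf] at this
  exact Subgroup.mem_bot.1 this

end Ambient

end Cfsg.Agent.Lib.CoprimeHyperplane
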