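import Mathlib
set_option linter.all false

set_option autoImplicit false

namespace Cfsg.Agent.Lib.SolvableMinNormal

/-- A nontrivial solvable group has a nontrivial abelian characteristic subgroup
(the last nontrivial term of the derived series). -/
theorem exists_characteristic_abelian {G : Type*} [Group G] [Nontrivial G] [Group.IsSolvable G] :
    ∃ A : Subgroup G, A.Characteristic ∧ IsMulCommutative A ∧ A ≠ ⊥ := by
  classical
  obtain ⟨n, hn⟩ := Group.IsSolvable.solvable (G := G)
  have hex : ∃ n, derivedSeries G n = ⊥ := ⟨n, hn⟩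
  set k := Nat.find hex with hk
  have hk0 : derivedSeries G k = ⊥ := Nat.find_spec hex
  have hkne : k ≠ 0 := by
    intro h
    rw [h, derivedSeries_zero] at hk0
    exact (bot_ne_top (α := Subgroup G)) hk0.symm
  obtain ⟨m, hm⟩ := Nat.exists_eq_succ_of_ne_zero hkne
  refine ⟨derivedSeries G m, inferInstance, ?_, ?_⟩
  · rw [hm, derivedSeries_succ, Subgroup.commutator_eq_bot_iff_le_centralizer] at hk0
    exact Subgroup.le_centralizer_iff_isMulCommutative.mp hk0
  · exact Nat.find_min hex (m := m) (by omega)

/-- A nontrivial finite solvable group has a nontrivial abelian characteristic `p`-subgroup for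
some prime `p`. -/
theorem exists_characteristic_pgroup {G : Type*} [Group G] [Finite G] [Nontrivial G]
    [Group.IsSolvable G] :
    ∃ p : ℕ, p.Prime ∧ ∃ N : Subgroup G, N.Characteristic ∧ IsMulCommutative N ∧
      IsPGroup p N ∧ N ≠ ⊥ := by
  obtain ⟨A, hA, hAc, hAne⟩ := exists_characteristic_abelian (G := G)
  have hcard : Nat.card A ≠ 1 := by
    intro h
    exact hAne (Subgroup.eq_bot_of_card_eq A h)
  obtain ⟨p, hp, hpd⟩ := Nat.exists_prime_and_dvd hcard
  have : Fact p.Prime := ⟨hp⟩
  obtain ⟨P⟩ : Nonempty (Sylow p A) := inferInstance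
  have hPn : (P : Subgroup A).Normal := by
    refine ⟨fun n hn g => ?_⟩
    have : g * n * g⁻¹ = n := by
      rw [mul_comm' g n, mul_inv_cancel_right]
    rw [this]; exact hn
  have hPc : (P : Subgroup A).Characteristic := Sylow.characteristic_of_normal P hPn
  refine ⟨p, hp, (P : Subgroup A).map A.subtype, inferInstance, ?_, ?_, ?_⟩
  · exact inferInstance
  · exact P.2.map _
  · intro h
    rw [Subgroup.map_eq_bot_iff_of_injective _ A.subtype_injective] at h
    exact P.ne_bot_of_dvd_card hpd h

end Cfsg.Agent.Lib.SolvableMinNormal
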