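import Mathlib
set_option linter.all false

/-!
# Nontrivial abelian normal `p`-subgroups of finite solvable groups, and induction principles
-/

set_option autoImplicit false

namespace Cfsg.Agent.Lib.SolvableNormalP

open Subgroup

/-- The last nontrivial term of the derived series: a nontrivial solvable group has a nontrivial
commutative characteristic subgroup. -/
theorem exists_comm_characteristic (G : Type*) [Group G] [hG : Group.IsSolvable G] [Nontrivial G] :
    ∃ D : Subgroup G, D.Characteristic ∧ IsMulCommutative D ∧ D ≠ ⊥ := by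
  classical
  obtain ⟨n, hn⟩ := hG.solvable
  have hex : ∃ n, derivedSeries G n = ⊥ := ⟨n, hn⟩
  set k := Nat.find hex with hk
  have hkspec : derivedSeries G k = ⊥ := Nat.find_spec hex
  have hk0 : k ≠ 0 := by
    intro h0
    rw [h0, derivedSeries_zero] at hkspec
    exact top_ne_bot hkspec
  obtain ⟨j, hj⟩ := Nat.exists_eq_succ_of_ne_zero hk0
  have hj1 : derivedSeries G j ≠ ⊥ := Nat.find_min hex (by omega)
  refine ⟨derivedSeries G j, inferInstance, ?_, hj1⟩
  rw [hj, Nat.succ_eq_add_one, derivedSeries_succ, commutator_eq_bot_iff_le_centralizer] at hkspec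
  exact ⟨⟨fun a b => Subtype.ext ((mem_centralizer_iff.mp (hkspec b.2)) a a.2)⟩⟩

/-- A nontrivial finite solvable group has a nontrivial commutative normal `p`-subgroup
for some prime `p`. -/
theorem exists_normal_pSubgroup (G : Type*) [Group G] [Finite G] [Group.IsSolvable G]
    [Nontrivial G] :
    ∃ (p : ℕ) (N : Subgroup G), p.Prime ∧ N.Normal ∧ IsPGroup p N ∧ IsMulCommutative N ∧
      N ≠ ⊥ := by
  obtain ⟨D, hDc, hDm, hD⟩ := exists_comm_characteristic G
  have hcard : Nat.card D ≠ 1 := by
    rw [Ne, Subgroup.card_eq_one]; exact hD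
  obtain ⟨p, hp, hpd⟩ := Nat.exists_prime_and_dvd hcard
  have : Fact p.Prime := ⟨hp⟩
  obtain ⟨P⟩ : Nonempty (Sylow p D) := inferInstance
  have hPn : (P : Subgroup D).Normal := by
    constructor
    intro n hn g
    have : g * n * g⁻¹ = n := by
      have := hDm.is_comm.comm g n
      rw [this, mul_inv_cancel_right]
    rwa [this]
  have hPc : (P : Subgroup D).Characteristic := P.characteristic_of_normal hPn
  have : D.Normal := inferInstance
  refine ⟨p, (P : Subgroup D).map D.subtype, hp, inferInstance, P.2.map _, ?_, ?_⟩
  · constructor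
    constructor
    rintro ⟨a, ha⟩ ⟨b, hb⟩
    obtain ⟨a, -, rfl⟩ := ha
    obtain ⟨b, -, rfl⟩ := hb
    apply Subtype.ext
    exact congrArg (fun x : D => (x : G)) (hDm.is_comm.comm a b)
  · rw [Ne, Subgroup.map_eq_bot_iff_of_injective _ D.subtype_injective]
    exact P.ne_bot_of_dvd_card hpd

/-- Strong induction on the order of a finite group (a convenient form: all groups are in one
universe, `ih` applies to every finite group of smaller order). -/
theorem card_strong_induction.{u}
    {motive : ∀ (G : Type u) [Group G] [Finite G], Prop}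
    (step : ∀ (G : Type u) [Group G] [Finite G],
      (∀ (H : Type u) [Group H] [Finite H], Nat.card H < Nat.card G → motive H) → motive G)
    (G : Type u) [Group G] [Finite G] : motive G := by
  suffices h : ∀ (n : ℕ) (G : Type u) [Group G] [Finite G], Nat.card G = n → motive G from
    h _ G rfl
  intro n
  induction n using Nat.strong_induction_on with
  | _ n ih =>
    intro G _ _ hG
    apply step
    intro H _ _ hH
    exact ih (Nat.card H) (hG ▸ hH) H rfl

/-- The order of the quotient by a nontrivial normal subgroup is smaller. -/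
theorem card_quotient_lt {G : Type*} [Group G] [Finite G] {N : Subgroup G} (hN : N ≠ ⊥) :
    Nat.card (G ⧸ N) < Nat.card G := by
  rw [← Subgroup.index_eq_card, ← N.index_mul_card]
  exact lt_mul_of_one_lt_right (Nat.pos_of_ne_zero index_ne_zero_of_finite)
    (N.one_lt_card_iff_ne_bot.mpr hN)

/-- The order of a proper subgroup is smaller. -/
theorem card_lt_of_ne_top {G : Type*} [Group G] [Finite G] {H : Subgroup G} (hH : H ≠ ⊤) :
    Nat.card H < Nat.card G := by
  rw [← H.index_mul_card]
  exact lt_mul_of_one_lt_left Nat.card_pos (one_lt_index_of_ne_top hH)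

/-- Preimage of a subgroup of a quotient: order. -/
theorem card_comap_mk {G : Type*} [Group G] [Finite G] (N : Subgroup G) [N.Normal]
    (K : Subgroup (G ⧸ N)) :
    Nat.card (K.comap (QuotientGroup.mk' N)) = Nat.card K * Nat.card N := by
  have h1 : (K.comap (QuotientGroup.mk' N)).index = K.index :=
    Subgroup.index_comap_of_surjective K (QuotientGroup.mk'_surjective N)
  have h2 := (K.comap (QuotientGroup.mk' N)).index_mul_card
  have h3 := K.index_mul_card
  have h4 : Nat.card G = Nat.card (G ⧸ N) * Nat.card N := Subgroup.card_eq_card_quotient_mul_card_subgroup N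
  rw [h1, h4, ← h3, mul_assoc] at h2
  exact Nat.eq_of_mul_eq_mul_left (Nat.pos_of_ne_zero index_ne_zero_of_finite) h2

end Cfsg.Agent.Lib.SolvableNormalP
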