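import Mathlib.GroupTheory.OrderOfElement
import Mathlib.GroupTheory.Subgroup.Centralizer
import Mathlib.Tactic.Group
import Mathlib.Algebra.Group.End
set_option linter.all false

/-!
A Klein four-group (or two commuting involutory automorphisms) acting on a group of odd order.
Elementary: no solvability, no Sylow theory.
-/

set_option autoImplicit false

namespace Cfsg.Agent.Lib.KleinGen

variable {G : Type*} [Group G]

/-- In a subgroup of odd order, `g ↦ g ^ n` is a (two-sided) square root for a suitable `n`. -/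
theorem exists_sqrt_exponent (H : Subgroup G) (hodd : Odd (Nat.card H)) :
    ∃ n : ℕ, ∀ g ∈ H, g ^ n * g ^ n = g ∧ (g * g) ^ n = g := by
  obtain ⟨m, hm⟩ := hodd
  refine ⟨m + 1, fun g hg => ?_⟩
  have h1 : g ^ (Nat.card H) = 1 := by
    have : (⟨g, hg⟩ : H) ^ (Nat.card H) = 1 := pow_card_eq_one'
    have h2 := congrArg Subtype.val this
    rw [Subgroup.coe_pow] at h2
    exact h2
  have h2 : g ^ (m + 1 + (m + 1)) = g := by
    have : m + 1 + (m + 1) = Nat.card H + 1 := by omega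
    rw [this, pow_succ, h1, one_mul]
  constructor
  · rw [← pow_add, h2]
  · rw [← pow_two, ← pow_mul, two_mul, h2]

/-- Unique square roots in a subgroup of odd order. -/
theorem eq_of_mul_self_eq {H : Subgroup G} (hodd : Odd (Nat.card H)) {g h : G} (hg : g ∈ H)
    (hh : h ∈ H) (e : g * g = h * h) : g = h := by
  obtain ⟨n, hn⟩ := exists_sqrt_exponent H hodd
  rw [← (hn g hg).2, e, (hn h hh).2]

/-- `h = c * k` with `c` fixed and `k` inverted by an involutory endomorphism of an odd order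
subgroup. -/
theorem exists_fixed_mul_inverted (H : Subgroup G) (hodd : Odd (Nat.card H)) (φ : G →* G)
    (hφ : ∀ g, φ (φ g) = g) (hH : ∀ h ∈ H, φ h ∈ H) {h : G} (hh : h ∈ H) :
    ∃ c ∈ H, ∃ k ∈ H, φ c = c ∧ φ k = k⁻¹ ∧ h = c * k := by
  obtain ⟨n, hn⟩ := exists_sqrt_exponent H hodd
  have hw : (φ h)⁻¹ * h ∈ H := H.mul_mem (H.inv_mem (hH h hh)) hh
  set w := (φ h)⁻¹ * h with hwdef
  have hk : w ^ n ∈ H := H.pow_mem hw n
  have hkk : w ^ n * w ^ n = w := (hn w hw).1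
  have hφw : φ w = w⁻¹ := by
    rw [hwdef, map_mul, map_inv, hφ, mul_inv_rev, inv_inv]
  have hφk : φ (w ^ n) = (w ^ n)⁻¹ := by rw [map_pow, hφw, inv_pow]
  refine ⟨h * (w ^ n)⁻¹, H.mul_mem hh (H.inv_mem hk), w ^ n, hk, ?_, hφk, by group⟩
  rw [map_mul, map_inv, hφk, inv_inv, eq_mul_inv_iff_mul_eq, mul_assoc, hkk, hwdef]
  group

/-- Two commuting involutory endomorphisms of a group, leaving invariant a subgroup `H` of odd
order: `H` is contained in every subgroup containing the fixed points in `H` of `φ`, `ψ` and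
`φ ∘ ψ`. -/
theorem exists_decomp (H : Subgroup G) (hodd : Odd (Nat.card H)) (φ ψ : G →* G)
    (hφ : ∀ g, φ (φ g) = g) (hψ : ∀ g, ψ (ψ g) = g) (hc : ∀ g, φ (ψ g) = ψ (φ g))
    (hφH : ∀ h ∈ H, φ h ∈ H) (hψH : ∀ h ∈ H, ψ h ∈ H) {h : G} (hh : h ∈ H) :
    ∃ c ∈ H, ∃ e ∈ H, ∃ l ∈ H, φ c = c ∧ ψ e = e ∧ φ (ψ l) = l ∧ h = c * (e * l * e) := by
  obtain ⟨c, hcH, k, hk, hφc, hφk, rfl⟩ := exists_fixed_mul_inverted H hodd φ hφ hφH hh
  obtain ⟨n, hn⟩ := exists_sqrt_exponent H hodd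
  -- `m ^ 2 = k`
  have hm : k ^ n ∈ H := H.pow_mem hk n
  have hmm : k ^ n * k ^ n = k := (hn k hk).1
  set m := k ^ n with hmdef
  have hψk : ψ k ∈ H := hψH k hk
  have hp : m⁻¹ * ψ k * m⁻¹ ∈ H := H.mul_mem (H.mul_mem (H.inv_mem hm) hψk) (H.inv_mem hm)
  set p := m⁻¹ * ψ k * m⁻¹ with hpdef
  have hpp : p ^ n * p ^ n = p := (hn p hp).1
  have hq : p ^ n ∈ H := H.pow_mem hp n
  have hd : m * p ^ n * m ∈ H := H.mul_mem (H.mul_mem hm hq) hm
  have hdk : (m * p ^ n * m) * k⁻¹ * (m * p ^ n * m) = ψ k := by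
    have : (m * p ^ n * m) * k⁻¹ * (m * p ^ n * m) = m * (p ^ n * p ^ n) * m := by
      rw [← hmm]; group
    rw [this, hpp, hpdef]; group
  set d := m * p ^ n * m with hddef
  -- uniqueness
  have huniq : ∀ e ∈ H, e * k⁻¹ * e = ψ k → e = d := by
    intro e he hek
    have h1 : m⁻¹ * e * m⁻¹ ∈ H := H.mul_mem (H.mul_mem (H.inv_mem hm) he) (H.inv_mem hm)
    have h2 : m⁻¹ * d * m⁻¹ ∈ H := H.mul_mem (H.mul_mem (H.inv_mem hm) hd) (H.inv_mem hm)
    have h3 : (m⁻¹ * e * m⁻¹) * (m⁻¹ * e * m⁻¹) = m⁻¹ * (e * k⁻¹ * e) * m⁻¹ := by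
      rw [← hmm]; group
    have h4 : (m⁻¹ * d * m⁻¹) * (m⁻¹ * d * m⁻¹) = m⁻¹ * (d * k⁻¹ * d) * m⁻¹ := by
      rw [← hmm]; group
    have h5 := eq_of_mul_self_eq hodd h1 h2 (by rw [h3, h4, hek, hdk])
    have h6 : m * (m⁻¹ * e * m⁻¹) * m = m * (m⁻¹ * d * m⁻¹) * m := by rw [h5]
    have h7 : m * (m⁻¹ * e * m⁻¹) * m = e := by group
    have h8 : m * (m⁻¹ * d * m⁻¹) * m = d := by group
    rw [← h7, h6, h8]
  have hψd : ψ d = d := by
    refine huniq _ (hψH d hd) ?_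
    have h1 : ψ d * (ψ k)⁻¹ * ψ d = k := by
      rw [← map_inv, ← map_mul, ← map_mul, hdk, hψ]
    have h2 : ψ d * k⁻¹ * ψ d = ψ d * (ψ d * (ψ k)⁻¹ * ψ d)⁻¹ * ψ d := by rw [h1]
    rw [h2]; group
  have hφd : φ d = d⁻¹ := by
    have h1 : φ d * k * φ d = (ψ k)⁻¹ := by
      have : φ (d * k⁻¹ * d) = φ d * k * φ d := by
        rw [map_mul, map_mul, map_inv, hφk, inv_inv]
      rw [← this, hdk, hc, hφk, map_inv]
    have h2 : (φ d)⁻¹ * k⁻¹ * (φ d)⁻¹ = ψ k := by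
      have : (φ d)⁻¹ * k⁻¹ * (φ d)⁻¹ = (φ d * k * φ d)⁻¹ := by group
      rw [this, h1, inv_inv]
    have h3 := huniq _ (H.inv_mem (hφH d hd)) h2
    exact inv_eq_iff_eq_inv.mp h3
  have he : d ^ n ∈ H := H.pow_mem hd n
  have hee : d ^ n * d ^ n = d := (hn d hd).1
  have hψe : ψ (d ^ n) = d ^ n := by rw [map_pow, hψd]
  have hφe : φ (d ^ n) = (d ^ n)⁻¹ := by rw [map_pow, hφd, inv_pow]
  set e := d ^ n with hedef
  refine ⟨c, hcH, e, he, e⁻¹ * k * e⁻¹, H.mul_mem (H.mul_mem (H.inv_mem he) hk) (H.inv_mem he),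
    hφc, hψe, ?_, by group⟩
  have h1 : ψ (e⁻¹ * k * e⁻¹) = e * k⁻¹ * e := by
    have h2 : ψ (e⁻¹ * k * e⁻¹) = e⁻¹ * ψ k * e⁻¹ := by rw [map_mul, map_mul, map_inv, hψe]
    rw [h2, ← hdk, ← hee]
    group
  rw [h1, map_mul, map_mul, map_inv, hφk, hφe, inv_inv]

/-- Two commuting involutory endomorphisms `φ`, `ψ` of a group, leaving invariant a subgroup `H`
of odd order: `H ≤ M` as soon as `M` contains the fixed points in `H` of `φ`, of `ψ` and of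
`φ ∘ ψ`. -/
theorem le_of_fixed_le (H M : Subgroup G) (hodd : Odd (Nat.card H)) (φ ψ : G →* G)
    (hφ : ∀ g, φ (φ g) = g) (hψ : ∀ g, ψ (ψ g) = g) (hc : ∀ g, φ (ψ g) = ψ (φ g))
    (hφH : ∀ h ∈ H, φ h ∈ H) (hψH : ∀ h ∈ H, ψ h ∈ H)
    (h1 : ∀ h ∈ H, φ h = h → h ∈ M) (h2 : ∀ h ∈ H, ψ h = h → h ∈ M)
    (h3 : ∀ h ∈ H, φ (ψ h) = h → h ∈ M) : H ≤ M := by
  intro h hh
  obtain ⟨c, hc, e, he, l, hl, hφc, hψe, hφl, rfl⟩ :=
    exists_decomp H hodd φ ψ hφ hψ hc hφH hψH hh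
  exact M.mul_mem (h1 c hc hφc) (M.mul_mem (M.mul_mem (h2 e he hψe) (h3 l hl hφl)) (h2 e he hψe))

/-- An involution `x` normalising a subgroup `H` of odd order: `H = C_H(x) I_H(x)`. -/
theorem exists_centralizer_mul_inverted (H : Subgroup G) (hodd : Odd (Nat.card H)) (x : G)
    (hx : x * x = 1) (hxH : ∀ h ∈ H, x * h * x⁻¹ ∈ H) {h : G} (hh : h ∈ H) :
    ∃ c ∈ H, ∃ k ∈ H, x * c = c * x ∧ x * k * x⁻¹ = k⁻¹ ∧ h = c * k := by
  have hxi : x⁻¹ = x := inv_eq_of_mul_eq_one_right hx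
  obtain ⟨c, hc, k, hk, h1, h2, h3⟩ := exists_fixed_mul_inverted H hodd
    (MulAut.conj x).toMonoidHom (fun g => by
      show x * (x * g * x⁻¹) * x⁻¹ = g
      rw [hxi, ← mul_assoc, ← mul_assoc, hx, one_mul, mul_assoc, hx, mul_one]) hxH hh
  have h1' : x * c * x⁻¹ = c := h1
  exact ⟨c, hc, k, hk, mul_inv_eq_iff_eq_mul.mp h1', h2, h3⟩

/-- A Klein four-group `{1, x, y, xy}` (or two commuting elements of order at most two)
normalising a subgroup `H` of odd order: `H` is generated by `C_H(x)`, `C_H(y)`, `C_H(xy)`. -/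
theorem le_of_klein (H M : Subgroup G) (hodd : Odd (Nat.card H)) (x y : G)
    (hx : x * x = 1) (hy : y * y = 1) (hxy : x * y = y * x)
    (hxH : ∀ h ∈ H, x * h * x⁻¹ ∈ H) (hyH : ∀ h ∈ H, y * h * y⁻¹ ∈ H)
    (h1 : H ⊓ Subgroup.centralizer {x} ≤ M) (h2 : H ⊓ Subgroup.centralizer {y} ≤ M)
    (h3 : H ⊓ Subgroup.centralizer {x * y} ≤ M) : H ≤ M := by
  have key : ∀ z : G, z * z = 1 → ∀ g : G, z * (z * g * z⁻¹) * z⁻¹ = g := by
    intro z hz g
    have hzi : z⁻¹ = z := inv_eq_of_mul_eq_one_right hz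
    rw [hzi, ← mul_assoc, ← mul_assoc, hz, one_mul, mul_assoc, hz, mul_one]
  have hmem : ∀ z g : G, z * g * z⁻¹ = g → g ∈ Subgroup.centralizer {z} := by
    intro z g hzg
    rw [Subgroup.mem_centralizer_singleton_iff]
    exact (mul_inv_eq_iff_eq_mul.mp hzg).symm
  refine le_of_fixed_le H M hodd (MulAut.conj x).toMonoidHom (MulAut.conj y).toMonoidHom
    (key x hx) (key y hy) ?_ hxH hyH ?_ ?_ ?_
  · intro g
    show x * (y * g * y⁻¹) * x⁻¹ = y * (x * g * x⁻¹) * y⁻¹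
    have e1 : x * (y * g * y⁻¹) * x⁻¹ = (x * y) * g * (x * y)⁻¹ := by group
    have e2 : y * (x * g * x⁻¹) * y⁻¹ = (y * x) * g * (y * x)⁻¹ := by group
    rw [e1, e2, hxy]
  · intro h hh hf
    exact h1 ⟨hh, hmem x h hf⟩
  · intro h hh hf
    exact h2 ⟨hh, hmem y h hf⟩
  · intro h hh hf
    refine h3 ⟨hh, hmem (x * y) h ?_⟩
    have hf' : x * (y * h * y⁻¹) * x⁻¹ = h := hf
    have e1 : (x * y) * h * (x * y)⁻¹ = x * (y * h * y⁻¹) * x⁻¹ := by group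
    rw [e1, hf']

end Cfsg.Agent.Lib.KleinGen
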