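import Mathlib
set_option linter.all false

set_option autoImplicit false

namespace Cfsg.Agent.Lib.FrattiniBasic

variable {G : Type*} [Group G]

/-- In a finite `p`-group every maximal subgroup is normal. -/
theorem normal_of_isCoatom [Finite G] {p : ℕ} [Fact p.Prime] (hG : IsPGroup p G)
    {M : Subgroup G} (hM : IsCoatom M) : M.Normal := by
  have : Group.IsNilpotent G := hG.isNilpotent
  exact Subgroup.NormalizerCondition.normal_of_coatom M Group.normalizerCondition_of_isNilpotent hM

/-- In a finite `p`-group every maximal subgroup contains the commutator subgroup. -/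
theorem commutator_le_of_isCoatom [Finite G] {p : ℕ} [Fact p.Prime] (hG : IsPGroup p G)
    {M : Subgroup G} (hM : IsCoatom M) : commutator G ≤ M := by
  have hN : M.Normal := normal_of_isCoatom hG hM
  obtain ⟨x, hx⟩ : ∃ x, x ∉ M := by
    by_contra h
    push Not at h
    exact hM.1 (eq_top_iff.2 fun x _ => h x)
  have hsup : M ⊔ Subgroup.zpowers x = ⊤ := by
    apply hM.2
    refine lt_of_le_of_ne le_sup_left fun h => hx ?_
    rw [h]
    exact (le_sup_right : Subgroup.zpowers x ≤ _) (Subgroup.mem_zpowers x)
  exact hN.commutator_le_of_self_sup_commutative_eq_top hsup inferInstance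

/-- In a finite `p`-group every maximal subgroup contains all `p`-th powers. -/
theorem pow_mem_of_isCoatom [Finite G] {p : ℕ} [hp : Fact p.Prime] (hG : IsPGroup p G)
    {M : Subgroup G} (hM : IsCoatom M) (x : G) : x ^ p ∈ M := by
  have hN : M.Normal := normal_of_isCoatom hG hM
  by_contra hx
  have hsup : M ⊔ Subgroup.zpowers (x ^ p) = ⊤ := by
    apply hM.2
    refine lt_of_le_of_ne le_sup_left fun h => hx ?_
    rw [h]
    exact (le_sup_right : Subgroup.zpowers (x ^ p) ≤ _) (Subgroup.mem_zpowers (x ^ p))
  have hxt : x ∈ M ⊔ Subgroup.zpowers (x ^ p) := by rw [hsup]; trivial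
  rw [Subgroup.mem_sup_of_normal_left] at hxt
  obtain ⟨m, hm, z, hz, hmz⟩ := hxt
  obtain ⟨k, rfl⟩ := Subgroup.mem_zpowers_iff.1 hz
  have h1 : x ^ (1 - (p : ℤ) * k) ∈ M := by
    have : x ^ (1 - (p : ℤ) * k) = m := by
      rw [zpow_sub, zpow_one, zpow_mul, zpow_natCast]
      nth_rewrite 1 [← hmz]
      simp
    rw [this]; exact hm
  obtain ⟨n, hn⟩ := hG x
  have hcop : IsCoprime (1 - (p : ℤ) * k) ((p ^ n : ℕ) : ℤ) := by
    push_cast
    apply IsCoprime.pow_right
    exact ⟨1, k, by ring⟩
  obtain ⟨a, b, hab⟩ := hcop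
  apply hx
  have hxM : x ∈ M := by
    have : x = (x ^ (1 - (p : ℤ) * k)) ^ a * (x ^ ((p ^ n : ℕ) : ℤ)) ^ b := by
      rw [← zpow_mul, ← zpow_mul, ← zpow_add, mul_comm _ a, mul_comm _ b, hab, zpow_one]
    rw [this, zpow_natCast, hn, one_zpow, mul_one]
    exact M.zpow_mem h1 a
  exact M.pow_mem hxM p

/-- In a finite `p`-group, the commutator subgroup lies in the Frattini subgroup. -/
theorem commutator_le_frattini [Finite G] {p : ℕ} [Fact p.Prime] (hG : IsPGroup p G) :
    commutator G ≤ frattini G :=
  le_iInf₂ fun _ hM => commutator_le_of_isCoatom hG hM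

/-- In a finite `p`-group, `p`-th powers lie in the Frattini subgroup. -/
theorem pow_mem_frattini [Finite G] {p : ℕ} [Fact p.Prime] (hG : IsPGroup p G) (x : G) :
    x ^ p ∈ frattini G :=
  (Subgroup.mem_iInf.2 fun _ => Subgroup.mem_iInf.2 fun hM => pow_mem_of_isCoatom hG hM x :
    x ^ p ∈ ⨅ M : Subgroup G, ⨅ _ : M ∈ {H : Subgroup G | IsCoatom H}, M)

/-- A subgroup maximal among those containing `N` (with elementary abelian quotient) and not
containing `x` is a maximal subgroup.  No finiteness or `p`-group assumption. -/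
theorem exists_isCoatom_of_notMem [Finite G] {p : ℕ} [hp : Fact p.Prime] (N : Subgroup G)
    (hcomm : commutator G ≤ N) (hpow : ∀ x : G, x ^ p ∈ N) {x : G} (hx : x ∉ N) :
    ∃ M : Subgroup G, IsCoatom M ∧ N ≤ M ∧ x ∉ M := by
  obtain ⟨M, hNM, hM⟩ := (Set.toFinite {K : Subgroup G | N ≤ K ∧ x ∉ K}).exists_le_maximal
    (a := N) ⟨le_rfl, hx⟩
  refine ⟨M, ⟨?_, ?_⟩, hNM, hM.prop.2⟩
  · rintro rfl
    exact hM.prop.2 trivial
  · intro K hK
    have hMn : M.Normal := Subgroup.Normal.of_commutator_le G (hcomm.trans hNM)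
    have key : ∀ L : Subgroup G, M < L → x ∈ L := by
      intro L hL
      by_contra hxL
      exact absurd (hM.le_of_ge ⟨hNM.trans hL.le, hxL⟩ hL.le) hL.not_ge
    rw [eq_top_iff]
    intro y _
    by_contra hy
    have hyM : y ∉ M := fun h => hy (hK.le h)
    have hlt : M < M ⊔ Subgroup.zpowers y := by
      refine lt_of_le_of_ne le_sup_left fun h => hyM ?_
      rw [h]
      exact (le_sup_right : Subgroup.zpowers y ≤ _) (Subgroup.mem_zpowers y)
    have hxt := key _ hlt
    rw [Subgroup.mem_sup_of_normal_left] at hxt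
    obtain ⟨m, hm, z, hz, hmz⟩ := hxt
    obtain ⟨k, rfl⟩ := Subgroup.mem_zpowers_iff.1 hz
    have hypM : y ^ p ∈ M := hNM (hpow y)
    by_cases hk : (p : ℤ) ∣ k
    · obtain ⟨j, rfl⟩ := hk
      apply hM.prop.2
      rw [← hmz, zpow_mul, zpow_natCast]
      exact M.mul_mem hm (M.zpow_mem hypM j)
    · have hcop : IsCoprime (p : ℤ) k :=
        ((Nat.prime_iff_prime_int.1 hp.out).coprime_iff_not_dvd).2 hk
      obtain ⟨a, b, hab⟩ := hcop
      apply hy
      have hxK : x ∈ K := key K hK
      have hyk : y ^ k ∈ K := by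
        have : y ^ k = m⁻¹ * x := by rw [← hmz]; group
        rw [this]
        exact K.mul_mem (K.inv_mem (hK.le hm)) hxK
      have : y = (y ^ (p : ℤ)) ^ a * (y ^ k) ^ b := by
        rw [← zpow_mul, ← zpow_mul, ← zpow_add, mul_comm _ a, mul_comm _ b, hab, zpow_one]
      rw [this, zpow_natCast]
      exact K.mul_mem (K.zpow_mem (hK.le hypM) a) (K.zpow_mem hyk b)

/-- The Frattini subgroup of a finite group lies below every (normal) subgroup with
elementary abelian `p`-quotient. -/
theorem frattini_le_of_elementary [Finite G] {p : ℕ} [Fact p.Prime] (N : Subgroup G)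
    (hcomm : commutator G ≤ N) (hpow : ∀ x : G, x ^ p ∈ N) : frattini G ≤ N := by
  intro x hx
  by_contra hxN
  obtain ⟨M, hM, -, hxM⟩ := exists_isCoatom_of_notMem N hcomm hpow hxN
  exact hxM (frattini_le_coatom hM hx)

/-- A generalized Frattini argument: `P` a Sylow `p`-subgroup of the normal subgroup `N` of `G`,
and `H` normal in `G` with `P ≤ H ≤ N`; then `N_G(P) H = G`. -/
theorem normalizer_sup_eq_top_of_le [Finite G] {p : ℕ} [Fact p.Prime] {N H : Subgroup G}
    (hH : H.Normal) (P : Sylow p N) (hPH : P.map N.subtype ≤ H) (hHN : H ≤ N) :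
    Subgroup.normalizer (P.map N.subtype : Set G) ⊔ H = ⊤ := by
  set P' : Subgroup G := P.map N.subtype with hP'
  have hPp : IsPGroup p P' := P.2.map N.subtype
  have hidx : ¬ p ∣ (P'.subgroupOf H).index := by
    intro h
    apply P.not_dvd_index
    have h1 : P'.relIndex N = P.index := by
      rw [Subgroup.relIndex, hP', Subgroup.subgroupOf,
        Subgroup.comap_map_eq_self_of_injective N.subtype_injective]
    rw [← h1]
    exact (h.trans (Dvd.intro _ (Subgroup.relIndex_mul_relIndex P' H N hPH hHN)))
  have hQ : IsPGroup p (P'.subgroupOf H) := hPp.comap_subtype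
  have := Sylow.normalizer_sup_eq_top (hQ.toSylow hidx)
  rwa [IsPGroup.toSylow_coe, Subgroup.subgroupOf_map_subtype, inf_of_le_left hPH] at this

/-- A normal subgroup `N` of the finite group `G` is nilpotent once the image of `N` in `G ⧸ K` is,
for a normal subgroup `K` contained in the Frattini subgroup (Gaschütz). -/
theorem isNilpotent_of_map_isNilpotent [Finite G] (N K : Subgroup G) [N.Normal] [K.Normal]
    (hK : K ≤ frattini G)
    (h : Group.IsNilpotent (N.map (QuotientGroup.mk' K))) : Group.IsNilpotent N := by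
  apply ((Group.isNilpotent_of_finite_tfae (G := N)).out 0 3).mpr
  intro p hp P
  -- the map `N → N K / K`
  set N' : Subgroup (G ⧸ K) := N.map (QuotientGroup.mk' K) with hN'
  have hN'n : N'.Normal := Subgroup.Normal.map inferInstance _ (QuotientGroup.mk'_surjective K)
  set π : N →* N' := (QuotientGroup.mk' K).subgroupMap N with hπ
  have hπs : Function.Surjective π := (QuotientGroup.mk' K).subgroupMap_surjective N
  set Q : Sylow p N' := P.mapSurjective hπs with hQ
  have hall : ∀ (p : ℕ) (_hp : Fact p.Prime) (P : Sylow p N'), (P : Subgroup N').Normal :=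
    ((Group.isNilpotent_of_finite_tfae (G := N')).out 0 3).mp h
  have hQn : Q.Normal := hall p hp Q
  have hQc : Q.Characteristic := Q.characteristic_of_normal hQn
  have hQG : ((Q : Subgroup N').map N'.subtype).Normal := inferInstance
  set P' : Subgroup G := P.map N.subtype with hP'
  have hmap : (Q : Subgroup N').map N'.subtype = P'.map (QuotientGroup.mk' K) := by
    rw [hQ, Sylow.coe_mapSurjective, Subgroup.map_map, hP', Subgroup.map_map]
    rfl
  rw [hmap] at hQG
  set H : Subgroup G := (P'.map (QuotientGroup.mk' K)).comap (QuotientGroup.mk' K) ⊓ N with hH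
  have hHn : H.Normal := by
    have : ((P'.map (QuotientGroup.mk' K)).comap (QuotientGroup.mk' K)).Normal :=
      Subgroup.Normal.comap hQG _
    infer_instance
  have hP'N : P' ≤ N := Subgroup.map_subtype_le _
  have hPH : P' ≤ H := le_inf (Subgroup.le_comap_map _ _) hP'N
  have htop := normalizer_sup_eq_top_of_le hHn P hPH inf_le_right
  have hHle : H ≤ Subgroup.normalizer (P' : Set G) ⊔ frattini G := by
    refine inf_le_left.trans ?_
    rw [Subgroup.comap_map_eq, QuotientGroup.ker_mk']
    exact sup_le_sup Subgroup.le_normalizer hK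
  have hnorm : Subgroup.normalizer (P' : Set G) = ⊤ := by
    apply frattini_nongenerating
    rw [eq_top_iff, ← htop]
    exact sup_le le_sup_left hHle
  have hP'n : P'.Normal := Subgroup.normalizer_eq_top_iff.mp hnorm
  exact hP'n.of_map_subtype

/-- A finite group whose Frattini quotient is nilpotent is nilpotent. -/
theorem isNilpotent_of_quotient_frattini [Finite G] (h : Group.IsNilpotent (G ⧸ frattini G)) :
    Group.IsNilpotent G := by
  have h1 : Group.IsNilpotent ((⊤ : Subgroup G).map (QuotientGroup.mk' (frattini G))) := by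
    infer_instance
  have h2 := isNilpotent_of_map_isNilpotent (⊤ : Subgroup G) (frattini G) le_rfl h1
  exact (Group.isNilpotent_congr Subgroup.topEquiv).mp h2

/-- A normal subgroup `N` of the finite group `G` containing `frattini G`, with nilpotent
`N / frattini G`, is nilpotent. -/
theorem isNilpotent_of_normal [Finite G] (N : Subgroup G) [N.Normal]
    (h : Group.IsNilpotent (N.map (QuotientGroup.mk' (frattini G)))) : Group.IsNilpotent N :=
  isNilpotent_of_map_isNilpotent N (frattini G) le_rfl h

/-- The Frattini subgroup of a normal subgroup is contained in the Frattini subgroup. -/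
theorem frattini_map_subtype_le [Finite G] (N : Subgroup G) [N.Normal] :
    (frattini N).map N.subtype ≤ frattini G := by
  refine le_iInf₂ fun M hM => ?_
  have hM : IsCoatom M := hM
  set F : Subgroup G := (frattini N).map N.subtype with hF
  have hFn : F.Normal := inferInstance
  by_contra hle
  have hsup : M ⊔ F = ⊤ := by
    apply hM.2
    refine lt_of_le_of_ne le_sup_left fun h => hle ?_
    rw [h]; exact le_sup_right
  have hFN : F ≤ N := Subgroup.map_subtype_le _
  -- Dedekind
  have hN : M.subgroupOf N ⊔ frattini N = ⊤ := by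
    rw [eq_top_iff]
    intro x _
    have hx : (x : G) ∈ M ⊔ F := by rw [hsup]; trivial
    rw [Subgroup.mem_sup_of_normal_right] at hx
    obtain ⟨m, hm, f, hf, hmf⟩ := hx
    obtain ⟨f', hf', rfl⟩ := Subgroup.mem_map.1 hf
    have hmN : m ∈ N := by
      have : m = (x : G) * (f' : G)⁻¹ := by rw [← hmf]; simp
      rw [this]
      exact N.mul_mem x.2 (N.inv_mem f'.2)
    have hx' : x = ⟨m, hmN⟩ * f' := by
      ext; simpa using hmf.symm
    rw [hx']
    exact Subgroup.mul_mem_sup (Subgroup.mem_subgroupOf.2 hm) hf'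
  have := frattini_nongenerating hN
  rw [Subgroup.subgroupOf_eq_top] at this
  exact hle (hFN.trans this)

end Cfsg.Agent.Lib.FrattiniBasic
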