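import Mathlib
import Cfsg.Agent.Lib.SL2Mat
set_option linter.all false

/-!
Automorphisms of `SL(2,F)` and of its central quotients, `F` a finite field.
-/

set_option autoImplicit false

namespace Cfsg.Agent.Lib.AutSL2

open Matrix Cfsg.Agent.Lib.SL2Mat
open scoped Pointwise

section sylow

variable {F : Type*} [Field F]

/-- the subgroup of upper unitriangular matrices -/
def upG (F : Type*) [Field F] : Subgroup (Matrix.SpecialLinearGroup (Fin 2) F) where
  carrier := Set.range up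
  mul_mem' := by
    rintro _ _ ⟨a, rfl⟩ ⟨b, rfl⟩
    exact ⟨a + b, (up_mul a b).symm⟩
  one_mem' := ⟨0, up_zero⟩
  inv_mem' := by
    rintro _ ⟨a, rfl⟩
    exact ⟨-a, (up_inv a).symm⟩

theorem mem_upG {x : Matrix.SpecialLinearGroup (Fin 2) F} : x ∈ upG F ↔ ∃ b, up b = x := Iff.rfl

theorem up_mem (b : F) : up b ∈ upG F := ⟨b, rfl⟩

theorem up_pow (b : F) (n : ℕ) : up b ^ n = up (n * b) := by
  induction n with
  | zero => simp [up_zero]
  | succ n ih => rw [pow_succ, ih, up_mul]; congr 1; push_cast; ring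

theorem isPGroup_upG (p : ℕ) [CharP F p] : IsPGroup p (upG F) := by
  rintro ⟨_, ⟨b, rfl⟩⟩
  refine ⟨1, ?_⟩
  apply Subtype.ext
  change up b ^ p ^ 1 = 1
  rw [pow_one, up_pow, CharP.cast_eq_zero, zero_mul, up_zero]

variable [Finite F]

theorem eq_upG_of_le {p : ℕ} [Fact p.Prime] [CharP F p] {Q : Subgroup (Matrix.SpecialLinearGroup (Fin 2) F)}
    (hQ : IsPGroup p Q) (hle : upG F ≤ Q) : Q = upG F := by
  refine le_antisymm ?_ hle
  have hdvd : p ∣ Nat.card (Fin 2 → F) := by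
    have := Fintype.ofFinite F
    obtain ⟨n, hp, hn⟩ := FiniteField.card F p
    rw [Nat.card_eq_fintype_card, Fintype.card_fun, hn, ← pow_mul]
    exact dvd_pow_self p (by positivity)
  have h0 : (0 : Fin 2 → F) ∈ MulAction.fixedPoints Q (Fin 2 → F) := fun q => smul_zero q
  obtain ⟨v, hv, hv0⟩ := hQ.exists_fixed_point_of_prime_dvd_card_of_fixed_point (Fin 2 → F) hdvd h0
  have key : ∀ x ∈ Q, ent x 0 0 * v 0 + ent x 0 1 * v 1 = v 0 ∧ ent x 1 0 * v 0 + ent x 1 1 * v 1 = v 1 := by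
    intro x hx
    have h1 : x.1 *ᵥ v = v := hv ⟨x, hx⟩
    constructor
    · have := congrFun h1 0
      rwa [Matrix.mulVec, dotProduct, Fin.sum_univ_two] at this
    · have := congrFun h1 1
      rwa [Matrix.mulVec, dotProduct, Fin.sum_univ_two] at this
  have h1 := (key (up 1) (hle (up_mem 1))).1
  rw [up_00, up_01, one_mul, one_mul, add_eq_left] at h1
  have hv00 : v 0 ≠ 0 := by
    intro h
    apply hv0
    funext i
    fin_cases i
    · exact h.symm
    · exact h1.symm
  intro x hx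
  obtain ⟨e1, e2⟩ := key x hx
  rw [h1, mul_zero, add_zero] at e1 e2
  have e3 : ent x 0 0 = 1 := by
    have : (ent x 0 0 - 1) * v 0 = 0 := by rw [sub_mul, e1]; ring
    rcases mul_eq_zero.1 this with h | h
    · exact sub_eq_zero.1 h
    · exact absurd h hv00
  have e4 : ent x 1 0 = 0 := by
    rcases mul_eq_zero.1 e2 with h | h
    · exact h
    · exact absurd h hv00
  have e5 : ent x 1 1 = 1 := by
    have := det_eq x
    rw [e3, e4] at this
    simpa using this
  exact ⟨ent x 0 1, ext_ent (by simp [e3]) (by simp) (by simp [e4]) (by simp [e5])⟩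

/-- the upper unitriangular matrices as a Sylow subgroup -/
def sylU (F : Type*) [Field F] [Finite F] (p : ℕ) [Fact p.Prime] [CharP F p] :
    Sylow p (Matrix.SpecialLinearGroup (Fin 2) F) where
  toSubgroup := upG F
  isPGroup' := isPGroup_upG p
  is_maximal' := eq_upG_of_le

end sylow

section main

theorem mem_smul_sylow {p : ℕ} {G : Type*} [Group G] (P : Sylow p G) (g x : G) :
    x ∈ g • P ↔ g⁻¹ * x * g ∈ P := by
  have : x ∈ g • P ↔ x ∈ MulAut.conj g • (P : Subgroup G) := Iff.rfl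
  rw [this, Subgroup.mem_pointwise_smul_iff_inv_smul_mem, ← map_inv, MulAut.smul_def, MulAut.conj_apply, inv_inv]
  rfl

theorem mem_aut_smul_sylow {p : ℕ} {G : Type*} [Group G] (P : Sylow p G) (γ : MulAut G) {x : G} (hx : x ∈ P) :
    γ x ∈ γ • P := by
  have : γ x ∈ γ • P ↔ γ x ∈ γ • (P : Subgroup G) := Iff.rfl
  rw [this, Subgroup.mem_pointwise_smul_iff_inv_smul_mem, MulAut.smul_def, MulAut.inv_apply_self]
  exact hx

theorem sylow_eq_of_le {p : ℕ} {G : Type*} [Group G] {P Q : Sylow p G} (h : ∀ x ∈ P, x ∈ Q) : Q = P :=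
  Sylow.ext (P.is_maximal' Q.isPGroup' h)

variable {F : Type*} [Field F] [Finite F] {G : Type*} [Group G]

/-- a bijective additive map with `σ (b²c) = (σ b)² σ c` and `σ 1 = 1` is multiplicative -/
theorem mul_of_sq (σ : F → F) (hadd : ∀ b c, σ (b + c) = σ b + σ c) (h1 : σ 1 = 1)
    (hsq : ∀ b c, σ (b ^ 2 * c) = σ b ^ 2 * σ c) (x c : F) : σ (x * c) = σ x * σ c := by
  have hs : ∀ b, σ (b ^ 2) = σ b ^ 2 := by
    intro b; have := hsq b 1; rwa [mul_one, h1, mul_one] at this
  have hz : σ 0 = 0 := by have := hadd 0 0; rw [add_zero] at this; simpa using this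
  have hneg : ∀ b, σ (-b) = - σ b := by
    intro b
    have := hadd b (-b)
    rw [add_neg_cancel, hz] at this
    exact (neg_eq_of_add_eq_zero_right this.symm).symm
  by_cases h2 : (2 : F) = 0
  · have hch : CharP F 2 := by
      refine CharTwo.of_one_ne_zero_of_two_eq_zero one_ne_zero h2
    obtain ⟨y, hy⟩ := FiniteField.isSquare_of_char_two (ringChar.eq F 2 ▸ rfl : ringChar F = 2) x
    rw [hy, ← sq, hsq, hs]
  · have hx : x = ((x + 1) / 2) ^ 2 + (-((x - 1) / 2) ^ 2) := by field_simp; ring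
    have e1 : x * c = ((x + 1) / 2) ^ 2 * c + (-(((x - 1) / 2) ^ 2 * c)) := by
      conv_lhs => rw [hx]
      ring
    rw [e1, hadd, hneg, hsq, hsq]
    conv_rhs => rw [hx, hadd, hneg, hs, hs]
    ring

/-- The main theorem for an automorphism of a central quotient `G` of `SL(2,F)`. -/
theorem exists_gl_ringEquiv (π : Matrix.SpecialLinearGroup (Fin 2) F →* G) (hπ : Function.Surjective π)
    (hk : π.ker ≤ Subgroup.center (Matrix.SpecialLinearGroup (Fin 2) F)) (α : MulAut G) :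
    ∃ (g : GL (Fin 2) F) (σ : F ≃+* F), ∀ x : Matrix.SpecialLinearGroup (Fin 2) F,
      α (π x) = π (conjGL g (fieldAut σ x)) := by
  classical
  obtain ⟨p, hpc⟩ := CharP.exists F
  have : CharP F p := hpc
  have hp : Fact p.Prime := ⟨CharP.char_is_prime F p⟩
  have : Finite G := Finite.of_surjective π hπ
  -- the two standard Sylow subgroups of `G`
  obtain ⟨P, hPmem⟩ : ∃ P : Sylow p G, ∀ x : G, x ∈ P ↔ ∃ b, π (up b) = x := by
    refine ⟨(sylU F p).mapSurjective hπ, fun x => ?_⟩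
    constructor
    · rintro ⟨y, ⟨b, rfl⟩, hy⟩
      exact ⟨b, hy⟩
    · rintro ⟨b, hb⟩
      exact ⟨up b, up_mem b, hb⟩
  have hinj : ∀ x y : Matrix.SpecialLinearGroup (Fin 2) F, π x = π y →
      ent (x * y⁻¹) 0 1 = 0 ∧ ent (x * y⁻¹) 1 0 = 0 := by
    intro x y h
    apply mem_center_offdiag
    apply hk
    rw [MonoidHom.mem_ker, map_mul, map_inv, h, mul_inv_cancel]
  have hupinj : ∀ b c : F, π (up b) = π (up c) → b = c := by
    intro b c h
    have := (hinj _ _ h).1
    rw [up_inv, up_mul, up_01] at this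
    linear_combination this
  have hloinj : ∀ b c : F, π (lo b) = π (lo c) → b = c := by
    intro b c h
    have := (hinj _ _ h).2
    rw [lo_inv, lo_mul, lo_10] at this
    linear_combination this
  have h1 : (1 : F) ≠ 0 := one_ne_zero
  have hupP : ∀ b, π (up b) ∈ P := fun b => (hPmem _).2 ⟨b, rfl⟩
  have hupfix : ∀ b, π (up b) • P = P := by
    intro b
    apply sylow_eq_of_le
    intro x hx
    rw [mem_smul_sylow]
    exact mul_mem (mul_mem (inv_mem (hupP b)) hx) (hupP b)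
  have hdgfix : ∀ b (hb : b ≠ 0), π (dg b hb) • P = P := by
    intro b hb
    apply sylow_eq_of_le
    intro x hx
    obtain ⟨c, rfl⟩ := (hPmem x).1 hx
    rw [mem_smul_sylow]
    have : up c * dg b hb = dg b hb * up (c / b ^ 2) := by
      rw [dg_up]; congr 2; field_simp
    rw [mul_assoc, ← map_mul, this, map_mul, inv_mul_cancel_left]
    exact hupP _
  -- `Q`: the lower unitriangular Sylow subgroup
  obtain ⟨Q, hQ⟩ : ∃ Q : Sylow p G, Q = π (wm 1 h1) • P := ⟨_, rfl⟩
  have hQmem : ∀ x : G, x ∈ Q ↔ ∃ b, π (lo b) = x := by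
    intro x
    rw [hQ, mem_smul_sylow, hPmem]
    constructor
    · rintro ⟨b, hb⟩
      refine ⟨-b, ?_⟩
      have e : x = π (wm 1 h1) * π (up b) * (π (wm 1 h1))⁻¹ := by rw [hb]; group
      rw [e, ← map_mul, wm_up, map_mul]
      simp
    · rintro ⟨b, rfl⟩
      refine ⟨-b, ?_⟩
      have : lo b * wm 1 h1 = wm 1 h1 * up (-b) := by
        rw [wm_up]; simp
      rw [mul_assoc, ← map_mul, this, map_mul, inv_mul_cancel_left]
  have hwm : ∀ b (hb : b ≠ 0), π (wm b hb) • P = Q := by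
    intro b hb
    have : wm b hb = wm 1 h1 * dg b⁻¹ (inv_ne_zero hb) := by
      refine ext_ent ?_ ?_ ?_ ?_ <;> simp [ent_mul]
    rw [this, map_mul, mul_smul, hdgfix, hQ]
  have hPQ : P ≠ Q := by
    intro h
    have : π (lo 1) ∈ P := by rw [h, hQmem]; exact ⟨1, rfl⟩
    obtain ⟨b, hb⟩ := (hPmem _).1 this
    have := (hinj _ _ hb).2
    rw [lo_inv, ent_mul, up_10, up_11, lo_10] at this
    simp at this
  -- normalise `α`
  obtain ⟨g1, hg1⟩ := MulAction.exists_smul_eq G (α • P) P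
  obtain ⟨g2, hg2⟩ := MulAction.exists_smul_eq G P (g1 • α • Q)
  obtain ⟨y, rfl⟩ := hπ g2
  have hc : ent y 1 0 ≠ 0 := by
    intro hc
    have hd := det_eq y
    have ha : ent y 0 0 ≠ 0 := by
      intro h; rw [hc, h] at hd; simp at hd
    have hy : y = dg (ent y 0 0) ha * up (ent y 0 1 / ent y 0 0) := by
      rw [hc, mul_zero, sub_zero] at hd
      refine ext_ent ?_ ?_ ?_ ?_ <;> simp [ent_mul, hc]
      · field_simp
      · exact eq_inv_of_mul_eq_one_right hd
    rw [hy, map_mul, mul_smul, hupfix, hdgfix] at hg2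
    apply hPQ
    have h3 : g1 • α • P = g1 • α • Q := by rw [← hg2, hg1]
    exact smul_left_cancel _ (smul_left_cancel _ h3)
  obtain ⟨u0, hu0⟩ : ∃ u0 : F, π (up u0) • g1 • α • Q = Q := by
    refine ⟨-(ent y 0 0 / ent y 1 0), ?_⟩
    have hb : -(ent y 1 0)⁻¹ ≠ 0 := neg_ne_zero.2 (inv_ne_zero hc)
    have : up (-(ent y 0 0 / ent y 1 0)) * y = wm (-(ent y 1 0)⁻¹) hb * up (ent y 1 1 / ent y 1 0) := by
      have hd := det_eq y
      refine ext_ent ?_ ?_ ?_ ?_ <;> simp [ent_mul]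
      · field_simp; ring
      · field_simp; linear_combination -hd
      · field_simp
    rw [← hg2, ← mul_smul, ← map_mul, this, map_mul, mul_smul, hupfix, hwm]
  obtain ⟨k', hk'⟩ := hπ (π (up u0) * g1)
  obtain ⟨γ, hγ⟩ : ∃ γ : MulAut G, γ = MulAut.conj (π k') * α := ⟨_, rfl⟩
  have hconj : ∀ (g : G) (R : Sylow p G), MulAut.conj g • R = g • R := fun g R => Sylow.smul_def.symm
  have hγP : γ • P = P := by
    rw [hγ, mul_smul, hconj, hk', mul_smul, hg1, hupfix]
  have hγQ : γ • Q = Q := by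
    rw [hγ, mul_smul, hconj, hk', mul_smul, hu0]
  have hαγ : ∀ x, α x = (π k')⁻¹ * γ x * π k' := by
    intro x; rw [hγ, MulAut.mul_apply, MulAut.conj_apply]; group
  clear hγ hk' hu0 hc hg2 hg1
  have hφ : ∀ b, ∃ c, π (up c) = γ (π (up b)) := by
    intro b
    have := mem_aut_smul_sylow P γ (hupP b)
    rw [hγP] at this
    exact (hPmem _).1 this
  have hψ : ∀ b, ∃ c, π (lo c) = γ (π (lo b)) := by
    intro b
    have := mem_aut_smul_sylow Q γ ((hQmem _).2 ⟨b, rfl⟩)
    rw [hγQ] at this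
    exact (hQmem _).1 this
  choose φ hφ using hφ
  choose ψ hψ using hψ
  have hφadd : ∀ b c, φ (b + c) = φ b + φ c := by
    intro b c
    apply hupinj
    rw [hφ, ← up_mul, ← up_mul, map_mul, map_mul, map_mul, hφ, hφ]
  have hφinj : Function.Injective φ := by
    intro b c h
    apply hupinj
    apply γ.injective
    rw [← hφ, ← hφ, h]
  have hφ0 : φ 0 = 0 := by have := hφadd 0 0; rw [add_zero] at this; simpa using this
  have hφne : ∀ b, b ≠ 0 → φ b ≠ 0 := fun b hb h => hb (hφinj (by rw [h, hφ0]))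
  have hψ0 : ψ 0 = 0 := by
    apply hloinj
    rw [hψ, lo_zero, map_one, map_one]
  -- the Weyl element relation
  have hrel : ∀ b, b ≠ 0 → 1 + φ b * ψ (-b⁻¹) = 0 := by
    intro b hb
    have e1 : γ (π (wm b hb)) = π (lo (ψ (-b⁻¹)) * up (φ b) * lo (ψ (-b⁻¹))) := by
      rw [wm_eq, map_mul, map_mul, map_mul, map_mul, map_mul, map_mul, hψ, hφ]
    have e2 : γ (π (wm b hb)) • P = Q := by
      have h3 : MulAut.conj (γ (π (wm b hb))) * γ = γ * MulAut.conj (π (wm b hb)) := by
        ext x; simp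
      calc γ (π (wm b hb)) • P = MulAut.conj (γ (π (wm b hb))) • (γ • P) := by rw [hγP, hconj]
        _ = γ • (π (wm b hb) • P) := by rw [← mul_smul, h3, mul_smul, hconj]
        _ = Q := by rw [hwm, hγQ]
    rw [e1] at e2
    obtain ⟨y', hy'⟩ : ∃ y', y' = lo (ψ (-b⁻¹)) * up (φ b) * lo (ψ (-b⁻¹)) := ⟨_, rfl⟩
    rw [← hy'] at e2
    have e3 : π (y' * up 1 * y'⁻¹) ∈ Q := by
      rw [← e2, mem_smul_sylow]
      have : (π y')⁻¹ * π (y' * up 1 * y'⁻¹) * π y' = π (up 1) := by
        rw [← map_inv, ← map_mul, ← map_mul]; congr 1; group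
      rw [this]; exact hupP 1
    obtain ⟨c, hc⟩ := (hQmem _).1 e3
    have e4 := (hinj _ _ hc.symm).1
    rw [lo_inv, ent_inv] at e4
    simp only [ent_mul, up_00, up_01, up_10, up_11, lo_01, lo_11, mk_01, mk_11] at e4
    have e5 : ent y' 0 0 = 0 := by
      have : ent y' 0 0 ^ 2 = 0 := by linear_combination e4
      exact pow_eq_zero_iff (two_ne_zero) |>.1 this
    rw [hy'] at e5
    simp only [ent_mul, up_00, up_01, up_10, up_11, lo_00, lo_01, lo_10] at e5
    linear_combination e5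
  have hψeq : ∀ b, b ≠ 0 → ψ (-b⁻¹) = -(φ b)⁻¹ := by
    intro b hb
    have := hrel b hb
    have hb' := hφne b hb
    rw [← mul_left_inj' hb', neg_mul, inv_mul_cancel₀ hb']
    linear_combination this
  have hwmeq : ∀ b (hb : b ≠ 0), γ (π (wm b hb)) = π (wm (φ b) (hφne b hb)) := by
    intro b hb
    rw [wm_eq, wm_eq (φ b), map_mul, map_mul, map_mul, map_mul, ← hψ, ← hφ, hψeq b hb, map_mul, map_mul]
  have ha : φ 1 ≠ 0 := hφne 1 h1
  have hdgeq : ∀ b (hb : b ≠ 0), γ (π (dg b hb)) = π (dg (φ b / φ 1) (div_ne_zero (hφne b hb) ha)) := by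
    intro b hb
    have e1 : wm b hb = dg b hb * wm 1 h1 := by
      refine ext_ent ?_ ?_ ?_ ?_ <;> simp [ent_mul]
    have e2 := congrArg (fun x => γ (π x)) e1
    simp only [map_mul] at e2
    rw [hwmeq b hb, hwmeq 1 h1, wm_eq_dg_mul (φ b) (φ 1) (hφne b hb) ha, map_mul] at e2
    exact (mul_right_cancel e2).symm
  have hsq : ∀ b c, φ (b ^ 2 * c) = (φ b / φ 1) ^ 2 * φ c := by
    intro b c
    by_cases hb : b = 0
    · subst hb; simp [hφ0]
    · apply hupinj
      have e1 := congrArg (fun x => γ (π x)) (dg_up b c hb)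
      simp only [map_mul] at e1
      rw [hdgeq b hb, ← hφ, ← hφ, ← map_mul, dg_up, map_mul] at e1
      exact (mul_right_cancel e1).symm
  -- the field automorphism
  have hσ1 : φ 1 / φ 1 = 1 := div_self ha
  have hσadd : ∀ b c, φ (b + c) / φ 1 = φ b / φ 1 + φ c / φ 1 := by
    intro b c; rw [hφadd, add_div]
  have hσmul : ∀ b c, φ (b * c) / φ 1 = φ b / φ 1 * (φ c / φ 1) := by
    intro b c
    refine mul_of_sq (fun b => φ b / φ 1) hσadd hσ1 ?_ b c
    intro b c
    change φ (b ^ 2 * c) / φ 1 = (φ b / φ 1) ^ 2 * (φ c / φ 1)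
    rw [hsq]; ring
  obtain ⟨σ, hσ⟩ : ∃ σ : F ≃+* F, ∀ b, σ b = φ b / φ 1 := by
    let σ0 : F →+* F :=
      { toFun := fun b => φ b / φ 1
        map_one' := hσ1
        map_mul' := hσmul
        map_zero' := by simp [hφ0]
        map_add' := hσadd }
    exact ⟨RingEquiv.ofBijective σ0 (Finite.injective_iff_bijective.1 σ0.injective), fun b => rfl⟩
  have hγσ : ∀ x, γ (π x) = π (conjGL (dgl (φ 1) ha) (fieldAut σ x)) := by
    have := hom_ext (γ.toMonoidHom.comp π)
      (π.comp ((conjGL (dgl (φ 1) ha)).toMonoidHom.comp (fieldAut σ).toMonoidHom)) ?_ ?_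
    · intro x
      exact DFunLike.congr_fun this x
    · intro b
      change γ (π (up b)) = π (conjGL (dgl (φ 1) ha) (fieldAut σ (up b)))
      rw [fieldAut_up, conjGL_dgl_up, hσ, mul_div_cancel₀ _ ha, hφ]
    · intro b
      change γ (π (lo b)) = π (conjGL (dgl (φ 1) ha) (fieldAut σ (lo b)))
      rw [fieldAut_lo, conjGL_dgl_lo, ← hψ]
      congr 2
      by_cases hb : b = 0
      · subst hb; rw [hψ0, map_zero, zero_div]
      · have h3 := hψeq (-b⁻¹) (neg_ne_zero.2 (inv_ne_zero hb))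
        have h4 : -(-b⁻¹)⁻¹ = b := by field_simp
        rw [h4] at h3
        have h5 : φ (-b⁻¹) = φ 1 * σ (-b⁻¹) := by
          rw [hσ, mul_div_cancel₀ _ ha]
        have h6 : σ b ≠ 0 := by rwa [ne_eq, map_eq_zero]
        rw [h3, h5, map_neg, map_inv₀]
        field_simp
  refine ⟨Matrix.SpecialLinearGroup.toGL k'⁻¹ * dgl (φ 1) ha, σ, fun x => ?_⟩
  rw [hαγ, hγσ, map_mul, MulAut.mul_apply, conjGL_toGL, map_mul, map_mul, inv_inv, map_inv]

end main

end Cfsg.Agent.Lib.AutSL2
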