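import Mathlib
import Cfsg.Agent.Lib.AutSL2
set_option linter.all false

/-!
`Out(SL(2,F))` is abelian, `F` a finite field: commutators of automorphisms are inner.
-/

set_option autoImplicit false

namespace Cfsg.Agent.Lib.AutSL2Out

open Matrix Cfsg.Agent.Lib.SL2Mat Cfsg.Agent.Lib.AutSL2

section

variable {F : Type*} [Field F]

/-- a field automorphism normalizes the image of `GL(2,F)` -/
theorem fieldAut_mul_conjGL (σ : F ≃+* F) (g : GL (Fin 2) F) :
    fieldAut σ * conjGL g = conjGL (Matrix.GeneralLinearGroup.map σ.toRingHom g) * fieldAut σ := by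
  apply MulEquiv.ext
  intro x
  apply Subtype.ext
  change (σ.toRingHom.mapMatrix (g.1 * x.1 * g⁻¹.1)) =
    (Matrix.GeneralLinearGroup.map σ.toRingHom g).1 * (σ.toRingHom.mapMatrix x.1) *
      (Matrix.GeneralLinearGroup.map σ.toRingHom g)⁻¹.1
  rw [map_mul, map_mul, ← map_inv]
  rfl

theorem ringEquiv_comm [Finite F] (σ τ : F ≃+* F) : σ * τ = τ * σ := by
  obtain ⟨p, hpc⟩ := CharP.exists F
  have : CharP F p := hpc
  have hp : Fact p.Prime := ⟨CharP.char_is_prime F p⟩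
  let _ : Algebra (ZMod p) F := ZMod.algebra F p
  have hcomm : ∀ (ρ : F ≃+* F) (r : ZMod p), ρ (algebraMap (ZMod p) F r) = algebraMap (ZMod p) F r := by
    intro ρ r
    obtain ⟨n, rfl⟩ := ZMod.natCast_zmod_surjective r
    rw [map_natCast, map_natCast]
  let σ' : F ≃ₐ[ZMod p] F := AlgEquiv.ofRingEquiv (f := σ) (hcomm σ)
  let τ' : F ≃ₐ[ZMod p] F := AlgEquiv.ofRingEquiv (f := τ) (hcomm τ)
  have h : σ' * τ' = τ' * σ' := by
    let _ := IsCyclic.commGroup (α := Gal(F/ZMod p))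
    exact mul_comm _ _
  ext x
  exact DFunLike.congr_fun h x

theorem isSquare_mul_map [Finite F] (τ : F ≃+* F) (x : F) : IsSquare (x * τ x) := by
  have := Fintype.ofFinite F
  by_cases hx : x = 0
  · subst hx; simp
  by_cases h2 : ringChar F = 2
  · exact FiniteField.isSquare_of_char_two h2 _
  · rw [FiniteField.isSquare_iff h2 (mul_ne_zero hx (by rwa [ne_eq, map_eq_zero])), mul_pow, ← map_pow]
    rcases FiniteField.pow_dichotomy h2 hx with h | h
    · rw [h, map_one, one_mul]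
    · rw [h, map_neg, map_one, neg_mul_neg, one_mul]

theorem conjGL_of_det_sq (k : GL (Fin 2) F) (d : F) (hd : d ≠ 0) (h : k.1.det = d ^ 2) :
    ∃ s : Matrix.SpecialLinearGroup (Fin 2) F, ∀ x, conjGL k x = s * x * s⁻¹ := by
  refine ⟨⟨d⁻¹ • k.1, by rw [Matrix.det_smul, h, Fintype.card_fin]; field_simp⟩, fun x => ?_⟩
  refine eq_mul_inv_of_mul_eq (Subtype.ext ?_)
  change (k.1 * x.1 * k⁻¹.1) * (d⁻¹ • k.1) = (d⁻¹ • k.1) * x.1
  rw [Matrix.mul_smul, Matrix.mul_assoc, inv_val_mul_val, Matrix.mul_one, Matrix.smul_mul]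

variable [Finite F]

theorem exists_eq (α : MulAut (Matrix.SpecialLinearGroup (Fin 2) F)) :
    ∃ (g : GL (Fin 2) F) (σ : F ≃+* F), α = conjGL g * fieldAut σ := by
  obtain ⟨g, σ, h⟩ := exists_gl_ringEquiv (MonoidHom.id (Matrix.SpecialLinearGroup (Fin 2) F))
    Function.surjective_id (by rw [MonoidHom.ker_id]; exact bot_le) α
  exact ⟨g, σ, MulEquiv.ext h⟩

/-- commutators of automorphisms of `SL(2,F)` are inner -/
theorem commutator_inner (α β : MulAut (Matrix.SpecialLinearGroup (Fin 2) F)) :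
    ∃ s : Matrix.SpecialLinearGroup (Fin 2) F, ∀ x, (α * β * α⁻¹ * β⁻¹) x = s * x * s⁻¹ := by
  obtain ⟨g, σ, rfl⟩ := exists_eq α
  obtain ⟨h, τ, rfl⟩ := exists_eq β
  have e1 : (conjGL g * fieldAut σ) * (conjGL h * fieldAut τ) =
      conjGL (g * Matrix.GeneralLinearGroup.map σ.toRingHom h) * fieldAut (σ * τ) := by
    rw [mul_assoc, ← mul_assoc (fieldAut σ), fieldAut_mul_conjGL, map_mul, map_mul]
    simp only [mul_assoc]
  have e2 : (conjGL h * fieldAut τ) * (conjGL g * fieldAut σ) =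
      conjGL (h * Matrix.GeneralLinearGroup.map τ.toRingHom g) * fieldAut (τ * σ) := by
    rw [mul_assoc, ← mul_assoc (fieldAut τ), fieldAut_mul_conjGL, map_mul, map_mul]
    simp only [mul_assoc]
  have e3 : (conjGL g * fieldAut σ) * (conjGL h * fieldAut τ) * (conjGL g * fieldAut σ)⁻¹ * (conjGL h * fieldAut τ)⁻¹ =
      conjGL ((g * Matrix.GeneralLinearGroup.map σ.toRingHom h) *
        (h * Matrix.GeneralLinearGroup.map τ.toRingHom g)⁻¹) := by
    rw [mul_assoc _ (_)⁻¹ (_)⁻¹, ← _root_.mul_inv_rev, e1, e2, ringEquiv_comm σ τ,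
      map_mul conjGL (g * Matrix.GeneralLinearGroup.map σ.toRingHom h)
        (h * Matrix.GeneralLinearGroup.map τ.toRingHom g)⁻¹, map_inv]
    group
  rw [e3]
  have hdet : ((g * Matrix.GeneralLinearGroup.map σ.toRingHom h) *
        (h * Matrix.GeneralLinearGroup.map τ.toRingHom g)⁻¹).1.det =
      (g.1.det * σ h.1.det) * (h.1.det * τ g.1.det)⁻¹ := by
    have e4 : ∀ x : GL (Fin 2) F, x.1.det = ((Matrix.GeneralLinearGroup.det x : Fˣ) : F) := fun _ => rfl
    have e5 : ∀ (ρ : F ≃+* F) (x : GL (Fin 2) F),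
        ((Matrix.GeneralLinearGroup.det (Matrix.GeneralLinearGroup.map ρ.toRingHom x) : Fˣ) : F) = ρ x.1.det := by
      intro ρ x
      exact (RingHom.map_det ρ.toRingHom x.1).symm
    rw [e4, map_mul, map_mul, map_inv, map_mul, Units.val_mul, Units.val_mul, Units.val_inv_eq_inv_val,
      Units.val_mul, e5, e5, ← e4, ← e4]
  have hg : g.1.det ≠ 0 := (Matrix.GeneralLinearGroup.det g).ne_zero
  have hh : h.1.det ≠ 0 := (Matrix.GeneralLinearGroup.det h).ne_zero
  obtain ⟨a, ha⟩ := isSquare_mul_map τ g.1.det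
  obtain ⟨b, hb⟩ := isSquare_mul_map σ h.1.det
  have hτ : τ g.1.det ≠ 0 := by rwa [ne_eq, map_eq_zero]
  have hσ : σ h.1.det ≠ 0 := by rwa [ne_eq, map_eq_zero]
  have ha0 : a ≠ 0 := by rintro rfl; rw [mul_zero] at ha; exact (mul_ne_zero hg hτ) ha
  have hb0 : b ≠ 0 := by rintro rfl; rw [mul_zero] at hb; exact (mul_ne_zero hh hσ) hb
  refine conjGL_of_det_sq _ (a * b * (h.1.det * τ g.1.det)⁻¹) (by positivity) ?_
  rw [hdet]
  field_simp
  linear_combination (h.1.det * σ h.1.det) * ha + a ^ 2 * hb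

end

end Cfsg.Agent.Lib.AutSL2Out
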