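import Mathlib
import Cfsg.Agent.Lib.PSL2Circle
set_option linter.all false

/-!
# Automorphisms of `PSL(2,F)` of `r`-power order fixing an involution
-/

set_option autoImplicit false

namespace Cfsg.Agent.Lib.PSL2Inv

open Matrix Cfsg.Agent.Lib.SL2Mat Cfsg.Agent.Lib.AutSL2 Cfsg.Agent.Lib.AutSL2Out
open Cfsg.Agent.Lib.PSL2Circle

section arith

/-- `(Z ^ r - 1) / (Z - 1)` is not a power of the odd prime `r`, for `Z ≥ 2` or `Z ≤ -3`. -/
theorem geom_ne {r : ℕ} (hr : r.Prime) (hr2 : r ≠ 2) {Z : ℤ} (hZ : 2 ≤ Z ∨ Z ≤ -3) {i : ℕ}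
    (h : (r : ℤ) ^ i * (Z - 1) = Z ^ r - 1) : False := by
  have hrodd : Odd r := hr.odd_of_ne_two hr2
  have hr3 : 3 ≤ r := by
    have := hr.two_le
    obtain ⟨k, hk⟩ := hrodd
    omega
  have hZ1 : Z - 1 ≠ 0 := by omega
  have hM : (r : ℤ) ^ i = ∑ j ∈ Finset.range r, Z ^ j := by
    have h1 : (∑ j ∈ Finset.range r, Z ^ j) * (Z - 1) = Z ^ r - 1 := geom_sum_mul Z r
    exact mul_right_cancel₀ hZ1 (h.trans h1.symm)
  -- size
  have hsize : (r : ℤ) * |Z - 1| < |Z ^ r - 1| := by
    rcases hZ with hZ | hZ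
    · rw [abs_of_pos (by omega), abs_of_pos]
      · have h2 : (r : ℤ) < ∑ j ∈ Finset.range r, Z ^ j := by
          have h3 : ∑ j ∈ Finset.range r, (1 : ℤ) < ∑ j ∈ Finset.range r, Z ^ j := by
            apply Finset.sum_lt_sum
            · intro j _
              exact one_le_pow₀ (by omega)
            · exact ⟨1, Finset.mem_range.2 (by omega), by rw [pow_one]; omega⟩
          rwa [Finset.sum_const, Finset.card_range, nsmul_eq_mul, mul_one] at h3
        rw [← h, hM]
        exact mul_lt_mul_of_pos_right h2 (by omega)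
      · rw [← h]
        have : (0 : ℤ) < (r : ℤ) ^ i := pow_pos (by exact_mod_cast hr.pos) i
        exact mul_pos this (by omega)
    · obtain ⟨a, ha⟩ : ∃ a : ℤ, Z = -a := ⟨-Z, by ring⟩
      subst ha
      have ha3 : 3 ≤ a := by omega
      have e1 : (-a) ^ r = -(a ^ r) := hrodd.neg_pow a
      rw [e1]
      have h3 : |-a - 1| = a + 1 := by rw [abs_of_neg (by omega)]; ring
      have hap : 0 < a ^ r := pow_pos (by omega) r
      have h4 : |-(a ^ r) - 1| = a ^ r + 1 := by rw [abs_of_neg (by omega)]; ring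
      rw [h3, h4]
      have h5 : ∀ n : ℕ, 3 ≤ n → 2 * (n : ℤ) ≤ 3 ^ (n - 1) := by
        intro n hn
        induction n, hn using Nat.le_induction with
        | base => norm_num
        | succ n hn ih =>
          have : n + 1 - 1 = (n - 1) + 1 := by omega
          rw [this, pow_succ]
          push_cast
          linarith
      have h6 : (3 : ℤ) ^ (r - 1) ≤ a ^ (r - 1) := pow_le_pow_left₀ (by norm_num) ha3 _
      have h7 : a ^ r = a ^ (r - 1) * a := by
        rw [← pow_succ]; congr 1; omega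
      have h8 := h5 r hr3
      have h9 : 2 * (r : ℤ) * a ≤ a ^ r := by
        rw [h7]
        exact mul_le_mul_of_nonneg_right (h8.trans h6) (by omega)
      have h10 : (r : ℤ) * (a + 1) ≤ 2 * (r : ℤ) * a := by
        have : (0 : ℤ) ≤ r := by positivity
        nlinarith
      linarith
  have hcases : i = 0 ∨ i = 1 ∨ 2 ≤ i := by omega
  rcases hcases with hi | hi | hi
  · subst hi
    rw [pow_zero, one_mul] at h
    rw [← h] at hsize
    have : (1 : ℤ) ≤ r := by exact_mod_cast hr.one_le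
    have h0 : 0 ≤ |Z - 1| := abs_nonneg _
    nlinarith
  · subst hi
    rw [pow_one] at h
    rw [← h, abs_mul, abs_of_nonneg (show (0 : ℤ) ≤ r by positivity)] at hsize
    exact lt_irrefl _ hsize
  · -- `Z ≡ 1 mod r`
    have hri : (r : ℤ) ∣ (r : ℤ) ^ i := dvd_pow_self _ (by omega)
    have hdvd : (r : ℤ) ∣ Z ^ r - 1 := by
      rw [← h]; exact hri.mul_right _
    have : Fact r.Prime := ⟨hr⟩
    have hZr : (r : ℤ) ∣ Z - 1 := by
      rw [← ZMod.intCast_zmod_eq_zero_iff_dvd] at hdvd ⊢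
      push_cast at hdvd ⊢
      rwa [ZMod.pow_card] at hdvd
    obtain ⟨k, hk⟩ := hZr
    have hZk : Z = 1 + r * k := by linarith
    have h1 := odd_sq_dvd_geom_sum₂_sub (a := (1 : ℤ)) (b := k) hrodd
    simp only [one_pow, mul_one] at h1
    rw [← hZk, ← hM] at h1
    have h2 : (r : ℤ) ^ 2 ∣ (r : ℤ) ^ i := pow_dvd_pow _ hi
    have h3 : (r : ℤ) ^ 2 ∣ r := by
      have := (dvd_sub h2 h1)
      rwa [sub_sub_cancel] at this
    have h4 : r ^ 2 ∣ r := by exact_mod_cast h3
    have h5 := Nat.le_of_dvd hr.pos h4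
    nlinarith

/-- The index computation: `q = q₁ ^ m`, `m` a power of `r`; if `(q - ε) / (q₁ - ε)` is a power
of `r` then `m = 1`. -/
theorem eq_of_pow {r : ℕ} (hr : r.Prime) (hr2 : r ≠ 2) {q₁ c j N N₁ : ℕ} (hq₁ : 2 ≤ q₁)
    (hN : (q₁ ^ r ^ c % 4 = 1 ∧ N = q₁ ^ r ^ c - 1) ∨ (q₁ ^ r ^ c % 4 = 3 ∧ N = q₁ ^ r ^ c + 1))
    (hN₁ : (q₁ % 4 = 1 ∧ N₁ = q₁ - 1) ∨ (q₁ % 4 = 3 ∧ N₁ = q₁ + 1))
    (h : N = N₁ * r ^ j) : c = 0 := by
  by_contra hc
  obtain ⟨c', rfl⟩ : ∃ c', c = c' + 1 := ⟨c - 1, by omega⟩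
  have hrodd : Odd r := hr.odd_of_ne_two hr2
  have hkodd : Odd (r ^ c') := hrodd.pow
  have hmodd : Odd (r ^ (c' + 1)) := hrodd.pow
  -- the sign
  have hmod : q₁ ^ r ^ (c' + 1) % 4 = q₁ % 4 := by
    have h4 : q₁ % 4 = 1 ∨ q₁ % 4 = 3 := by
      rcases hN₁ with h | h
      · exact Or.inl h.1
      · exact Or.inr h.1
    obtain ⟨k, hk⟩ := hmodd
    rw [hk, pow_succ, pow_mul, Nat.mul_mod, Nat.pow_mod, Nat.pow_mod q₁ 2]
    rcases h4 with h4 | h4
    · rw [h4]; simp
    · rw [h4]; simp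
  obtain ⟨ε, hε, hεN, hεN₁, hεZ⟩ : ∃ ε : ℤ, (ε = 1 ∨ ε = -1) ∧
      (N : ℤ) = (q₁ : ℤ) ^ r ^ (c' + 1) - ε ∧ (N₁ : ℤ) = q₁ - ε ∧
      (ε = 1 → 4 < q₁) := by
    have hpos : 1 ≤ q₁ ^ r ^ (c' + 1) := Nat.one_le_pow _ _ (by omega)
    rcases hN₁ with h1 | h1
    · rcases hN with h2 | h2
      · refine ⟨1, Or.inl rfl, ?_, ?_, ?_⟩
        · rw [h2.2]; push_cast [Nat.cast_sub hpos]; ring
        · rw [h1.2]; push_cast [Nat.cast_sub (show 1 ≤ q₁ by omega)]; ring
        · intro _; omega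
      · omega
    · rcases hN with h2 | h2
      · omega
      · refine ⟨-1, Or.inr rfl, ?_, ?_, ?_⟩
        · rw [h2.2]; push_cast; ring
        · rw [h1.2]; push_cast; ring
        · intro h; norm_num at h
  have hεodd : ∀ n : ℕ, Odd n → ε ^ n = ε := by
    intro n hn
    rcases hε with rfl | rfl
    · exact one_pow n
    · exact hn.neg_one_pow
  have hεsq : ε * ε = 1 := by rcases hε with rfl | rfl <;> norm_num
  set Z₁ : ℤ := ε * q₁ with hZ₁
  set Z : ℤ := Z₁ ^ r ^ c' with hZ
  have hZ' : Z = ε * (q₁ : ℤ) ^ r ^ c' := by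
    rw [hZ, hZ₁, mul_pow, hεodd _ hkodd]
  have hZr : Z ^ r = ε * (q₁ : ℤ) ^ r ^ (c' + 1) := by
    rw [hZ, hZ₁, ← pow_mul, ← pow_succ, mul_pow, hεodd _ hmodd]
  have hZ₁ne : Z₁ - 1 ≠ 0 := by
    rcases hε with h' | h'
    · have := hεZ h'
      rw [hZ₁, h']; push_cast; omega
    · rw [hZ₁, h']; omega
  have e1 : Z ^ r - 1 = (Z₁ - 1) * (r : ℤ) ^ j := by
    have h1 : (N : ℤ) = N₁ * (r : ℤ) ^ j := by rw [h]; push_cast; ring
    rw [hεN, hεN₁] at h1
    have h2 : Z ^ r - 1 = ε * ((q₁ : ℤ) ^ r ^ (c' + 1) - ε) := by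
      rw [hZr]; linear_combination hεsq
    rw [h2, h1, hZ₁]
    linear_combination (-(r : ℤ) ^ j) * hεsq
  obtain ⟨Y, hY⟩ : (Z₁ - 1) ∣ (Z - 1) := by
    have := sub_dvd_pow_sub_pow Z₁ 1 (r ^ c')
    rwa [one_pow] at this
  obtain ⟨M, hM⟩ : (Z - 1) ∣ (Z ^ r - 1) := by
    have := sub_dvd_pow_sub_pow Z 1 r
    rwa [one_pow] at this
  have e2 : Y * M = (r : ℤ) ^ j := by
    apply mul_left_cancel₀ hZ₁ne
    rw [← e1, hM, hY]; ring
  have hMr : M ∣ (r : ℤ) ^ j := ⟨Y, by rw [← e2]; ring⟩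
  have hq3 : (3 : ℤ) ≤ (q₁ : ℤ) ^ r ^ c' := by
    have h3 : 3 ≤ q₁ := by
      rcases hN₁ with h' | h' <;> omega
    have h4 : (q₁ : ℤ) ^ 1 ≤ (q₁ : ℤ) ^ r ^ c' :=
      pow_le_pow_right₀ (by exact_mod_cast (by omega : 1 ≤ q₁)) (Nat.one_le_pow _ _ hr.pos)
    rw [pow_one] at h4
    have : (3 : ℤ) ≤ q₁ := by exact_mod_cast h3
    linarith
  have hZrange : 2 ≤ Z ∨ Z ≤ -3 := by
    rcases hε with h' | h'
    · left; rw [hZ', h']; linarith
    · right; rw [hZ', h']; linarith
  have hMpos : 0 < M := by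
    have h5 : (0 : ℤ) < (Z - 1) * (Z ^ r - 1) := by
      rcases hZrange with h' | h'
      · have : 1 < Z ^ r := one_lt_pow₀ (by omega) hr.ne_zero
        exact mul_pos (by omega) (by omega)
      · have : Z ^ r < 0 := hrodd.pow_neg (by omega)
        exact mul_pos_of_neg_of_neg (by omega) (by omega)
    rw [hM, ← mul_assoc] at h5
    have h6 : (0 : ℤ) < (Z - 1) * (Z - 1) := by
      have : Z - 1 ≠ 0 := by omega
      exact mul_self_pos.2 this
    by_contra hcon
    push Not at hcon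
    nlinarith
  obtain ⟨M', rfl⟩ := Int.eq_ofNat_of_zero_le hMpos.le
  have hMr' : M' ∣ r ^ j := by exact_mod_cast hMr
  obtain ⟨i, -, hi⟩ := (Nat.dvd_prime_pow hr).1 hMr'
  refine geom_ne hr hr2 hZrange (i := i) ?_
  rw [hM, hi]
  push_cast
  ring

end arith

section fixed

/-- An endomorphism of odd period of a finite commutative group, fixing all involutions and all
elements of odd order prime to `r`: the index of the fixed points is a power of `r`. -/
theorem card_fixed {A : Type*} [CommGroup A] [Finite A] (γ : A →* A) {r R : ℕ} (hr : r.Prime)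
    (hr2 : r ≠ 2) (hR : Odd R) (hγ : ∀ x, (γ : A → A)^[R] x = x) (hinv : ∀ z, z ^ 2 = 1 → γ z = z)
    (hodd : ∀ z, Odd (orderOf z) → r.Coprime (orderOf z) → γ z = z) :
    ∃ j, Nat.card A = Nat.card {x // γ x = x} * r ^ j := by
  have hit : ∀ (x w : A), γ x = x * w → γ w = w → ∀ n : ℕ, (γ : A → A)^[n] x = x * w ^ n := by
    intro x w hx hw n
    induction n with
    | zero => simp
    | succ n ih =>
      rw [Function.iterate_succ_apply', ih, map_mul, map_pow, hx, hw, mul_assoc, ← pow_succ']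
  have htwo : ∀ (k : ℕ) (z : A), z ^ 2 ^ k = 1 → γ z = z := by
    intro k
    induction k with
    | zero => intro z hz; rw [pow_zero, pow_one] at hz; rw [hz, map_one]
    | succ k ih =>
      intro z hz
      have h1 : γ (z ^ 2) = z ^ 2 := ih (z ^ 2) (by rw [← pow_mul, ← pow_succ', hz])
      set w := z⁻¹ * γ z with hw
      have hzw : γ z = z * w := by rw [hw, mul_inv_cancel_left]
      have hw2 : w ^ 2 = 1 := by
        rw [hw, mul_pow, inv_pow, ← map_pow, h1, inv_mul_cancel]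
      have hw3 := hit z w hzw (hinv w hw2) R
      rw [hγ] at hw3
      have hw4 : w ^ R = 1 := by
        have : z * 1 = z * w ^ R := by rw [mul_one]; exact hw3
        exact (mul_left_cancel this).symm
      obtain ⟨m, hm⟩ := hR
      rw [hm, pow_succ, pow_mul, hw2, one_pow, one_mul] at hw4
      rw [hzw, hw4, mul_one]
  have hcop : ∀ y : A, r.Coprime (orderOf y) → γ y = y := by
    intro y hy
    obtain ⟨a, m, hm, hym⟩ := Nat.exists_eq_two_pow_mul_odd (orderOf_pos y).ne'
    have h1 : orderOf (y ^ 2 ^ a) = m := by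
      rw [orderOf_pow_of_dvd (by positivity) ⟨m, hym⟩, hym, Nat.mul_div_cancel_left _ (by positivity)]
    have h2 : γ (y ^ 2 ^ a) = y ^ 2 ^ a := by
      apply hodd
      · rw [h1]; exact hm
      · rw [h1]; exact Nat.Coprime.coprime_dvd_right ⟨2 ^ a, by rw [hym]; ring⟩ hy
    set w := y⁻¹ * γ y with hw
    have hyw : γ y = y * w := by rw [hw, mul_inv_cancel_left]
    have hw2 : w ^ 2 ^ a = 1 := by
      rw [hw, mul_pow, inv_pow, ← map_pow, h2, inv_mul_cancel]
    have hw3 := hit y w hyw (htwo a w hw2) R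
    rw [hγ] at hw3
    have hw4 : w ^ R = 1 := by
      have : y * 1 = y * w ^ R := by rw [mul_one]; exact hw3
      exact (mul_left_cancel this).symm
    have hw5 : w = 1 := by
      rw [← orderOf_eq_one_iff]
      have h3 : orderOf w ∣ R := orderOf_dvd_of_pow_eq_one hw4
      have h4 : orderOf w ∣ 2 ^ a := orderOf_dvd_of_pow_eq_one hw2
      have h5 : Nat.Coprime R (2 ^ a) :=
        Nat.Coprime.pow_right a (Nat.coprime_two_right.2 hR)
      exact Nat.dvd_one.1 (h5 ▸ Nat.dvd_gcd h3 h4)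
    rw [hyw, hw5, mul_one]
  -- the homomorphism `x ↦ x⁻¹ γ(x)`
  let δ : A →* A := ⟨⟨fun x => x⁻¹ * γ x, by simp⟩, fun x y => by
    change (x * y)⁻¹ * γ (x * y) = (x⁻¹ * γ x) * (y⁻¹ * γ y)
    rw [map_mul, mul_inv, mul_mul_mul_comm]⟩
  have hδ : ∀ x, δ x = x⁻¹ * γ x := fun x => rfl
  have hrange : IsPGroup r δ.range := by
    rintro ⟨z, x, rfl⟩
    obtain ⟨b, m, hm, hxm⟩ := Nat.exists_eq_pow_mul_and_not_dvd (orderOf_pos x).ne' r hr.ne_one
    refine ⟨b, Subtype.ext ?_⟩
    change (δ x) ^ r ^ b = 1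
    rw [← map_pow, hδ, hcop, inv_mul_cancel]
    have h1 : orderOf (x ^ r ^ b) = m := by
      rw [orderOf_pow_of_dvd (pow_ne_zero _ hr.ne_zero) ⟨m, hxm⟩, hxm,
        Nat.mul_div_cancel_left _ (pow_pos hr.pos b)]
    rw [h1]
    exact (Nat.Prime.coprime_iff_not_dvd hr).2 hm
  have : Fact r.Prime := ⟨hr⟩
  obtain ⟨j, hj⟩ := IsPGroup.iff_card.1 hrange
  refine ⟨j, ?_⟩
  have hcard := δ.ker.card_mul_index
  rw [Subgroup.index_ker, hj] at hcard
  rw [← hcard]
  congr 1
  refine Nat.card_congr (Equiv.subtypeEquivRight fun x => ?_)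
  rw [MonoidHom.mem_ker, hδ, inv_mul_eq_one, eq_comm]

end fixed

section lift

variable {F : Type*} [Field F]

/-- trace -/
def tr (x : Matrix.SpecialLinearGroup (Fin 2) F) : F := ent x 0 0 + ent x 1 1

theorem tr_eq (x : Matrix.SpecialLinearGroup (Fin 2) F) : tr x = x.1.trace := by
  rw [Matrix.trace_fin_two]; rfl

theorem tr_conjGL (g : GL (Fin 2) F) (x : Matrix.SpecialLinearGroup (Fin 2) F) :
    tr (conjGL g x) = tr x := by
  rw [tr_eq, tr_eq, conjGL_val, Matrix.trace_mul_comm, ← Matrix.mul_assoc, inv_val_mul_val,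
    Matrix.one_mul]

theorem tr_fieldAut (σ : F ≃+* F) (x : Matrix.SpecialLinearGroup (Fin 2) F) :
    tr (fieldAut σ x) = σ (tr x) := by
  change σ (ent x 0 0) + σ (ent x 1 1) = σ (ent x 0 0 + ent x 1 1)
  rw [map_add]

theorem exists_tr (a : F) : ∃ x : Matrix.SpecialLinearGroup (Fin 2) F, tr x = a := by
  refine ⟨up 1 * lo (a - 2), ?_⟩
  simp only [tr, ent_mul, up_00, up_01, up_10, up_11, lo_00, lo_01, lo_10, lo_11]
  ring

/-- square roots of `1` in `SL(2,F)` -/
theorem sq_eq_one (h2 : (2 : F) ≠ 0) {x : Matrix.SpecialLinearGroup (Fin 2) F} (hx : x * x = 1) :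
    x = 1 ∨ x = -1 := by
  have hi : x⁻¹ = x := inv_eq_of_mul_eq_one_right hx
  rw [ent_inv] at hi
  have h00 := congrArg (fun x => ent x 0 0) hi
  have h01 := congrArg (fun x => ent x 0 1) hi
  have h10 := congrArg (fun x => ent x 1 0) hi
  simp only [mk_00, mk_01, mk_10] at h00 h01 h10
  have e01 : ent x 0 1 = 0 := by
    have : (2 : F) * ent x 0 1 = 0 := by linear_combination -h01
    rcases mul_eq_zero.1 this with h | h
    · exact absurd h h2
    · exact h
  have e10 : ent x 1 0 = 0 := by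
    have : (2 : F) * ent x 1 0 = 0 := by linear_combination -h10
    rcases mul_eq_zero.1 this with h | h
    · exact absurd h h2
    · exact h
  have hd := det_eq x
  rw [e01, zero_mul, sub_zero, h00] at hd
  have h4 : (ent x 0 0 - 1) * (ent x 0 0 + 1) = 0 := by linear_combination hd
  rcases mul_eq_zero.1 h4 with h | h
  · left
    have h5 : ent x 0 0 = 1 := by linear_combination h
    refine ext_ent ?_ ?_ ?_ ?_
    · rw [h5]; rfl
    · rw [e01]; rfl
    · rw [e10]; rfl
    · rw [h00, h5]; rfl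
  · right
    have h5 : ent x 0 0 = -1 := by linear_combination h
    have hn : ∀ i j, ent (-1 : Matrix.SpecialLinearGroup (Fin 2) F) i j =
        -ent (1 : Matrix.SpecialLinearGroup (Fin 2) F) i j := fun i j => rfl
    refine ext_ent ?_ ?_ ?_ ?_
    · rw [h5, hn, ent_one_00]
    · rw [e01, hn, ent_one_01, neg_zero]
    · rw [e10, hn, ent_one_10, neg_zero]
    · rw [h00, h5, hn, ent_one_11]

/-- elements with square `-1` have trace `0` -/
theorem tr_of_sq (h2 : (2 : F) ≠ 0) {x : Matrix.SpecialLinearGroup (Fin 2) F} (hx : x * x = -1) :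
    ent x 1 1 = - ent x 0 0 := by
  have hi : x⁻¹ = -x := by
    apply inv_eq_of_mul_eq_one_right
    rw [mul_neg, hx, neg_neg]
  have h00 : ent x⁻¹ 0 0 = ent (-x) 0 0 := by rw [hi]
  rw [ent_inv, mk_00] at h00
  exact h00

end lift

section fixedField

/-- A finite field is a power of the fixed field of an automorphism. -/
theorem exists_fixed_field {F : Type*} [Field F] [Finite F] (σ : F ≃+* F) {r n : ℕ} (hr : r.Prime)
    (hσ : σ ^ r ^ n = 1) :
    ∃ (K : Subfield F) (c : ℕ), (∀ a, a ∈ K ↔ σ a = a) ∧ Nat.card F = Nat.card K ^ r ^ c ∧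
      (c = 0 → σ = 1) := by
  classical
  have : Finite (F ≃+* F) :=
    Finite.of_injective (fun σ : F ≃+* F => (σ : F → F)) DFunLike.coe_injective
  have : Fintype (Subgroup.zpowers σ) := Fintype.ofFinite _
  let K := FixedPoints.subfield (Subgroup.zpowers σ) F
  have hK : ∀ a, a ∈ K ↔ σ a = a := by
    intro a
    constructor
    · intro h
      exact h ⟨σ, Subgroup.mem_zpowers σ⟩
    · rintro h ⟨τ, hτ⟩
      change τ a = a
      obtain ⟨k, rfl⟩ := Subgroup.mem_zpowers_iff.1 hτ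
      have h1 : σ ∈ MulAction.stabilizer (F ≃+* F) a := h
      exact (MulAction.stabilizer (F ≃+* F) a).zpow_mem h1 k
  have hdvd : orderOf σ ∣ r ^ n := orderOf_dvd_of_pow_eq_one hσ
  obtain ⟨c, -, hc⟩ := (Nat.dvd_prime_pow hr).1 hdvd
  refine ⟨K, c, hK, ?_, ?_⟩
  · have h1 := FixedPoints.finrank_eq_card (Subgroup.zpowers σ) F
    rw [← Nat.card_eq_fintype_card, Nat.card_zpowers, hc] at h1
    rw [← h1]
    exact Module.natCard_eq_pow_finrank
  · rintro rfl
    rw [pow_zero] at hc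
    exact orderOf_eq_one_iff.1 hc

end fixedField

section main

open scoped Pointwise

variable {F : Type*} [Field F] [Finite F] {L : Type*} [Group L]

/-- The lift of an automorphism of odd order of a central quotient of `SL(2,F)` by `±1`. -/
theorem exists_lift (π : Matrix.SpecialLinearGroup (Fin 2) F →* L) (hπ : Function.Surjective π)
    (hk : ∀ x, π x = 1 ↔ x = 1 ∨ x = -1) {α : MulAut L} {n : ℕ} (hn : Odd n) (hα : α ^ n = 1) :
    ∃ β : MulAut (Matrix.SpecialLinearGroup (Fin 2) F), β ^ n = 1 ∧ ∀ x, α (π x) = π (β x) := by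
  have hcen : π.ker ≤ Subgroup.center (Matrix.SpecialLinearGroup (Fin 2) F) := by
    intro x hx
    rw [MonoidHom.mem_ker, hk] at hx
    rcases hx with rfl | rfl
    · exact one_mem _
    · rw [Subgroup.mem_center_iff]
      intro y
      rw [mul_neg, neg_mul, mul_one, one_mul]
  obtain ⟨g, σ, hgσ⟩ := exists_gl_ringEquiv π hπ hcen α
  set β := conjGL g * fieldAut σ with hβ
  have h1 : ∀ x, α (π x) = π (β x) := hgσ
  have h2 : ∀ (k : ℕ) (x), (α ^ k) (π x) = π ((β ^ k) x) := by
    intro k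
    induction k with
    | zero => intro x; rfl
    | succ k ih =>
      intro x
      rw [pow_succ', pow_succ', MulAut.mul_apply, MulAut.mul_apply, ih, h1]
  have h3 : ∀ x, (β ^ n) x = x ∨ (β ^ n) x = -x := by
    intro x
    have h4 := h2 n x
    rw [hα, MulAut.one_apply] at h4
    have h5 : π (x⁻¹ * (β ^ n) x) = 1 := by
      rw [map_mul, map_inv, ← h4, inv_mul_cancel]
    rw [hk] at h5
    rcases h5 with h5 | h5
    · left; exact (inv_mul_eq_one.1 h5).symm
    · right
      rw [inv_mul_eq_iff_eq_mul] at h5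
      rw [h5, mul_neg, mul_one]
  have hneg : ∀ (γ : MulAut (Matrix.SpecialLinearGroup (Fin 2) F)) (x), γ (-x) = -γ x := by
    intro γ x
    have h4 : γ (-1) = -1 := by
      have h5 : γ (-1) * γ (-1) = 1 := by rw [← map_mul, neg_mul_neg, mul_one, map_one]
      by_cases h6 : (2 : F) = 0
      · have h7 : (-1 : Matrix.SpecialLinearGroup (Fin 2) F) = 1 := by
          have : (-1 : F) = 1 := by linear_combination -h6
          have hn' : ∀ i j, ent (-1 : Matrix.SpecialLinearGroup (Fin 2) F) i j =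
            -ent (1 : Matrix.SpecialLinearGroup (Fin 2) F) i j := fun i j => rfl
          refine ext_ent ?_ ?_ ?_ ?_
          · rw [hn', ent_one_00, this]
          · rw [hn', ent_one_01, neg_zero]
          · rw [hn', ent_one_10, neg_zero]
          · rw [hn', ent_one_11, this]
        rw [h7, map_one]
      · rcases sq_eq_one h6 h5 with h7 | h7
        · have h8 : (-1 : Matrix.SpecialLinearGroup (Fin 2) F) = 1 :=
            γ.injective (by rw [h7, map_one])
          rw [h8, map_one]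
        · exact h7
    rw [← neg_one_mul x, map_mul, h4, neg_one_mul]
  have h6 : β ^ (2 * n) = 1 := by
    ext1 x
    rw [MulAut.one_apply, two_mul, pow_add, MulAut.mul_apply]
    rcases h3 x with h | h
    · rw [h, h]
    · rw [h, hneg, h, neg_neg]
  refine ⟨β ^ (n + 1), ?_, ?_⟩
  · obtain ⟨m, hm⟩ := hn
    have : (n + 1) * n = 2 * n * (m + 1) := by rw [hm]; ring
    rw [← pow_mul, this, pow_mul, h6, one_pow]
  · intro x
    rw [← h2, pow_succ, hα, one_mul]

/-- **Automorphisms of `PSL(2,F)` of `r`-power order fixing an involution `t`**, such that the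
commutators with the elements of odd order of `C(t)` are `r`-elements, are inner. -/
theorem exists_inner_of_hom (h2 : (2 : F) ≠ 0) (π : Matrix.SpecialLinearGroup (Fin 2) F →* L)
    (hπ : Function.Surjective π) (hk : ∀ x, π x = 1 ↔ x = 1 ∨ x = -1) {t : L} (ht1 : t ≠ 1)
    (ht : t * t = 1) {r n : ℕ} (hr : r.Prime) (hr2 : r ≠ 2) {α : MulAut L} (hα : α ^ r ^ n = 1)
    (hαt : α t = t)
    (h : ∀ y, y * t = t * y → Odd (orderOf y) → ∃ j, (y⁻¹ * α y) ^ r ^ j = 1) :
    ∃ c, c * t = t * c ∧ c ^ r ^ n = 1 ∧ ∀ x, α x = c * x * c⁻¹ := by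
  classical
  have := Fintype.ofFinite F
  have hrodd : Odd r := hr.odd_of_ne_two hr2
  have hRodd : Odd (r ^ n) := hrodd.pow
  obtain ⟨β, hβ, hαβ⟩ := exists_lift π hπ hk hRodd hα
  have h1ne : (1 : Matrix.SpecialLinearGroup (Fin 2) F) ≠ -1 := by
    intro h
    have h3 := congrArg (fun x => ent x 0 0) h
    have hn' : ent (-1 : Matrix.SpecialLinearGroup (Fin 2) F) 0 0 = -1 := rfl
    simp only [ent_one_00, hn'] at h3
    exact h2 (by linear_combination h3)
  have hneg : ∀ (γ : MulAut (Matrix.SpecialLinearGroup (Fin 2) F)), γ (-1) = -1 := by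
    intro γ
    have h5 : γ (-1) * γ (-1) = 1 := by rw [← map_mul, neg_mul_neg, mul_one, map_one]
    rcases sq_eq_one h2 h5 with h7 | h7
    · have h8 : (-1 : Matrix.SpecialLinearGroup (Fin 2) F) = 1 :=
        γ.injective (by rw [h7, map_one])
      rw [h8, map_one]
    · exact h7
  have hneg' : ∀ (γ : MulAut (Matrix.SpecialLinearGroup (Fin 2) F)) (x), γ (-x) = -γ x := by
    intro γ x
    rw [← neg_one_mul x, map_mul, hneg, neg_one_mul]
  -- the element `i`
  obtain ⟨i, rfl⟩ := hπ t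
  have hii : i * i = -1 := by
    have h3 : π (i * i) = 1 := by rw [map_mul, ht]
    rw [hk] at h3
    rcases h3 with h3 | h3
    · exfalso
      apply ht1
      rw [hk]
      exact sq_eq_one h2 h3
    · exact h3
  have hi := tr_of_sq h2 hii
  -- `β i = i`
  have hβi : β i = i := by
    have h3 : π (i⁻¹ * β i) = 1 := by
      rw [map_mul, map_inv, ← hαβ, hαt, inv_mul_cancel]
    rw [hk] at h3
    rcases h3 with h3 | h3
    · exact (inv_mul_eq_one.1 h3).symm
    · exfalso
      rw [inv_mul_eq_iff_eq_mul, mul_neg, mul_one] at h3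
      have h4 : ∀ k : ℕ, (β ^ k) i = if Even k then i else -i := by
        intro k
        induction k with
        | zero => simp
        | succ k ih =>
          rw [pow_succ', MulAut.mul_apply, ih]
          by_cases hk' : Even k
          · rw [if_pos hk', if_neg (by rw [Nat.even_add_one]; exact fun h => h hk'), h3]
          · rw [if_neg hk', if_pos (by rw [Nat.even_add_one]; exact hk'), hneg', h3, neg_neg]
      have h5 := h4 (r ^ n)
      rw [hβ, MulAut.one_apply, if_neg (Nat.not_even_iff_odd.2 hRodd)] at h5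
      apply h1ne
      have h6 : i⁻¹ * i = i⁻¹ * -i := congrArg (fun x => i⁻¹ * x) h5
      rw [mul_neg, inv_mul_cancel] at h6
      exact h6
  obtain ⟨g, σ, hgσ⟩ := Cfsg.Agent.Lib.AutSL2Out.exists_eq β
  have hβx : ∀ x, β x = conjGL g (fieldAut σ x) := fun x => by rw [hgσ]; rfl
  -- the order of `σ`
  have hσR : σ ^ r ^ n = 1 := by
    have h3 : ∀ (k : ℕ) x, tr ((β ^ k) x) = (σ ^ k) (tr x) := by
      intro k
      induction k with
      | zero => intro x; rfl
      | succ k ih =>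
        intro x
        rw [pow_succ', MulAut.mul_apply, hβx, tr_conjGL, tr_fieldAut, ih, pow_succ']
        rfl
    ext a
    obtain ⟨x, rfl⟩ := exists_tr a
    rw [← h3, hβ]
    rfl
  -- action on the torus
  have hcomb : ∀ (p p' : Circ F), p'.re = σ p.re → p'.im = σ p.im →
      β (comb i hi p) = comb i hi p' := by
    intro p p' h3 h4
    have hval : ∀ q : Circ F, (comb i hi q).1 = q.re • (1 : Matrix (Fin 2) (Fin 2) F) + q.im • i.1 := by
      intro q
      have e00 : i.1 0 0 = ent i 0 0 := rfl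
      have e01 : i.1 0 1 = ent i 0 1 := rfl
      have e10 : i.1 1 0 = ent i 1 0 := rfl
      have e11 : i.1 1 1 = ent i 1 1 := rfl
      ext a b
      fin_cases a <;> fin_cases b
      · change q.re + q.im * ent i 0 0 = _
        simp [e00]
      · change q.im * ent i 0 1 = _
        simp [e01]
      · change q.im * ent i 1 0 = _
        simp [e10]
      · change q.re - q.im * ent i 0 0 = _
        simp [e11, hi]
        ring
    have hfa : ∀ x : Matrix.SpecialLinearGroup (Fin 2) F, (fieldAut σ x).1 = x.1.map σ := fun x => rfl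
    have hβi' : g.1 * (i.1.map σ) * g⁻¹.1 = i.1 := by
      have := congrArg Subtype.val hβi
      rwa [hβx, conjGL_val, hfa] at this
    rw [hβx]
    apply Subtype.ext
    rw [conjGL_val, hfa, hval, hval, h3, h4]
    have h5 : ((p.re • (1 : Matrix (Fin 2) (Fin 2) F) + p.im • i.1).map σ) =
        σ p.re • (1 : Matrix (Fin 2) (Fin 2) F) + σ p.im • i.1.map σ := by
      ext a b
      simp only [Matrix.map_apply, Matrix.add_apply, Matrix.smul_apply, smul_eq_mul, map_add, map_mul]
      congr 2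
      fin_cases a <;> fin_cases b <;> simp
    rw [h5, Matrix.mul_add, Matrix.add_mul, Matrix.mul_smul, Matrix.smul_mul, Matrix.mul_one,
      ← Units.val_mul, mul_inv_cancel, Units.val_one, Matrix.mul_smul, Matrix.smul_mul, hβi']
  -- the torus
  set A : Subgroup (Matrix.SpecialLinearGroup (Fin 2) F) :=
    Subgroup.centralizer ({i} : Set (Matrix.SpecialLinearGroup (Fin 2) F)) with hA
  have hAcyc : IsCyclic A := isCyclic_centralizer h2 hi
  let _ : CommGroup A := IsCyclic.commGroup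
  have hβA : ∀ x ∈ A, β x ∈ A := by
    intro x hx
    rw [hA, Subgroup.mem_centralizer_singleton_iff] at hx ⊢
    have := congrArg β hx
    rwa [map_mul, map_mul, hβi] at this
  let γ : A →* A :=
    { toFun := fun x => ⟨β x.1, hβA x.1 x.2⟩
      map_one' := Subtype.ext (map_one β)
      map_mul' := fun x y => Subtype.ext (map_mul β x.1 y.1) }
  have hγval : ∀ x : A, (γ x).1 = β x.1 := fun x => rfl
  have hγit : ∀ (k : ℕ) (x : A), ((γ : A → A)^[k] x).1 = (β ^ k) x.1 := by
    intro k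
    induction k with
    | zero => intro x; rfl
    | succ k ih =>
      intro x
      rw [Function.iterate_succ_apply', pow_succ', MulAut.mul_apply, ← ih]
      rfl
  have hγR : ∀ x, (γ : A → A)^[r ^ n] x = x := by
    intro x
    apply Subtype.ext
    rw [hγit, hβ]
    rfl
  have hval_mul : ∀ x y : A, (x * y).1 = x.1 * y.1 := fun x y => rfl
  have hval_one : (1 : A).1 = 1 := rfl
  have hval_inv : ∀ x : A, (x⁻¹).1 = x.1⁻¹ := fun x => rfl
  have hval_pow : ∀ (x : A) (k : ℕ), (x ^ k).1 = x.1 ^ k := by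
    intro x k
    induction k with
    | zero => rw [pow_zero, pow_zero]; rfl
    | succ k ih => rw [pow_succ, pow_succ, hval_mul, ih]
  have hγinv : ∀ z, z ^ 2 = 1 → γ z = z := by
    intro z hz
    have h3 : z.1 * z.1 = 1 := by
      rw [← hval_mul, ← sq, hz]
      rfl
    apply Subtype.ext
    rw [hγval]
    rcases sq_eq_one h2 h3 with h4 | h4
    · rw [h4, map_one]
    · rw [h4, hneg]
  have hγodd : ∀ z, Odd (orderOf z) → r.Coprime (orderOf z) → γ z = z := by
    intro z hz hzr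
    have hzt : π z.1 * π i = π i * π z.1 := by
      rw [← map_mul, ← map_mul, Subgroup.mem_centralizer_singleton_iff.1 z.2]
    have hzm : z.1 ^ orderOf z = 1 := by
      rw [← hval_pow, pow_orderOf_eq_one]
      rfl
    have hzo : Odd (orderOf (π z.1)) := by
      refine hz.of_dvd_nat ?_
      apply orderOf_dvd_of_pow_eq_one
      rw [← map_pow, hzm, map_one]
    obtain ⟨j, hj⟩ := h (π z.1) hzt hzo
    have hj' : π ((z⁻¹ * γ z).1 ^ r ^ j) = 1 := by
      rw [map_pow, hval_mul, hval_inv, hγval, map_mul, map_inv, ← hαβ, hj]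
    rw [hk] at hj'
    have hj2 : (z⁻¹ * γ z) ^ (r ^ j * 2) = 1 := by
      apply Subtype.ext
      rw [pow_mul, hval_pow, hval_pow, sq]
      rcases hj' with h4 | h4
      · rw [h4, mul_one]; rfl
      · rw [h4, neg_mul_neg, mul_one]; rfl
    have hm : (z⁻¹ * γ z) ^ orderOf z = 1 := by
      rw [mul_pow, inv_pow, ← map_pow, pow_orderOf_eq_one, map_one, inv_one, mul_one]
    have hcop : Nat.Coprime (r ^ j * 2) (orderOf z) :=
      Nat.Coprime.mul_left (Nat.Coprime.pow_left j hzr) (Nat.coprime_two_left.2 hz)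
    have hw : z⁻¹ * γ z = 1 := by
      rw [← orderOf_eq_one_iff]
      have h4 := Nat.dvd_gcd (orderOf_dvd_of_pow_eq_one hj2) (orderOf_dvd_of_pow_eq_one hm)
      rw [hcop.gcd_eq_one] at h4
      exact Nat.dvd_one.1 h4
    exact (inv_mul_eq_one.1 hw).symm
  obtain ⟨j, hj⟩ := card_fixed γ hr hr2 hRodd hγR hγinv hγodd
  obtain ⟨K, c, hK, hcardF, hc⟩ := exists_fixed_field σ hr hσR
  have hcardA : Nat.card A = Nat.card (Circ F) := card_centralizer h2 hi
  have h2K : (2 : K) ≠ 0 := by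
    intro h3
    apply h2
    have := congrArg Subtype.val h3
    exact this
  have hcardK : Nat.card {x // γ x = x} = Nat.card (Circ K) := by
    symm
    let f : Circ K → {x // γ x = x} := fun p =>
      ⟨⟨comb i hi ⟨p.re.1, p.im.1, by exact_mod_cast congrArg Subtype.val p.eqn⟩,
        Subgroup.mem_centralizer_singleton_iff.2 (comb_commute hi _)⟩, Subtype.ext (by
          refine hcomb _ _ ?_ ?_
          · exact ((hK _).1 p.re.2).symm
          · exact ((hK _).1 p.im.2).symm)⟩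
    refine Nat.card_congr (Equiv.ofBijective f ⟨?_, ?_⟩)
    · intro p q hpq
      have h3 := congrArg (fun x => x.1.1) hpq
      have h4 := comb_inj h2 hi h3
      exact Circ.ext (Subtype.ext (congrArg Circ.re h4)) (Subtype.ext (congrArg Circ.im h4))
    · rintro ⟨⟨x, hx⟩, hx'⟩
      obtain ⟨p, rfl⟩ := exists_comb h2 hi (Subgroup.mem_centralizer_singleton_iff.1 hx)
      have h3 : β (comb i hi p) = comb i hi p := congrArg Subtype.val hx'
      let p' : Circ F := ⟨σ p.re, σ p.im, by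
        rw [← map_pow, ← map_pow, ← map_add, p.eqn, map_one]⟩
      rw [hcomb p p' rfl rfl] at h3
      have h4 := comb_inj h2 hi h3
      have h5 : σ p.re = p.re := congrArg Circ.re h4
      have h6 : σ p.im = p.im := congrArg Circ.im h4
      refine ⟨⟨⟨p.re, (hK _).2 h5⟩, ⟨p.im, (hK _).2 h6⟩, ?_⟩, ?_⟩
      · exact Subtype.ext p.eqn
      · rfl
  have hq₁ : 2 ≤ Nat.card K := Finite.one_lt_card
  have hσ1 : σ = 1 := by
    apply hc
    refine eq_of_pow hr hr2 hq₁ (N := Nat.card A) (N₁ := Nat.card {x // γ x = x}) ?_ ?_ hj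
    · rw [hcardA, ← hcardF]
      exact card_circ h2
    · rw [hcardK]
      exact card_circ h2K
  -- `β` is inner
  have hβg : ∀ x, β x = conjGL g x := by
    intro x
    rw [hβx, hσ1]
    rfl
  have hβpow : ∀ (k : ℕ), β ^ k = conjGL (g ^ k) := by
    intro k
    rw [map_pow]
    congr 1
    ext1 x
    exact hβg x
  -- an element of `GL` commuting with `SL` is scalar
  have hscal : ∀ m : Matrix (Fin 2) (Fin 2) F,
      (∀ x : Matrix.SpecialLinearGroup (Fin 2) F, m * x.1 = x.1 * m) → m 0 1 = 0 ∧ m 1 0 = 0 ∧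
        m 0 0 = m 1 1 := by
    intro m hm
    have h3 := hm (up 1)
    have h4 := hm (lo 1)
    have eu : (up (1 : F)).1 = !![1, 1; 0, 1] := rfl
    have el : (lo (1 : F)).1 = !![1, 0; 1, 1] := rfl
    rw [eu] at h3
    rw [el] at h4
    have a1 := congrFun (congrFun h3 0) 0
    have a2 := congrFun (congrFun h3 0) 1
    have a3 := congrFun (congrFun h4 0) 0
    simp only [Matrix.mul_apply, Fin.sum_univ_two, Matrix.of_apply, Matrix.cons_val', Matrix.cons_val_zero,
      Matrix.cons_val_one, Matrix.cons_val_fin_one] at a1 a2 a3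
    refine ⟨?_, ?_, ?_⟩
    · linear_combination a3
    · linear_combination -a1
    · linear_combination a2
  obtain ⟨d, hd⟩ : ∃ d : F, g.1.det = d ^ 2 := by
    have h3 : conjGL (g ^ r ^ n) = 1 := by rw [← hβpow, hβ]
    have h4 := hscal (g ^ r ^ n).1 (by
      intro x
      have h5 : (conjGL (g ^ r ^ n) x).1 = x.1 := by rw [h3]; rfl
      rw [conjGL_val] at h5
      calc (g ^ r ^ n).1 * x.1 = (g ^ r ^ n).1 * x.1 * ((g ^ r ^ n)⁻¹.1 * (g ^ r ^ n).1) := by
            rw [inv_val_mul_val, Matrix.mul_one]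
        _ = ((g ^ r ^ n).1 * x.1 * (g ^ r ^ n)⁻¹.1) * (g ^ r ^ n).1 := by
            simp only [Matrix.mul_assoc]
        _ = _ := by rw [h5])
    have h5 : (g ^ r ^ n).1.det = ((g ^ r ^ n).1 1 1) ^ 2 := by
      rw [det_fin_two, h4.1, h4.2.2]; ring
    have h6 : (g ^ r ^ n).1.det = g.1.det ^ r ^ n := by
      rw [Units.val_pow_eq_pow_val, Matrix.det_pow]
    have h7 : g.1.det ≠ 0 := (Matrix.GeneralLinearGroup.det g).ne_zero
    obtain ⟨m, hm⟩ := hRodd
    rw [h5, hm] at h6
    refine ⟨(g ^ r ^ n).1 1 1 / g.1.det ^ m, ?_⟩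
    rw [hm] at h5
    rw [hm, div_pow, h6]
    field_simp
    ring
  have hd0 : d ≠ 0 := by
    rintro rfl
    have h7 : g.1.det ≠ 0 := (Matrix.GeneralLinearGroup.det g).ne_zero
    rw [hd] at h7
    exact h7 (by ring)
  obtain ⟨s, hs⟩ := conjGL_of_det_sq g d hd0 hd
  have hβs : ∀ x, β x = s * x * s⁻¹ := fun x => by rw [hβg, hs]
  have hβspow : ∀ (k : ℕ) x, (β ^ k) x = s ^ k * x * (s ^ k)⁻¹ := by
    intro k
    induction k with
    | zero => intro x; simp
    | succ k ih =>
      intro x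
      rw [pow_succ', MulAut.mul_apply, ih, hβs, pow_succ']
      group
  have hsR : s ^ r ^ n = 1 ∨ s ^ r ^ n = -1 := by
    apply sq_eq_one h2
    have h4 := hscal (s ^ r ^ n).1 (by
      intro x
      have h5 := hβspow (r ^ n) x
      rw [hβ, MulAut.one_apply, eq_mul_inv_iff_mul_eq] at h5
      exact (congrArg Subtype.val h5).symm)
    have h5 := det_eq (s ^ r ^ n)
    have e01 : ent (s ^ r ^ n) 0 1 = 0 := h4.1
    have e10 : ent (s ^ r ^ n) 1 0 = 0 := h4.2.1
    have e11 : ent (s ^ r ^ n) 0 0 = ent (s ^ r ^ n) 1 1 := h4.2.2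
    rw [e01, zero_mul, sub_zero] at h5
    refine ext_ent ?_ ?_ ?_ ?_
    · rw [ent_mul, e01, zero_mul, add_zero, ent_one_00]
      nth_rw 2 [e11]
      exact h5
    · rw [ent_mul, e01, mul_zero, zero_mul, add_zero, ent_one_01]
    · rw [ent_mul, e10, zero_mul, mul_zero, add_zero, ent_one_10]
    · rw [ent_mul, e10, zero_mul, zero_add, ent_one_11]
      nth_rw 1 [← e11]
      exact h5
  have hβs' : ∀ x, β x = s ^ (r ^ n + 1) * x * (s ^ (r ^ n + 1))⁻¹ := by
    intro x
    rw [hβs, pow_succ']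
    rcases hsR with h3 | h3
    · rw [h3, mul_one]
    · rw [h3]
      have h4 : (s * -1)⁻¹ = -(s⁻¹) := by
        rw [mul_neg, mul_one, inv_eq_iff_mul_eq_one, neg_mul_neg, mul_inv_cancel]
      rw [h4]
      simp only [mul_neg, mul_one, neg_mul, neg_neg]
  refine ⟨π (s ^ (r ^ n + 1)), ?_, ?_, ?_⟩
  · have h3 := hβs' i
    rw [hβi, eq_mul_inv_iff_mul_eq] at h3
    rw [← map_mul, ← map_mul, h3]
  · rw [← map_pow, ← pow_mul]
    have h3 : (r ^ n + 1) * r ^ n = r ^ n * (r ^ n + 1) := mul_comm _ _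
    rw [h3, pow_mul]
    rcases hsR with h4 | h4
    · rw [h4, one_pow, map_one]
    · rw [h4, Even.neg_one_pow (hRodd.add_one), map_one]
  · intro x
    obtain ⟨y, rfl⟩ := hπ x
    rw [hαβ, hβs', map_mul, map_mul, map_inv]

/-- The same with an isomorphism `L ≃ PSL(2,F)`. -/
theorem exists_inner_of_fix (h2 : (2 : F) ≠ 0)
    (e : L ≃* Matrix.ProjectiveSpecialLinearGroup (Fin 2) F) {t : L} (ht1 : t ≠ 1)
    (ht : t * t = 1) {r n : ℕ} (hr : r.Prime) (hr2 : r ≠ 2) {α : MulAut L} (hα : α ^ r ^ n = 1)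
    (hαt : α t = t)
    (h : ∀ y, y * t = t * y → Odd (orderOf y) → ∃ j, (y⁻¹ * α y) ^ r ^ j = 1) :
    ∃ c, c * t = t * c ∧ c ^ r ^ n = 1 ∧ ∀ x, α x = c * x * c⁻¹ := by
  refine exists_inner_of_hom h2
    (e.symm.toMonoidHom.comp (QuotientGroup.mk' (Subgroup.center (Matrix.SpecialLinearGroup (Fin 2) F))))
    (e.symm.surjective.comp (QuotientGroup.mk'_surjective _)) ?_ ht1 ht hr hr2 hα hαt h
  intro x
  have h3 : (e.symm.toMonoidHom.comp
      (QuotientGroup.mk' (Subgroup.center (Matrix.SpecialLinearGroup (Fin 2) F)))) x = 1 ↔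
      x ∈ Subgroup.center (Matrix.SpecialLinearGroup (Fin 2) F) := by
    rw [← QuotientGroup.eq_one_iff]
    exact e.symm.map_eq_one_iff
  rw [h3]
  constructor
  · intro hx
    apply sq_eq_one h2
    obtain ⟨h01, h10⟩ := mem_center_offdiag hx
    have h00 : ent x 0 0 = ent x 1 1 := by
      have h4 := congrArg (fun y => ent y 0 1) ((Subgroup.mem_center_iff.1 hx) (up 1))
      simp only [ent_mul, up_00, up_01, up_11, h01] at h4
      linear_combination -h4
    have h5 := det_eq x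
    rw [h01, zero_mul, sub_zero] at h5
    refine ext_ent ?_ ?_ ?_ ?_
    · rw [ent_mul, h01, zero_mul, add_zero, ent_one_00]
      nth_rw 2 [h00]
      exact h5
    · rw [ent_mul, h01, mul_zero, zero_mul, add_zero, ent_one_01]
    · rw [ent_mul, h10, zero_mul, mul_zero, add_zero, ent_one_10]
    · rw [ent_mul, h10, zero_mul, zero_add, ent_one_11]
      nth_rw 1 [← h00]
      exact h5
  · rintro (rfl | rfl)
    · exact one_mem _
    · rw [Subgroup.mem_center_iff]
      intro y
      rw [mul_neg, neg_mul, mul_one, one_mul]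

end main

end Cfsg.Agent.Lib.PSL2Inv
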