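import Mathlib
set_option linter.all false

/-!
Subnormal subgroups of finite groups: minimal normal subgroups normalize them, joins are
subnormal (Wielandt), and non-normal subnormal subgroups are normalized by another conjugate.
-/

set_option autoImplicit false
open Pointwise

namespace Cfsg.Agent.Lib.SubnormalJoin

universe u

/-- A nontrivial normal subgroup of a finite group contains a minimal normal subgroup. -/
theorem exists_minimal_normal_le {G : Type*} [Group G] [Finite G] (M : Subgroup G)
    (hM : M.Normal) (hne : M ≠ ⊥) :
    ∃ L : Subgroup G, L.Normal ∧ L ≤ M ∧ L ≠ ⊥ ∧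
      ∀ N : Subgroup G, N.Normal → N ≤ L → N = ⊥ ∨ N = L := by
  classical
  have hfin : Set.Finite {N : Subgroup G | N.Normal ∧ N ≤ M ∧ N ≠ ⊥} := Set.toFinite _
  obtain ⟨L, hL⟩ := hfin.exists_minimal ⟨M, hM, le_rfl, hne⟩
  refine ⟨L, hL.prop.1, hL.prop.2.1, hL.prop.2.2, fun N hN hNL => ?_⟩
  by_cases h : N = ⊥
  · exact Or.inl h
  · right
    exact le_antisymm hNL (hL.le_of_le ⟨hN, hNL.trans hL.prop.2.1, h⟩ hNL)

/-- A nontrivial finite group has a minimal normal subgroup. -/
theorem exists_minimal_normal (G : Type*) [Group G] [Finite G] [Nontrivial G] :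
    ∃ L : Subgroup G, L.Normal ∧ L ≠ ⊥ ∧
      ∀ N : Subgroup G, N.Normal → N ≤ L → N = ⊥ ∨ N = L := by
  obtain ⟨L, h1, _, h2, h3⟩ := exists_minimal_normal_le (⊤ : Subgroup G) inferInstance top_ne_bot
  exact ⟨L, h1, h2, h3⟩

theorem le_normalizer_of_minimal_normal_aux (n : ℕ) :
    ∀ (G : Type u) [Group G] [Finite G], Nat.card G = n → ∀ (S M : Subgroup G),
      S.IsSubnormal → M.Normal → (∀ N : Subgroup G, N.Normal → N ≤ M → N = ⊥ ∨ N = M) →
      M ≤ Subgroup.normalizer (S : Set G) := by
  induction n using Nat.strong_induction_on with
  | _ n ih =>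
    intro G _ _ hn S M hS hM hmin
    by_cases hMbot : M = ⊥
    · rw [hMbot]; exact bot_le
    by_cases hSt : S = ⊤
    · subst hSt
      exact Subgroup.le_normalizer_of_normal
    obtain ⟨K, hK, hSK, hKt⟩ := hS.exists_normal_and_le_and_lt_top_of_ne hSt
    rcases hmin (M ⊓ K) inferInstance inf_le_left with h0 | h1
    · -- `M` and `K` commute
      have hdis : Disjoint M K := disjoint_iff.mpr h0
      rw [Subgroup.le_normalizer_iff]
      intro m hm s hs
      have hc : m * s = s * m :=
        (Subgroup.commute_of_normal_of_disjoint M K hM hK hdis m s hm (hSK hs)).eq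
      rw [hc, mul_inv_cancel_right]
      exact hs
    · have hMK : M ≤ K := by
        rw [← h1]; exact inf_le_right
      set D : Subgroup G := (Subgroup.normalizer (S : Set G)).normalCore with hD
      rcases hmin (M ⊓ D) inferInstance inf_le_left with h2 | h2
      · exfalso
        -- a minimal normal subgroup of `K` inside `M`
        have hMKne : M.subgroupOf K ≠ ⊥ := by
          intro h
          rw [Subgroup.subgroupOf_eq_bot] at h
          apply hMbot
          rw [← h1]
          exact disjoint_iff.mp h
        obtain ⟨L, hLn, hLM, hLne, hLmin⟩ :=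
          exists_minimal_normal_le (M.subgroupOf K) inferInstance hMKne
        have hcard : Nat.card K < n := by
          rw [← hn]
          rw [← Subgroup.card_top (G := G)]
          refine lt_of_le_of_ne (Subgroup.card_le_of_le le_top) fun h => ?_
          exact hKt.ne (Subgroup.eq_of_le_of_card_ge le_top h.ge)
        have key : L.map K.subtype ≤ M ⊓ D := by
          refine le_inf ?_ ?_
          · exact (Subgroup.map_mono hLM).trans
              (by rw [Subgroup.subgroupOf_map_subtype]; exact inf_le_left)
          · rintro x ⟨l, hl, rfl⟩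
            rw [hD]
            intro g
            -- show `g * l * g⁻¹ ∈ N_G(S)`
            set S' : Subgroup G := MulAut.conj g⁻¹ • S with hS'
            have hS'sub : S'.IsSubnormal := hS.smul _
            have hS'K : S' ≤ K := by
              have : MulAut.conj g⁻¹ • S ≤ MulAut.conj g⁻¹ • K :=
                Subgroup.pointwise_smul_le_pointwise_smul_iff.mpr hSK
              rwa [Subgroup.Normal.conj_smul_eq_self g⁻¹ K] at this
            have h3 := ih (Nat.card K) hcard K rfl (S'.subgroupOf K) L hS'sub.subgroupOf hLn hLmin
            have h4 : (l : K) ∈ Subgroup.normalizer ((S'.subgroupOf K : Subgroup K) : Set K) :=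
              h3 hl
            rw [← Subgroup.subgroupOf_normalizer_eq hS'K] at h4
            have h5 : (l : G) ∈ Subgroup.normalizer (S' : Set G) := h4
            rw [Subgroup.mem_normalizer_iff] at h5 ⊢
            intro s
            have h6 := h5 (g⁻¹ * s * g)
            have e1 : ∀ t : G, (g⁻¹ * t * g ∈ S') ↔ t ∈ S := by
              intro t
              rw [hS', Subgroup.mem_pointwise_smul_iff_inv_smul_mem]
              have : (MulAut.conj g⁻¹)⁻¹ • (g⁻¹ * t * g) = t := by
                rw [← map_inv, inv_inv, MulAut.smul_def, MulAut.conj_apply]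
                group
              rw [this]
            rw [e1] at h6
            rw [h6]
            have e2 : (l : G) * (g⁻¹ * s * g) * (l : G)⁻¹
                = g⁻¹ * (g * (K.subtype l) * g⁻¹ * s * (g * (K.subtype l) * g⁻¹)⁻¹) * g := by
              simp only [Subgroup.coe_subtype]
              group
            rw [e2, e1]
        rw [h2, le_bot_iff] at key
        apply hLne
        rwa [Subgroup.map_eq_bot_iff_of_injective _ K.subtype_injective] at key
      · rw [← h2]
        exact inf_le_right.trans (Subgroup.normalCore_le _)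

/-- In a finite group a minimal normal subgroup normalizes every subnormal subgroup. -/
theorem le_normalizer_of_minimal_normal {G : Type*} [Group G] [Finite G] (S M : Subgroup G)
    (hS : S.IsSubnormal) (hM : M.Normal)
    (hmin : ∀ N : Subgroup G, N.Normal → N ≤ M → N = ⊥ ∨ N = M) :
    M ≤ Subgroup.normalizer (S : Set G) :=
  le_normalizer_of_minimal_normal_aux (Nat.card G) G rfl S M hS hM hmin

theorem isSubnormal_sup_aux (n : ℕ) :
    ∀ (G : Type u) [Group G] [Finite G], Nat.card G = n → ∀ (A B : Subgroup G),
      A.IsSubnormal → B.IsSubnormal → (A ⊔ B).IsSubnormal := by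
  induction n using Nat.strong_induction_on with
  | _ n ih =>
    intro G _ _ hn A B hA hB
    rcases subsingleton_or_nontrivial G with hG | hG
    · have : A ⊔ B = ⊤ := Subsingleton.elim _ _
      rw [this]
      exact Subgroup.IsSubnormal.top
    obtain ⟨M, hM, hMne, hmin⟩ := exists_minimal_normal G
    have hcard : Nat.card (G ⧸ M) < n := by
      rw [← hn, ← Subgroup.index_eq_card, ← M.card_mul_index]
      have h1 : 1 < Nat.card M := by
        rw [Subgroup.one_lt_card_iff_ne_bot]
        exact hMne
      have h2 : 0 < M.index := Nat.pos_of_ne_zero Subgroup.index_ne_zero_of_finite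
      nlinarith
    have h1 := ih _ hcard (G ⧸ M) rfl (A.map (QuotientGroup.mk' M)) (B.map (QuotientGroup.mk' M))
      hA.quotient hB.quotient
    rw [← Subgroup.map_sup] at h1
    have h2 := h1.comap (QuotientGroup.mk' M)
    rw [Subgroup.comap_map_eq, QuotientGroup.ker_mk'] at h2
    refine Subgroup.IsSubnormal.step _ _ le_sup_left h2 ?_
    rw [Subgroup.normal_subgroupOf_iff_le_normalizer le_sup_left]
    refine sup_le Subgroup.le_normalizer ?_
    refine le_trans (le_inf ?_ ?_) (Subgroup.normalizer_inf_normalizer_le_normalizer_sup A B)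
    · exact le_normalizer_of_minimal_normal A M hA hM hmin
    · exact le_normalizer_of_minimal_normal B M hB hM hmin

/-- Wielandt: the join of two subnormal subgroups of a finite group is subnormal. -/
theorem isSubnormal_sup {G : Type*} [Group G] [Finite G] {A B : Subgroup G}
    (hA : A.IsSubnormal) (hB : B.IsSubnormal) : (A ⊔ B).IsSubnormal :=
  isSubnormal_sup_aux (Nat.card G) G rfl A B hA hB

/-- The join of any family of subnormal subgroups of a finite group is subnormal. -/
theorem isSubnormal_sSup {G : Type*} [Group G] [Finite G] (S : Set (Subgroup G))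
    (hS : ∀ A ∈ S, A.IsSubnormal) : (sSup S).IsSubnormal := by
  have hfin : S.Finite := Set.toFinite S
  revert hS
  refine Set.Finite.induction_on (motive := fun S _ => (∀ A ∈ S, A.IsSubnormal) →
    (sSup S).IsSubnormal) S hfin ?_ ?_
  · intro _
    rw [sSup_empty]
    exact Subgroup.IsSubnormal.bot
  · intro A T _ _ ih h
    rw [sSup_insert]
    exact isSubnormal_sup (h A (Set.mem_insert _ _)) (ih fun B hB => h B (Set.mem_insert_of_mem _ hB))

/-- The join of any indexed family of subnormal subgroups of a finite group is subnormal. -/
theorem isSubnormal_iSup {G : Type*} [Group G] [Finite G] {ι : Sort*} (f : ι → Subgroup G)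
    (hf : ∀ i, (f i).IsSubnormal) : (⨆ i, f i).IsSubnormal := by
  rw [iSup]
  exact isSubnormal_sSup _ (by rintro A ⟨i, rfl⟩; exact hf i)

/-- If `T` is subnormal but not normal, some conjugate of `T` other than `T` normalizes `T`
(any group). -/
theorem exists_conj_le_normalizer {G : Type*} [Group G] {T : Subgroup G}
    (hT : T.IsSubnormal) (hn : ¬ T.Normal) :
    ∃ g : G, MulAut.conj g • T ≠ T ∧ MulAut.conj g • T ≤ Subgroup.normalizer (T : Set G) := by
  -- prove: for every subnormal `K` with `T ≤ K ≤ N(T)` there is such a `g`
  have key : ∀ K : Subgroup G, K.IsSubnormal → T ≤ K → K ≤ Subgroup.normalizer (T : Set G) →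
      ∃ g : G, MulAut.conj g • T ≠ T ∧
        MulAut.conj g • T ≤ Subgroup.normalizer (T : Set G) := by
    intro K hK
    induction hK with
    | top =>
      intro _ h
      exact absurd (Subgroup.normalizer_eq_top_iff.mp (top_le_iff.mp h)) hn
    | step H K hHK hKs hN ih =>
      intro hTH hHT
      by_cases hKT : K ≤ Subgroup.normalizer (T : Set G)
      · exact ih (hTH.trans hHK) hKT
      · obtain ⟨g, hgK, hgT⟩ := SetLike.not_le_iff_exists.mp hKT
        refine ⟨g, ?_, ?_⟩
        · intro h
          apply hgT
          rw [Subgroup.mem_normalizer_iff_map_conj_eq]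
          exact h
        · have h1 : MulAut.conj g • T ≤ MulAut.conj g • H :=
            Subgroup.pointwise_smul_le_pointwise_smul_iff.mpr hTH
          have h2 : g ∈ Subgroup.normalizer (H : Set G) :=
            (Subgroup.normal_subgroupOf_iff_le_normalizer hHK).mp hN hgK
          rw [Subgroup.mem_normalizer_iff_map_conj_eq] at h2
          have h3 : MulAut.conj g • H = H := h2
          rw [h3] at h1
          exact h1.trans hHT
  exact key T hT le_rfl Subgroup.le_normalizer

end Cfsg.Agent.Lib.SubnormalJoin
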