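import Cfsg.Agent.Lib.F2Mat
set_option linter.all false

/-!
# Kernel computations in matrix groups over the field with two elements

`Codes n g A` : the element `g` of `GL (Fin n) (ZMod 2)` has packed matrix `A`.
Words and straight line programs are evaluated on packed matrices; `check_sound` turns one kernel
computation into equalities and inequalities in the group.
-/

set_option autoImplicit false

namespace Cfsg.Agent.Lib.F2MatGroup

open Cfsg.Agent.Lib.F2Mat

variable {n : ℕ}

/-- `A` is the packed matrix of `g`. -/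
def Codes (n : ℕ) (g : GL (Fin n) (ZMod 2)) (A : ℕ) : Prop :=
  (g : Matrix (Fin n) (Fin n) (ZMod 2)) = toMat n A

theorem Codes.one (n : ℕ) : Codes n 1 (F2Mat.one n) := (toMat_one n).symm

theorem Codes.mul {g h : GL (Fin n) (ZMod 2)} {A B : ℕ} (hg : Codes n g A) (hh : Codes n h B) :
    Codes n (g * h) (F2Mat.mul n A B) := by
  unfold Codes at *
  rw [toMat_mul, ← hg, ← hh]
  rfl

/-- iterated product. -/
def npow (n A : ℕ) (k : ℕ) : ℕ := Nat.rec (F2Mat.one n) (fun _ ih => F2Mat.mul n ih A) k

theorem npow_succ (n A k : ℕ) : npow n A (k + 1) = F2Mat.mul n (npow n A k) A := rfl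

theorem Codes.pow {g : GL (Fin n) (ZMod 2)} {A : ℕ} (hg : Codes n g A) (k : ℕ) :
    Codes n (g ^ k) (npow n A k) := by
  induction k with
  | zero => rw [pow_zero]; exact Codes.one n
  | succ k ih => rw [pow_succ, npow_succ]; exact ih.mul hg

theorem Codes.inv {g : GL (Fin n) (ZMod 2)} {A B : ℕ} (hg : Codes n g A)
    (h : Nat.beq (F2Mat.mul n A B) (F2Mat.one n) = true) : Codes n g⁻¹ B := by
  have h1 : toMat n A * toMat n B = 1 := by
    rw [← toMat_mul, Nat.eq_of_beq_eq_true h, toMat_one]
  have h2 : (g : Matrix (Fin n) (Fin n) (ZMod 2)) * toMat n B = 1 := by rw [hg]; exact h1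
  have h3 : ((g⁻¹ : GL (Fin n) (ZMod 2)) : Matrix (Fin n) (Fin n) (ZMod 2)) *
      (g : Matrix (Fin n) (Fin n) (ZMod 2)) = 1 := by
    rw [← Units.val_mul, inv_mul_cancel, Units.val_one]
  unfold Codes
  calc ((g⁻¹ : GL (Fin n) (ZMod 2)) : Matrix (Fin n) (Fin n) (ZMod 2))
      = ((g⁻¹ : GL (Fin n) (ZMod 2)) : Matrix (Fin n) (Fin n) (ZMod 2)) *
        ((g : Matrix (Fin n) (Fin n) (ZMod 2)) * toMat n B) := by rw [h2, mul_one]
    _ = toMat n B := by rw [← mul_assoc, h3, one_mul]

theorem Codes.eq {g h : GL (Fin n) (ZMod 2)} {A B : ℕ} (hg : Codes n g A) (hh : Codes n h B)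
    (e : Nat.beq A B = true) : g = h := by
  apply Units.ext
  rw [hg, hh, Nat.eq_of_beq_eq_true e]

theorem Codes.eq_one {g : GL (Fin n) (ZMod 2)} {A : ℕ} (hg : Codes n g A)
    (e : Nat.beq A (F2Mat.one n) = true) : g = 1 := hg.eq (Codes.one n) e

/-- The invertible matrix coded by `A`, with inverse coded by `B`. -/
def unit (n A B : ℕ) (h1 : Nat.beq (F2Mat.mul n A B) (F2Mat.one n) = true)
    (h2 : Nat.beq (F2Mat.mul n B A) (F2Mat.one n) = true) : GL (Fin n) (ZMod 2) where
  val := toMat n A
  inv := toMat n B
  val_inv := by rw [← toMat_mul, Nat.eq_of_beq_eq_true h1, toMat_one]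
  inv_val := by rw [← toMat_mul, Nat.eq_of_beq_eq_true h2, toMat_one]

theorem codes_unit (n A B : ℕ) (h1 : Nat.beq (F2Mat.mul n A B) (F2Mat.one n) = true)
    (h2 : Nat.beq (F2Mat.mul n B A) (F2Mat.one n) = true) :
    Codes n (unit n A B h1 h2) A := rfl

theorem codes_unit_inv (n A B : ℕ) (h1 : Nat.beq (F2Mat.mul n A B) (F2Mat.one n) = true)
    (h2 : Nat.beq (F2Mat.mul n B A) (F2Mat.one n) = true) :
    Codes n (unit n A B h1 h2)⁻¹ B := rfl

/-! ### Words and straight line programs -/

/-- `i`-th entry of a list of numbers. -/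
def get (d : ℕ) (L : List ℕ) (i : ℕ) : ℕ :=
  List.rec (motive := fun _ => ℕ → ℕ) (fun _ => d)
    (fun a _ ih i => Nat.rec a (fun j _ => ih j) i) L i

theorem get_nil (d i : ℕ) : get d [] i = d := rfl
theorem get_cons_zero (d a : ℕ) (L : List ℕ) : get d (a :: L) 0 = a := rfl
theorem get_cons_succ (d a : ℕ) (L : List ℕ) (i : ℕ) : get d (a :: L) (i + 1) = get d L i := rfl

/-- `i`-th entry of a list of group elements. -/
def getG {G : Type*} [Group G] (L : List G) (i : ℕ) : G := L.getD i 1

/-- product of a word, on packed matrices. -/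
def evW (n : ℕ) (L : List ℕ) (w : List ℕ) : ℕ :=
  List.rec (F2Mat.one n) (fun i _ ih => F2Mat.mul n (get (F2Mat.one n) L i) ih) w

/-- product of a word, in a group. -/
def evG {G : Type*} [Group G] (L : List G) : List ℕ → G
  | [] => 1
  | i :: w => getG L i * evG L w

theorem evG_nil {G : Type*} [Group G] (L : List G) : evG L [] = 1 := rfl
theorem evG_cons {G : Type*} [Group G] (L : List G) (i : ℕ) (w : List ℕ) :
    evG L (i :: w) = getG L i * evG L w := rfl

theorem codes_get {LG : List (GL (Fin n) (ZMod 2))} {L : List ℕ}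
    (h : List.Forall₂ (Codes n) LG L) (i : ℕ) :
    Codes n (getG LG i) (get (F2Mat.one n) L i) := by
  induction h generalizing i with
  | nil => exact Codes.one n
  | cons h1 _ ih =>
    rcases i with _ | i
    · exact h1
    · exact ih i

theorem codes_evW {LG : List (GL (Fin n) (ZMod 2))} {L : List ℕ}
    (h : List.Forall₂ (Codes n) LG L) (w : List ℕ) : Codes n (evG LG w) (evW n L w) := by
  induction w with
  | nil => exact Codes.one n
  | cons i w ih => exact (codes_get h i).mul ih

theorem evW_lt (hn : 0 < n) (L : List ℕ) (w : List ℕ) : evW n L w < 2 ^ (n * n) := by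
  rcases w with _ | ⟨i, w⟩
  · exact one_lt'
  · exact mul_lt hn _ _

/-- Run a straight line program (every step is a word in the results so far, the newest result is
number `0`), then apply `k` to the list of results. -/
def run (n : ℕ) (ws : List (List ℕ)) (L : List ℕ) (k : List ℕ → Bool) : Bool :=
  List.rec (motive := fun _ => List ℕ → Bool) k
    (fun w _ ih L => force (evW n L w) fun v => ih (v :: L)) ws L

theorem run_nil (n : ℕ) (L : List ℕ) (k : List ℕ → Bool) : run n [] L k = k L := rfl
theorem run_cons (n : ℕ) (w : List ℕ) (ws : List (List ℕ)) (L : List ℕ) (k : List ℕ → Bool) :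
    run n (w :: ws) L k = run n ws (evW n L w :: L) k :=
  force_eq (evW n L w) fun v => run n ws (v :: L) k

/-- The straight line program in a group. -/
def runG {G : Type*} [Group G] : List (List ℕ) → List G → List G
  | [], L => L
  | w :: ws, L => runG ws (evG L w :: L)

theorem runG_nil {G : Type*} [Group G] (L : List G) : runG [] L = L := rfl
theorem runG_cons {G : Type*} [Group G] (w : List ℕ) (ws : List (List ℕ)) (L : List G) :
    runG (w :: ws) L = runG ws (evG L w :: L) := rfl

theorem run_sound {ws : List (List ℕ)} {LG : List (GL (Fin n) (ZMod 2))} {L : List ℕ}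
    {k : List ℕ → Bool} (h : List.Forall₂ (Codes n) LG L) (hr : run n ws L k = true) :
    ∃ L', List.Forall₂ (Codes n) (runG ws LG) L' ∧ k L' = true := by
  induction ws generalizing LG L with
  | nil => exact ⟨L, h, hr⟩
  | cons w ws ih =>
    rw [run_cons] at hr
    rw [runG_cons]
    exact ih (List.Forall₂.cons (codes_evW h w) h) hr

/-- all pairs of words in the list have the same value. -/
def eqs (n : ℕ) (es : List (List ℕ × List ℕ)) (L : List ℕ) : Bool :=
  List.rec true (fun p _ ih => cond (Nat.beq (evW n L p.1) (evW n L p.2)) ih false) es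

/-- all pairs of words in the list have different values. -/
def neqs (n : ℕ) (es : List (List ℕ × List ℕ)) (L : List ℕ) : Bool :=
  List.rec true (fun p _ ih => cond (Nat.beq (evW n L p.1) (evW n L p.2)) false ih) es

theorem eqs_sound {es : List (List ℕ × List ℕ)} {LG : List (GL (Fin n) (ZMod 2))} {L : List ℕ}
    (h : List.Forall₂ (Codes n) LG L) (he : eqs n es L = true) :
    ∀ p ∈ es, evG LG p.1 = evG LG p.2 := by
  induction es with
  | nil => intro p hp; simp at hp
  | cons q es ih =>
    have he' : cond (Nat.beq (evW n L q.1) (evW n L q.2)) (eqs n es L) false = true := he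
    rcases hb : Nat.beq (evW n L q.1) (evW n L q.2) with _ | _
    · rw [hb] at he'; exact absurd he' Bool.false_ne_true
    · rw [hb] at he'
      intro p hp
      rcases List.mem_cons.mp hp with rfl | hp
      · exact (codes_evW h _).eq (codes_evW h _) hb
      · exact ih he' p hp

theorem neqs_sound (hn : 0 < n) {es : List (List ℕ × List ℕ)} {LG : List (GL (Fin n) (ZMod 2))}
    {L : List ℕ} (h : List.Forall₂ (Codes n) LG L) (he : neqs n es L = true) :
    ∀ p ∈ es, evG LG p.1 ≠ evG LG p.2 := by
  induction es with
  | nil => intro p hp; simp at hp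
  | cons q es ih =>
    have he' : cond (Nat.beq (evW n L q.1) (evW n L q.2)) false (neqs n es L) = true := he
    rcases hb : Nat.beq (evW n L q.1) (evW n L q.2) with _ | _
    · rw [hb] at he'
      intro p hp
      rcases List.mem_cons.mp hp with rfl | hp
      · intro heq
        have h1 : toMat n (evW n L p.1) = toMat n (evW n L p.2) := by
          have e1 := codes_evW h p.1
          have e2 := codes_evW h p.2
          unfold Codes at e1 e2
          rw [← e1, ← e2, heq]
        have h2 := toMat_inj (evW_lt hn L p.1) (evW_lt hn L p.2) h1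
        rw [h2, Nat.beq_refl] at hb
        exact absurd hb (by decide)
      · exact ih he' p hp
    · rw [hb] at he'; exact absurd he' Bool.false_ne_true

/-- The complete check. -/
def check (n : ℕ) (L : List ℕ) (ws : List (List ℕ)) (es ns : List (List ℕ × List ℕ)) : Bool :=
  run n ws L fun L => cond (eqs n es L) (neqs n ns L) false

theorem check_sound (hn : 0 < n) {LG : List (GL (Fin n) (ZMod 2))} {L : List ℕ}
    {ws : List (List ℕ)} {es ns : List (List ℕ × List ℕ)}
    (h : List.Forall₂ (Codes n) LG L) (hc : check n L ws es ns = true) :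
    (∀ p ∈ es, evG (runG ws LG) p.1 = evG (runG ws LG) p.2) ∧
      (∀ p ∈ ns, evG (runG ws LG) p.1 ≠ evG (runG ws LG) p.2) := by
  obtain ⟨L', h', hk⟩ := run_sound h hc
  rcases hb : eqs n es L' with _ | _
  · rw [hb] at hk; exact absurd hk Bool.false_ne_true
  · rw [hb] at hk
    exact ⟨eqs_sound h' hb, neqs_sound hn h' hk⟩

/-! ### Homomorphisms and subgroups -/

theorem getG_map {G H : Type*} [Group G] [Group H] (f : G →* H) (L : List G) (i : ℕ) :
    getG (L.map f) i = f (getG L i) := by
  induction L generalizing i with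
  | nil => simp [getG]
  | cons a L ih =>
    rcases i with _ | i
    · rfl
    · exact ih i

theorem evG_map {G H : Type*} [Group G] [Group H] (f : G →* H) (L : List G) (w : List ℕ) :
    evG (L.map f) w = f (evG L w) := by
  induction w with
  | nil => simp [evG_nil]
  | cons i w ih => rw [evG_cons, evG_cons, map_mul, ih, getG_map]

theorem runG_map {G H : Type*} [Group G] [Group H] (f : G →* H) (ws : List (List ℕ))
    (L : List G) : runG ws (L.map f) = (runG ws L).map f := by
  induction ws generalizing L with
  | nil => rfl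
  | cons w ws ih => rw [runG_cons, runG_cons, evG_map, ← List.map_cons, ih]

theorem getG_mem {G : Type*} [Group G] (K : Subgroup G) {L : List G} (hL : ∀ g ∈ L, g ∈ K)
    (i : ℕ) : getG L i ∈ K := by
  induction L generalizing i with
  | nil => simp [getG, K.one_mem]
  | cons a L ih =>
    rcases i with _ | i
    · exact hL a (by simp)
    · exact ih (fun g hg => hL g (by simp [hg])) i

theorem evG_mem {G : Type*} [Group G] (K : Subgroup G) {L : List G} (hL : ∀ g ∈ L, g ∈ K)
    (w : List ℕ) : evG L w ∈ K := by
  induction w with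
  | nil => exact K.one_mem
  | cons i w ih => exact K.mul_mem (getG_mem K hL i) ih

theorem runG_mem {G : Type*} [Group G] (K : Subgroup G) {L : List G} (hL : ∀ g ∈ L, g ∈ K)
    (ws : List (List ℕ)) : ∀ g ∈ runG ws L, g ∈ K := by
  induction ws generalizing L with
  | nil => exact hL
  | cons w ws ih =>
    rw [runG_cons]
    refine ih ?_
    intro g hg
    rcases List.mem_cons.mp hg with rfl | hg
    · exact evG_mem K hL w
    · exact hL g hg

end Cfsg.Agent.Lib.F2MatGroup
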