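import Mathlib
set_option linter.all false

/-!
The number of automorphisms of a finite field with `p ^ f` elements is `f`.
-/

set_option autoImplicit false

namespace Cfsg.Agent.Lib.FieldAutCard

/-- A field with `p ^ f` elements has exactly `f` automorphisms. -/
theorem card_ringAut {F : Type*} [Field F] [Fintype F] {p f : ℕ} [Fact p.Prime] (hf : 1 ≤ f)
    (hF : Fintype.card F = p ^ f) : Nat.card (F ≃+* F) = f := by
  have hchar : CharP F p := by
    obtain ⟨q, hq⟩ := CharP.exists F
    obtain ⟨n, hqp, hn⟩ := FiniteField.card F q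
    have hpp : p.Prime := Fact.out
    have : q ∣ p ^ f := by
      rw [← hF, hn]
      exact dvd_pow_self q n.pos.ne'
    have hqp' : q = p := (Nat.prime_dvd_prime_iff_eq hqp hpp).1 (hqp.dvd_of_dvd_pow this)
    rwa [← hqp']
  letI : Algebra (ZMod p) F := ZMod.algebra F p
  have e : (F ≃+* F) ≃ (F ≃ₐ[ZMod p] F) :=
    { toFun := fun φ => AlgEquiv.ofRingEquiv (f := φ) (fun a => by
        have : (φ : F →+* F).comp (algebraMap (ZMod p) F) = algebraMap (ZMod p) F :=
          Subsingleton.elim _ _
        exact RingHom.congr_fun this a)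
      invFun := fun φ => φ.toRingEquiv
      left_inv := fun φ => by ext; rfl
      right_inv := fun φ => by ext; rfl }
  rw [Nat.card_congr e]
  rw [IsGalois.card_aut_eq_finrank]
  have h1 : Fintype.card F = p ^ Module.finrank (ZMod p) F := by
    rw [Module.card_eq_pow_finrank (K := ZMod p) (V := F), ZMod.card]
  have hp2 : 2 ≤ p := (Fact.out : p.Prime).two_le
  exact Nat.pow_right_injective hp2 (h1.symm.trans hF)

end Cfsg.Agent.Lib.FieldAutCard
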