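import Mathlib
set_option linter.all false

/-!
# Recognising `PSL(2,F)` and `PGL(2,F)` as groups of Moebius transformations

`GL (Fin 2) F` acts on `OnePoint F` (Mathlib). The kernel is the centre. A group acting faithfully
on a set `Ω` identified with `OnePoint F` and inducing the same permutations as `SL(2,F)`
(resp. `GL(2,F)`) is isomorphic to `PSL(2,F)` (resp. `PGL(2,F)`).
-/

set_option autoImplicit false

namespace Cfsg.Agent.Lib.Mobius

open Matrix OnePoint

section Hom

variable (F : Type*) [Field F] [DecidableEq F]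

/-- The action of `GL(2,F)` on the projective line, as a homomorphism. -/
noncomputable def glHom : GL (Fin 2) F →* Equiv.Perm (OnePoint F) :=
  MulAction.toPermHom (GL (Fin 2) F) (OnePoint F)

/-- The action of `SL(2,F)` on the projective line, as a homomorphism. -/
noncomputable def slHom : SpecialLinearGroup (Fin 2) F →* Equiv.Perm (OnePoint F) :=
  (glHom F).comp SpecialLinearGroup.toGL

theorem glHom_apply (g : GL (Fin 2) F) (x : OnePoint F) : glHom F g x = g • x := rfl

theorem slHom_apply (g : SpecialLinearGroup (Fin 2) F) (x : OnePoint F) :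
    slHom F g x = (SpecialLinearGroup.toGL g : GL (Fin 2) F) • x := rfl

theorem glHom_ker : (glHom F).ker = Subgroup.center (GL (Fin 2) F) := by
  ext g
  rw [MonoidHom.mem_ker, GeneralLinearGroup.mem_center_iff_val_mem_range_scalar]
  constructor
  · intro h
    have h1 : ∀ x : OnePoint F, g • x = x := fun x => by
      rw [← glHom_apply, h]; rfl
    have hinf := h1 ∞
    rw [smul_infty_eq_self_iff] at hinf
    have h0 := h1 ((0 : F) : OnePoint F)
    have h11 := h1 ((1 : F) : OnePoint F)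
    rw [smul_some_eq_ite] at h0 h11
    have hdet : (g : Matrix (Fin 2) (Fin 2) F).det ≠ 0 := g.det_ne_zero
    rw [det_fin_two, hinf] at hdet
    have h11' : g 1 1 ≠ 0 := by
      intro h'; apply hdet; rw [h']; ring
    simp only [hinf, zero_mul, zero_add, h11', if_false, mul_zero] at h0 h11
    rw [coe_eq_coe, div_eq_iff h11'] at h0 h11
    refine ⟨g 0 0, ?_⟩
    ext i j
    fin_cases i <;> fin_cases j
    · simp
    · simp at h0; simp [h0]
    · simp [hinf]
    · simp at h0 h11; rw [h0] at h11; simp at h11; simp [h11]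
  · rintro ⟨a, ha⟩
    ext x
    rw [glHom_apply, Equiv.Perm.one_apply]
    have h00 : g 0 0 = a := by rw [← ha]; simp
    have h01 : g 0 1 = 0 := by rw [← ha]; simp
    have h10 : g 1 0 = 0 := by rw [← ha]; simp
    have h11 : g 1 1 = a := by rw [← ha]; simp
    have hdet : (g : Matrix (Fin 2) (Fin 2) F).det ≠ 0 := g.det_ne_zero
    rw [det_fin_two, h00, h01, h10, h11] at hdet
    have ha0 : a ≠ 0 := by rintro rfl; simp at hdet
    cases x with
    | infty => rw [smul_infty_eq_self_iff]; exact h10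
    | coe c =>
      rw [smul_some_eq_ite, h00, h01, h10, h11]
      simp [ha0]

theorem slHom_ker : (slHom F).ker = Subgroup.center (SpecialLinearGroup (Fin 2) F) := by
  ext g
  rw [MonoidHom.mem_ker, slHom, MonoidHom.comp_apply, ← MonoidHom.mem_ker, glHom_ker,
    SpecialLinearGroup.toGL_mem_center_iff]

end Hom

section Recog

variable {F : Type*} [Field F] [DecidableEq F] {G Ω : Type*} [Group G] [MulAction G Ω]

/-- The permutations of `OnePoint F` induced by `G` through `e`. -/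
noncomputable def permHom {F : Type*} {G Ω : Type*} [Group G] [MulAction G Ω] (e : Ω ≃ OnePoint F) : G →* Equiv.Perm (OnePoint F) :=
  (e.permCongrHom : Equiv.Perm Ω ≃* Equiv.Perm (OnePoint F)).toMonoidHom.comp
    (MulAction.toPermHom G Ω)

omit [Field F] [DecidableEq F] in
theorem permHom_apply (e : Ω ≃ OnePoint F) (g : G) (x : Ω) :
    permHom e g (e x) = e (g • x) := by
  simp [permHom, Equiv.permCongrHom]

omit [Field F] [DecidableEq F] in
theorem permHom_injective [FaithfulSMul G Ω] (e : Ω ≃ OnePoint F) :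
    Function.Injective (permHom e : G →* Equiv.Perm (OnePoint F)) := by
  rw [permHom, MonoidHom.coe_comp]
  exact (MulEquiv.injective _).comp MulAction.toPerm_injective

theorem permHom_eq_slHom_iff (e : Ω ≃ OnePoint F) (g : G) (A : SpecialLinearGroup (Fin 2) F) :
    permHom e g = slHom F A ↔
      ∀ x, e (g • x) = (SpecialLinearGroup.toGL A : GL (Fin 2) F) • e x := by
  constructor
  · intro h x
    rw [← permHom_apply, h, slHom_apply]
  · intro h
    ext1 y
    obtain ⟨x, rfl⟩ := e.surjective y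
    rw [permHom_apply, h, slHom_apply]

theorem permHom_eq_glHom_iff (e : Ω ≃ OnePoint F) (g : G) (A : GL (Fin 2) F) :
    permHom e g = glHom F A ↔ ∀ x, e (g • x) = A • e x := by
  constructor
  · intro h x
    rw [← permHom_apply, h, glHom_apply]
  · intro h
    ext1 y
    obtain ⟨x, rfl⟩ := e.surjective y
    rw [permHom_apply, h, glHom_apply]

/-- If two homomorphisms into the same group have the same range, the first is injective and the
second has kernel `N`, then the first domain is the second modulo `N`. -/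
theorem nonempty_mulEquiv_quotient {G K P : Type*} [Group G] [Group K] [Group P] (φ : G →* P)
    (ψ : K →* P) (hφ : Function.Injective φ) (N : Subgroup K) [N.Normal] (hN : ψ.ker = N)
    (hr : φ.range = ψ.range) : Nonempty (G ≃* K ⧸ N) := by
  subst hN
  exact ⟨(MonoidHom.ofInjective hφ).trans ((MulEquiv.subgroupCongr hr).trans
    (QuotientGroup.quotientKerEquivRange ψ).symm)⟩

theorem nonempty_mulEquiv_psl [FaithfulSMul G Ω] (e : Ω ≃ OnePoint F)
    (h1 : ∀ g : G, ∃ A : SpecialLinearGroup (Fin 2) F, ∀ x,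
      e (g • x) = (SpecialLinearGroup.toGL A : GL (Fin 2) F) • e x)
    (h2 : ∀ A : SpecialLinearGroup (Fin 2) F, ∃ g : G, ∀ x,
      e (g • x) = (SpecialLinearGroup.toGL A : GL (Fin 2) F) • e x) :
    Nonempty (G ≃* ProjectiveSpecialLinearGroup (Fin 2) F) := by
  apply nonempty_mulEquiv_quotient (permHom e) (slHom F) (permHom_injective e) _ (slHom_ker F)
  ext p
  simp only [MonoidHom.mem_range]
  constructor
  · rintro ⟨g, rfl⟩
    obtain ⟨A, hA⟩ := h1 g
    exact ⟨A, ((permHom_eq_slHom_iff e g A).2 hA).symm⟩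
  · rintro ⟨A, rfl⟩
    obtain ⟨g, hg⟩ := h2 A
    exact ⟨g, (permHom_eq_slHom_iff e g A).2 hg⟩

theorem nonempty_mulEquiv_pgl [FaithfulSMul G Ω] (e : Ω ≃ OnePoint F)
    (h1 : ∀ g : G, ∃ A : GL (Fin 2) F, ∀ x, e (g • x) = A • e x)
    (h2 : ∀ A : GL (Fin 2) F, ∃ g : G, ∀ x, e (g • x) = A • e x) :
    Nonempty (G ≃* ProjGenLinGroup (Fin 2) F) := by
  apply nonempty_mulEquiv_quotient (permHom e) (glHom F) (permHom_injective e) _ (glHom_ker F)
  ext p
  simp only [MonoidHom.mem_range]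
  constructor
  · rintro ⟨g, rfl⟩
    obtain ⟨A, hA⟩ := h1 g
    exact ⟨A, ((permHom_eq_glHom_iff e g A).2 hA).symm⟩
  · rintro ⟨A, rfl⟩
    obtain ⟨g, hg⟩ := h2 A
    exact ⟨g, (permHom_eq_glHom_iff e g A).2 hg⟩

end Recog

section Elements

variable {F : Type*} [Field F] [DecidableEq F]

/-- The translation `x ↦ x + b` in `SL(2,F)`. -/
def tr (b : F) : SpecialLinearGroup (Fin 2) F := ⟨!![1, b; 0, 1], by simp⟩

/-- The map `x ↦ -s²/x` in `SL(2,F)`. -/
def wt (s : F) (hs : s ≠ 0) : SpecialLinearGroup (Fin 2) F :=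
  ⟨!![0, -s; s⁻¹, 0], by simp [hs]⟩

/-- The map `x ↦ s² x` in `SL(2,F)`. -/
def dg (s : F) (hs : s ≠ 0) : SpecialLinearGroup (Fin 2) F :=
  ⟨!![s, 0; 0, s⁻¹], by simp [hs]⟩

/-- The map `x ↦ a x` in `GL(2,F)`. -/
noncomputable def gdg (a : F) (ha : a ≠ 0) : GL (Fin 2) F :=
  Matrix.GeneralLinearGroup.mkOfDetNeZero !![a, 0; 0, 1] (by simp [ha])

/-- The map `x ↦ c / x` in `GL(2,F)`. -/
noncomputable def gwt (c : F) (hc : c ≠ 0) : GL (Fin 2) F :=
  Matrix.GeneralLinearGroup.mkOfDetNeZero !![0, c; 1, 0] (by simp [hc])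

theorem smul_infty_of (g : GL (Fin 2) F) (a c : F) (h0 : g 0 0 = a) (h1 : g 1 0 = c) :
    g • (∞ : OnePoint F) = if c = 0 then ∞ else ((a / c : F) : OnePoint F) := by
  rw [smul_infty_eq_ite, h0, h1]

theorem smul_coe_of (g : GL (Fin 2) F) (a b c d : F) (h00 : g 0 0 = a) (h01 : g 0 1 = b)
    (h10 : g 1 0 = c) (h11 : g 1 1 = d) (y : F) :
    g • (y : OnePoint F) =
      if c * y + d = 0 then ∞ else (((a * y + b) / (c * y + d) : F) : OnePoint F) := by
  rw [smul_some_eq_ite, h00, h01, h10, h11]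

theorem tr_smul_infty (b : F) :
    (SpecialLinearGroup.toGL (tr b) : GL (Fin 2) F) • (∞ : OnePoint F) = ∞ :=
  (smul_infty_of _ 1 0 rfl rfl).trans (by simp)

theorem tr_smul_coe (b y : F) :
    (SpecialLinearGroup.toGL (tr b) : GL (Fin 2) F) • (y : OnePoint F) = ((y + b : F) : OnePoint F) :=
  (smul_coe_of _ 1 b 0 1 rfl rfl rfl rfl y).trans (by simp)

theorem wt_smul_infty (s : F) (hs : s ≠ 0) :
    (SpecialLinearGroup.toGL (wt s hs) : GL (Fin 2) F) • (∞ : OnePoint F) = ((0 : F) : OnePoint F) :=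
  (smul_infty_of _ 0 s⁻¹ rfl rfl).trans (by simp [hs])

theorem wt_smul_zero (s : F) (hs : s ≠ 0) :
    (SpecialLinearGroup.toGL (wt s hs) : GL (Fin 2) F) • ((0 : F) : OnePoint F) = ∞ :=
  (smul_coe_of _ 0 (-s) s⁻¹ 0 rfl rfl rfl rfl 0).trans (by simp)

theorem wt_smul_coe (s : F) (hs : s ≠ 0) (y : F) (hy : y ≠ 0) :
    (SpecialLinearGroup.toGL (wt s hs) : GL (Fin 2) F) • (y : OnePoint F) =
      ((-s ^ 2 * y⁻¹ : F) : OnePoint F) :=
  (smul_coe_of _ 0 (-s) s⁻¹ 0 rfl rfl rfl rfl y).trans (by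
    have : s⁻¹ * y + 0 ≠ 0 := by simp [hs, hy]
    rw [if_neg this]
    congr 1
    rw [add_zero, zero_mul, zero_add]
    field_simp)

theorem dg_smul_infty (s : F) (hs : s ≠ 0) :
    (SpecialLinearGroup.toGL (dg s hs) : GL (Fin 2) F) • (∞ : OnePoint F) = ∞ :=
  (smul_infty_of _ s 0 rfl rfl).trans (by simp)

theorem dg_smul_coe (s : F) (hs : s ≠ 0) (y : F) :
    (SpecialLinearGroup.toGL (dg s hs) : GL (Fin 2) F) • (y : OnePoint F) =
      ((s ^ 2 * y : F) : OnePoint F) :=
  (smul_coe_of _ s 0 0 s⁻¹ rfl rfl rfl rfl y).trans (by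
    have : 0 * y + s⁻¹ ≠ 0 := by simp [hs]
    rw [if_neg this]
    congr 1
    field_simp
    ring)

theorem gdg_smul_infty (a : F) (ha : a ≠ 0) : gdg a ha • (∞ : OnePoint F) = ∞ :=
  (smul_infty_of _ a 0 rfl rfl).trans (by simp)

theorem gdg_smul_coe (a : F) (ha : a ≠ 0) (y : F) :
    gdg a ha • (y : OnePoint F) = ((a * y : F) : OnePoint F) :=
  (smul_coe_of _ a 0 0 1 rfl rfl rfl rfl y).trans (by simp)

theorem gwt_smul_infty (c : F) (hc : c ≠ 0) :
    gwt c hc • (∞ : OnePoint F) = ((0 : F) : OnePoint F) :=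
  (smul_infty_of _ 0 1 rfl rfl).trans (by simp)

theorem gwt_smul_zero (c : F) (hc : c ≠ 0) : gwt c hc • ((0 : F) : OnePoint F) = ∞ :=
  (smul_coe_of _ 0 c 1 0 rfl rfl rfl rfl 0).trans (by simp)

theorem gwt_smul_coe (c : F) (hc : c ≠ 0) (y : F) (hy : y ≠ 0) :
    gwt c hc • (y : OnePoint F) = ((c * y⁻¹ : F) : OnePoint F) :=
  (smul_coe_of _ 0 c 1 0 rfl rfl rfl rfl y).trans (by simp [hy, div_eq_mul_inv])

omit [DecidableEq F] in
theorem tr_eq_transvection (b : F) :
    tr b = SpecialLinearGroup.transvection (zero_ne_one (α := Fin 2)) b := by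
  ext i j
  fin_cases i <;> fin_cases j <;> simp [tr, SpecialLinearGroup.transvection_coe]

omit [DecidableEq F] in
theorem wt_mul_tr_mul_wt_inv (s : F) (hs : s ≠ 0) (b : F) :
    wt s hs * tr b * (wt s hs)⁻¹ =
      SpecialLinearGroup.transvection (one_ne_zero (α := Fin 2)) (-(b * (s ^ 2)⁻¹)) := by
  rw [mul_inv_eq_iff_eq_mul]
  apply Subtype.ext
  change (wt s hs).1 * (tr b).1 = (SpecialLinearGroup.transvection (one_ne_zero (α := Fin 2))
    (-(b * (s ^ 2)⁻¹))).1 * (wt s hs).1
  change !![0, -s; s⁻¹, 0] * !![1, b; 0, 1] =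
    ((1 : Matrix (Fin 2) (Fin 2) F) + single 1 0 (-(b * (s ^ 2)⁻¹))) * !![0, -s; s⁻¹, 0]
  ext i j
  fin_cases i <;> fin_cases j <;>
    simp [Matrix.mul_apply, Fin.sum_univ_two, Matrix.single_apply, Matrix.one_apply]
  field_simp

end Elements

section Generators

variable {F : Type*} [Field F] [DecidableEq F] {G Ω : Type*} [Group G] [MulAction G Ω]

/-- `g` acts (through `e`) as the translation `x ↦ x + b`. -/
def ActsTrans (e : Ω ≃ OnePoint F) (g : G) (b : F) : Prop :=
  e (g • e.symm ∞) = ∞ ∧ ∀ y : F, e (g • e.symm y) = ((y + b : F) : OnePoint F)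

/-- `g` acts (through `e`) as the dilation `x ↦ a x`. -/
def ActsDil (e : Ω ≃ OnePoint F) (g : G) (a : F) : Prop :=
  e (g • e.symm ∞) = ∞ ∧ ∀ y : F, e (g • e.symm y) = ((a * y : F) : OnePoint F)

/-- `g` acts (through `e`) as `x ↦ c / x`. -/
def ActsInv (e : Ω ≃ OnePoint F) (g : G) (c : F) : Prop :=
  e (g • e.symm ∞) = ((0 : F) : OnePoint F) ∧ e (g • e.symm ((0 : F) : OnePoint F)) = ∞ ∧
    ∀ y : F, y ≠ 0 → e (g • e.symm y) = ((c * y⁻¹ : F) : OnePoint F)

theorem permHom_apply' {F : Type*} {G Ω : Type*} [Group G] [MulAction G Ω]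
    (e : Ω ≃ OnePoint F) (g : G) (x : OnePoint F) :
    permHom e g x = e (g • e.symm x) := by
  conv_lhs => rw [← e.apply_symm_apply x]
  rw [permHom_apply]

theorem ActsTrans.permHom_eq {e : Ω ≃ OnePoint F} {g : G} {b : F} (h : ActsTrans e g b) :
    permHom e g = slHom F (tr b) := by
  ext1 x
  rw [permHom_apply', slHom_apply]
  cases x with
  | infty => rw [h.1, tr_smul_infty]
  | coe y => rw [h.2, tr_smul_coe]

theorem ActsInv.permHom_eq {e : Ω ≃ OnePoint F} {g : G} {s : F} (hs : s ≠ 0)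
    (h : ActsInv e g (-s ^ 2)) : permHom e g = slHom F (wt s hs) := by
  ext1 x
  rw [permHom_apply', slHom_apply]
  cases x with
  | infty => rw [h.1, wt_smul_infty]
  | coe y =>
    by_cases hy : y = 0
    · subst hy; rw [h.2.1, wt_smul_zero]
    · rw [h.2.2 y hy, wt_smul_coe s hs y hy]

theorem ActsDil.permHom_eq {e : Ω ≃ OnePoint F} {g : G} {s : F} (hs : s ≠ 0)
    (h : ActsDil e g (s ^ 2)) : permHom e g = slHom F (dg s hs) := by
  ext1 x
  rw [permHom_apply', slHom_apply]
  cases x with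
  | infty => rw [h.1, dg_smul_infty]
  | coe y => rw [h.2, dg_smul_coe]

theorem ActsDil.permHom_eq_gl {e : Ω ≃ OnePoint F} {g : G} {a : F} (ha : a ≠ 0)
    (h : ActsDil e g a) : permHom e g = glHom F (gdg a ha) := by
  ext1 x
  rw [permHom_apply', glHom_apply]
  cases x with
  | infty => rw [h.1, gdg_smul_infty]
  | coe y => rw [h.2, gdg_smul_coe]

theorem ActsInv.permHom_eq_gl {e : Ω ≃ OnePoint F} {g : G} {c : F} (hc : c ≠ 0)
    (h : ActsInv e g c) : permHom e g = glHom F (gwt c hc) := by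
  ext1 x
  rw [permHom_apply', glHom_apply]
  cases x with
  | infty => rw [h.1, gwt_smul_infty]
  | coe y =>
    by_cases hy : y = 0
    · subst hy; rw [h.2.1, gwt_smul_zero]
    · rw [h.2.2 y hy, gwt_smul_coe c hc y hy]

theorem ActsTrans.permHom_eq_gl {e : Ω ≃ OnePoint F} {g : G} {b : F} (h : ActsTrans e g b) :
    permHom e g = glHom F (SpecialLinearGroup.toGL (tr b)) := h.permHom_eq

/-- If all translations and one map `x ↦ -s²/x` are induced by `G`, then all of `SL(2,F)` is. -/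
theorem slHom_range_le (e : Ω ≃ OnePoint F)
    (ht : ∀ b : F, ∃ g : G, ActsTrans e g b)
    (hw : ∃ (g : G) (s : F), s ≠ 0 ∧ ActsInv e g (-s ^ 2)) :
    (slHom F).range ≤ (permHom e : G →* Equiv.Perm (OnePoint F)).range := by
  rintro _ ⟨A, rfl⟩
  induction A using SL2.transvection_induction with
  | hmul A B hA hB => rw [map_mul]; exact mul_mem hA hB
  | htransvec i j hij c =>
    have h01 : ∀ b : F, slHom F (tr b) ∈ (permHom e : G →* Equiv.Perm (OnePoint F)).range := by
      intro b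
      obtain ⟨g, hg⟩ := ht b
      exact ⟨g, hg.permHom_eq⟩
    obtain ⟨w, s, hs, hw⟩ := hw
    have hw' : slHom F (wt s hs) ∈ (permHom e : G →* Equiv.Perm (OnePoint F)).range :=
      ⟨w, hw.permHom_eq hs⟩
    fin_cases i
    · obtain rfl : j = 1 := by fin_cases j <;> tauto
      have := h01 c
      rw [tr_eq_transvection] at this
      exact this
    · obtain rfl : j = 0 := by fin_cases j <;> tauto
      have h2 : c = -((-(c * s ^ 2)) * (s ^ 2)⁻¹) := by field_simp
      have h3 := wt_mul_tr_mul_wt_inv s hs (-(c * s ^ 2))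
      rw [← h2] at h3
      have : slHom F (SpecialLinearGroup.transvection (one_ne_zero (α := Fin 2)) c) ∈
          (permHom e : G →* Equiv.Perm (OnePoint F)).range := by
        rw [← h3, map_mul, map_mul, map_inv]
        exact mul_mem (mul_mem hw' (h01 _)) (inv_mem hw')
      exact this

/-- Recognition of `PSL(2,F)`: `G` is generated by elements acting as elements of `SL(2,F)`,
and induces all translations and some `x ↦ -s²/x`. -/
theorem nonempty_mulEquiv_psl_of_generators [FaithfulSMul G Ω] (e : Ω ≃ OnePoint F) (S : Set G)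
    (hS : Subgroup.closure S = ⊤)
    (h1 : ∀ g ∈ S, permHom e g ∈ (slHom F).range)
    (ht : ∀ b : F, ∃ g : G, ActsTrans e g b)
    (hw : ∃ (g : G) (s : F), s ≠ 0 ∧ ActsInv e g (-s ^ 2)) :
    Nonempty (G ≃* ProjectiveSpecialLinearGroup (Fin 2) F) := by
  apply nonempty_mulEquiv_quotient (permHom e) (slHom F) (permHom_injective e) _ (slHom_ker F)
  apply le_antisymm _ (slHom_range_le e ht hw)
  rw [MonoidHom.range_eq_map, ← hS, MonoidHom.map_closure, Subgroup.closure_le]
  rintro _ ⟨g, hg, rfl⟩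
  exact h1 g hg

omit [DecidableEq F] in
theorem exists_eq_gdg_mul (A : GL (Fin 2) F) : ∃ (a : F) (ha : a ≠ 0)
    (B : SpecialLinearGroup (Fin 2) F), A = gdg a ha * SpecialLinearGroup.toGL B := by
  have hdet : (A : Matrix (Fin 2) (Fin 2) F).det ≠ 0 := A.det_ne_zero
  have hdet2 : A.val 0 0 * A.val 1 1 - A.val 0 1 * A.val 1 0 ≠ 0 := by
    rwa [det_fin_two] at hdet
  refine ⟨_, hdet, ⟨!![A.val 0 0 * (A.val.det)⁻¹, A.val 0 1 * (A.val.det)⁻¹; A.val 1 0, A.val 1 1],
    ?_⟩, ?_⟩
  · rw [det_fin_two_of, det_fin_two]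
    field_simp
  · apply Units.ext
    change A.val = !![A.val.det, 0; 0, 1] *
      !![A.val 0 0 * (A.val.det)⁻¹, A.val 0 1 * (A.val.det)⁻¹; A.val 1 0, A.val 1 1]
    ext i j
    fin_cases i <;> fin_cases j <;>
      simp [Matrix.mul_apply, Fin.sum_univ_two] <;> field_simp

/-- Recognition of `PGL(2,F)`: `G` is generated by elements acting as elements of `GL(2,F)`,
and induces all translations, all dilations and some `x ↦ c/x`. -/
theorem nonempty_mulEquiv_pgl_of_generators [FaithfulSMul G Ω] (e : Ω ≃ OnePoint F) (S : Set G)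
    (hS : Subgroup.closure S = ⊤)
    (h1 : ∀ g ∈ S, permHom e g ∈ (glHom F).range)
    (ht : ∀ b : F, ∃ g : G, ActsTrans e g b)
    (hd : ∀ a : F, a ≠ 0 → ∃ g : G, ActsDil e g a)
    (hw : ∃ (g : G) (c : F), c ≠ 0 ∧ ActsInv e g c) :
    Nonempty (G ≃* ProjGenLinGroup (Fin 2) F) := by
  apply nonempty_mulEquiv_quotient (permHom e) (glHom F) (permHom_injective e) _ (glHom_ker F)
  apply le_antisymm
  · rw [MonoidHom.range_eq_map, ← hS, MonoidHom.map_closure, Subgroup.closure_le]
    rintro _ ⟨g, hg, rfl⟩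
    exact h1 g hg
  · rintro _ ⟨A, rfl⟩
    have hdil : ∀ (a : F) (ha : a ≠ 0), glHom F (gdg a ha) ∈
        (permHom e : G →* Equiv.Perm (OnePoint F)).range := by
      intro a ha
      obtain ⟨g, hg⟩ := hd a ha
      exact ⟨g, hg.permHom_eq_gl ha⟩
    obtain ⟨a, ha, B, rfl⟩ := exists_eq_gdg_mul A
    rw [map_mul]
    apply mul_mem (hdil a ha)
    have hw' : ∃ (g : G) (s : F), s ≠ 0 ∧ ActsInv e g (-s ^ 2) := by
      obtain ⟨w, c, hc, hw⟩ := hw
      have hne : -c⁻¹ ≠ 0 := by simpa using hc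
      obtain ⟨d, hd⟩ := hd (-c⁻¹) hne
      refine ⟨d * w, 1, one_ne_zero, ?_, ?_, ?_⟩
      · rw [mul_smul, ← e.symm_apply_apply (w • e.symm ∞), hw.1, hd.2]
        simp
      · rw [mul_smul, ← e.symm_apply_apply (w • e.symm _), hw.2.1, hd.1]
      · intro y hy
        rw [mul_smul, ← e.symm_apply_apply (w • e.symm _), hw.2.2 y hy, hd.2]
        congr 1
        field_simp
    exact slHom_range_le e ht hw' ⟨B, rfl⟩

end Generators

end Cfsg.Agent.Lib.Mobius
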