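import Mathlib
set_option linter.all false

/-!
Elements of coprime orders of a nilpotent group commute; coprime subgroups of a nilpotent subgroup centralize
each other.
-/

set_option autoImplicit false

namespace Cfsg.Agent.Lib.NilpotentCoprime

theorem commute_of_pow_eq_one {N : Type*} [Group N] [Group.IsNilpotent N] {a b : N} {m n : ℕ}
    (hmn : m.Coprime n) (ha : a ^ m = 1) (hb : b ^ n = 1) : Commute a b := by
  have key : ∀ (N : Type _) [Group N] [Group.IsNilpotent N],
      (∀ a b : N, a ^ m = 1 → b ^ n = 1 → Commute a b) := by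
    intro N _ _
    refine Group.nilpotent_center_quotient_ind
      (P := fun N [Group N] [Group.IsNilpotent N] => ∀ a b : N, a ^ m = 1 → b ^ n = 1 → Commute a b)
      N ?_ ?_
    · intro G _ _ a b _ _
      exact Subsingleton.elim _ _
    · intro G _ _ ih a b ha hb
      have h1 : Commute (a : G ⧸ Subgroup.center G) (b : G ⧸ Subgroup.center G) := by
        apply ih
        · rw [← QuotientGroup.mk_pow, ha, QuotientGroup.mk_one]
        · rw [← QuotientGroup.mk_pow, hb, QuotientGroup.mk_one]
      have hz : a * b * a⁻¹ * b⁻¹ ∈ Subgroup.center G := by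
        rw [← QuotientGroup.eq_one_iff, QuotientGroup.mk_mul, QuotientGroup.mk_mul,
          QuotientGroup.mk_mul, QuotientGroup.mk_inv, QuotientGroup.mk_inv, h1.eq]
        group
      set z := a * b * a⁻¹ * b⁻¹ with hzdef
      have hzc : ∀ g : G, z * g = g * z := fun g => (Subgroup.mem_center_iff.1 hz g).symm
      have hab : a * b * a⁻¹ = z * b := by rw [hzdef]; group
      have hba : b * a⁻¹ * b⁻¹ = a⁻¹ * z := by rw [hzdef]; group
      -- z ^ n = 1
      have hzn : z ^ n = 1 := by
        have h2 : (a * b * a⁻¹) ^ n = 1 := by rw [conj_pow, hb]; group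
        rw [hab, (show Commute z b from hzc b).mul_pow, hb, mul_one] at h2
        exact h2
      have hzm : z ^ m = 1 := by
        have h2 : (b * a⁻¹ * b⁻¹) ^ m = 1 := by rw [conj_pow, inv_pow, ha]; group
        rw [hba, (show Commute a⁻¹ z from (hzc a⁻¹).symm).mul_pow, inv_pow, ha, inv_one, one_mul] at h2
        exact h2
      have hz1 : z = 1 := by
        have h3 := Nat.dvd_gcd (orderOf_dvd_of_pow_eq_one hzm) (orderOf_dvd_of_pow_eq_one hzn)
        rw [Nat.coprime_iff_gcd_eq_one.1 hmn] at h3
        exact orderOf_eq_one_iff.1 (Nat.dvd_one.1 h3)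
      have h4 : a * b * a⁻¹ = b := by rw [hab, hz1, one_mul]
      change a * b = b * a
      calc a * b = a * b * a⁻¹ * a := by group
        _ = b * a := by rw [h4]
  exact key N a b ha hb

/-- Elements of coprime orders of a nilpotent group commute. -/
theorem commute_of_coprime_orderOf {N : Type*} [Group N] [Group.IsNilpotent N] {a b : N}
    (h : (orderOf a).Coprime (orderOf b)) : Commute a b :=
  commute_of_pow_eq_one h (pow_orderOf_eq_one a) (pow_orderOf_eq_one b)

/-- Two subgroups of coprime orders inside a nilpotent subgroup centralize each other. -/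
theorem le_centralizer_of_coprime {G : Type*} [Group G] {N A B : Subgroup G}
    (hN : Group.IsNilpotent N) (hA : A ≤ N) (hB : B ≤ N)
    (h : (Nat.card A).Coprime (Nat.card B)) : A ≤ Subgroup.centralizer (B : Set G) := by
  intro a ha
  rw [Subgroup.mem_centralizer_iff]
  intro b hb
  have := hN
  have h1 : Commute (⟨a, hA ha⟩ : N) (⟨b, hB hb⟩ : N) := by
    refine commute_of_pow_eq_one h ?_ ?_
    · have h2 : a ^ Nat.card A = 1 :=
        congrArg Subtype.val (pow_card_eq_one' (x := (⟨a, ha⟩ : A)))
      exact Subtype.ext h2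
    · have h2 : b ^ Nat.card B = 1 :=
        congrArg Subtype.val (pow_card_eq_one' (x := (⟨b, hb⟩ : B)))
      exact Subtype.ext h2
  exact (congrArg Subtype.val h1.eq).symm

end Cfsg.Agent.Lib.NilpotentCoprime
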