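import Mathlib
import Cfsg.Prelude.Def_Transfer
import Cfsg.Agent.Lib.NormalElementary
set_option linter.all false

/-!
# Normal elementary abelian subgroups of order `p ^ 4` (p odd)

* `exists_normal_card_four`: if `p` is odd and a finite `p`-group contains an elementary abelian subgroup of
  order at least `p ^ 4`, then it contains a normal one (Konvisser, Jonah).
-/

set_option autoImplicit false

namespace Cfsg.Agent.Lib.NormalRankFour

open Subgroup
open scoped commutatorElement
open Cfsg.Agent.Lib.NormalElementary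

variable {P : Type*} [Group P]

theorem card_lt_card_of_lt [Finite P] {H K : Subgroup P} (h : H < K) : Nat.card H < Nat.card K := by
  have h1 : (H : Set P) ⊂ (K : Set P) := h
  exact Set.ncard_lt_ncard h1 (Set.toFinite _)

/-- In a finite `p`-group, a proper inclusion multiplies the order at least by `p`. -/
theorem mul_card_le_of_lt [Finite P] {p : ℕ} [Fact p.Prime] (hP : IsPGroup p P) {H K : Subgroup P}
    (h : H < K) : p * Nat.card H ≤ Nat.card K := by
  obtain ⟨a, ha⟩ := (IsPGroup.iff_card.1 (hP.to_subgroup H))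
  obtain ⟨b, hb⟩ := (IsPGroup.iff_card.1 (hP.to_subgroup K))
  have hlt := card_lt_card_of_lt h
  have hp : p.Prime := Fact.out
  rw [ha, hb] at hlt
  have : a < b := (Nat.pow_lt_pow_iff_right hp.one_lt).1 hlt
  rw [ha, hb, ← pow_succ']
  exact Nat.pow_le_pow_right hp.pos this

/-- A subgroup of order less than `p` of a `p`-group is trivial. -/
theorem eq_bot_of_card_lt [Finite P] {p : ℕ} [Fact p.Prime] (hP : IsPGroup p P) {H : Subgroup P}
    (h : Nat.card H < p) : H = ⊥ := by
  by_contra hne
  have h1 : (⊥ : Subgroup P) < H := bot_lt_iff_ne_bot.2 hne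
  have := mul_card_le_of_lt hP h1
  rw [Subgroup.card_bot] at this
  omega

/-- Subgroups between `⁅A, ⊤⁆` and `A` are normal. -/
theorem normal_of_commutator_le {A K : Subgroup P} (h1 : ⁅A, (⊤ : Subgroup P)⁆ ≤ K) (h2 : K ≤ A) :
    K.Normal := by
  constructor
  intro k hk g
  have h3 : ⁅k⁻¹, g⁆ ∈ K := h1 (commutator_mem_commutator (A.inv_mem (h2 hk)) (mem_top g))
  have h4 : g * k * g⁻¹ = k * ⁅k⁻¹, g⁆ := by rw [commutatorElement_def]; group
  rw [h4]
  exact K.mul_mem hk h3

/-- A normal subgroup of order at most `p` of a finite `p`-group is central. -/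
theorem le_center_of_card_le [Finite P] {p : ℕ} [Fact p.Prime] (hP : IsPGroup p P)
    (D : Subgroup P) [D.Normal] (hD : Nat.card D ≤ p) : D ≤ center P := by
  have : Group.IsNilpotent P := hP.isNilpotent
  have h0 : ⁅D, (⊤ : Subgroup P)⁆ = ⊥ := by
    by_cases hb : D = ⊥
    · subst hb; simp
    · apply eq_bot_of_card_lt hP
      exact lt_of_lt_of_le (card_lt_card_of_lt (commutator_top_lt D hb)) hD
  rw [commutator_eq_bot_iff_le_centralizer] at h0
  rw [← centralizer_univ]
  simpa using h0

/-- The number of conjugates of `a` under `B` is bounded by the order of `K` when they all lie in the coset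
`a K`. -/
theorem card_le_card_mul [Finite P] (B K : Subgroup P) (a : P)
    (h : ∀ b ∈ B, a⁻¹ * (b * a * b⁻¹) ∈ K) :
    Nat.card B ≤ Nat.card K * Nat.card (B ⊓ centralizer ({a} : Set P) : Subgroup P) ∧
    (Nat.card K * Nat.card (B ⊓ centralizer ({a} : Set P) : Subgroup P) ≤ Nat.card B →
      ∀ k ∈ K, ∃ b ∈ B, a⁻¹ * (b * a * b⁻¹) = k) := by
  classical
  set C : Subgroup B := (centralizer ({a} : Set P)).subgroupOf B with hC
  let f : (B ⧸ C) → K := fun q => ⟨a⁻¹ * ((q.out : B) * a * ((q.out : B) : P)⁻¹), h _ (q.out).2⟩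
  have hf : Function.Injective f := by
    intro q q' hqq
    have h1 : a⁻¹ * ((q.out : B) * a * ((q.out : B) : P)⁻¹) =
        a⁻¹ * ((q'.out : B) * a * ((q'.out : B) : P)⁻¹) := congrArg Subtype.val hqq
    have h2 : ((q.out : B) : P) * a * ((q.out : B) : P)⁻¹ =
        ((q'.out : B) : P) * a * ((q'.out : B) : P)⁻¹ := mul_left_cancel h1
    have h3 : ((q.out)⁻¹ * q'.out : B) ∈ C := by
      show ((q.out : B) : P)⁻¹ * ((q'.out : B) : P) ∈ centralizer ({a} : Set P)
      rw [mem_centralizer_singleton_iff]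
      have : ((q.out : B) : P)⁻¹ * ((q'.out : B) : P) * a =
          ((q.out : B) : P)⁻¹ * (((q'.out : B) : P) * a * ((q'.out : B) : P)⁻¹) *
            ((q'.out : B) : P) := by group
      rw [this, ← h2]
      group
    have h4 : (QuotientGroup.mk (q.out) : B ⧸ C) = QuotientGroup.mk (q'.out) :=
      QuotientGroup.eq.2 h3
    rwa [QuotientGroup.out_eq', QuotientGroup.out_eq'] at h4
  have hcard : Nat.card B = Nat.card (B ⧸ C) * Nat.card C :=
    Subgroup.card_eq_card_quotient_mul_card_subgroup C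
  have hCcard : Nat.card C = Nat.card (B ⊓ centralizer ({a} : Set P) : Subgroup P) := by
    have e := Subgroup.subgroupOf_map_subtype (centralizer ({a} : Set P)) B
    rw [inf_comm, ← e]
    exact (Subgroup.card_map_of_injective (B.subtype_injective)).symm
  constructor
  · rw [hcard, hCcard]
    exact Nat.mul_le_mul_right _ (Nat.card_le_card_of_injective f hf)
  · intro hle k hk
    rw [hcard, hCcard] at hle
    have hpos : 0 < Nat.card (B ⊓ centralizer ({a} : Set P) : Subgroup P) := Nat.card_pos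
    have hle' : Nat.card K ≤ Nat.card (B ⧸ C) := Nat.le_of_mul_le_mul_right hle hpos
    have hb := hf.bijective_of_nat_card_le hle'
    obtain ⟨q, hq⟩ := hb.2 ⟨k, hk⟩
    exact ⟨(q.out : B), (q.out).2, congrArg Subtype.val hq⟩

theorem elem_comm {p : ℕ} {A : Subgroup P} (hA : IsElementaryAbelian p A) {a b : P} (ha : a ∈ A)
    (hb : b ∈ A) : Commute a b := by
  have := hA.1.is_comm.comm (⟨a, ha⟩ : A) ⟨b, hb⟩
  exact congrArg Subtype.val this

theorem elem_mono {p : ℕ} {A B : Subgroup P} (h : B ≤ A) (hA : IsElementaryAbelian p A) :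
    IsElementaryAbelian p B :=
  ⟨⟨⟨fun x y => Subtype.ext (elem_comm hA (h x.2) (h y.2))⟩⟩, fun b hb => hA.2 b (h hb)⟩

/-- The join of two commuting elementary abelian subgroups is elementary abelian. -/
theorem elem_sup {p : ℕ} {A B : Subgroup P} (hA : IsElementaryAbelian p A)
    (hB : IsElementaryAbelian p B) (hAB : ∀ a ∈ A, ∀ b ∈ B, Commute a b) :
    IsElementaryAbelian p (A ⊔ B : Subgroup P) := by
  have hA' : A ⊔ B ≤ centralizer (A : Set P) := by
    refine sup_le ?_ ?_
    · intro a ha
      exact mem_centralizer_iff.2 fun b hb => (elem_comm hA hb ha).eq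
    · intro b hb
      exact mem_centralizer_iff.2 fun a ha => (hAB a ha b hb).eq
  have hB' : A ⊔ B ≤ centralizer (B : Set P) := by
    refine sup_le ?_ ?_
    · intro a ha
      exact mem_centralizer_iff.2 fun b hb => (hAB a ha b hb).symm.eq
    · intro b hb
      exact mem_centralizer_iff.2 fun a ha => (elem_comm hB ha hb).eq
  have hself : A ⊔ B ≤ centralizer ((A ⊔ B : Subgroup P) : Set P) :=
    sup_le (le_centralizer_iff.1 hA') (le_centralizer_iff.1 hB')
  have hcomm : ∀ x ∈ A ⊔ B, ∀ y ∈ A ⊔ B, Commute x y := fun x hx y hy =>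
    (mem_centralizer_iff.1 (hself hy)) x hx
  refine ⟨⟨⟨fun x y => Subtype.ext (hcomm x x.2 y y.2).eq⟩⟩, ?_⟩
  intro x hx
  have hx' : x ∈ closure ((A : Set P) ∪ (B : Set P)) := by rwa [← sup_eq_closure]
  induction hx' using closure_induction with
  | mem x h =>
    rcases h with h | h
    · exact hA.2 x h
    · exact hB.2 x h
  | one => exact one_pow p
  | mul x y hx' hy' ihx ihy =>
    rw [← sup_eq_closure] at hx' hy'
    rw [(hcomm x hx' y hy').mul_pow, ihx hx', ihy hy', mul_one]
  | inv x hx' ih =>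
    rw [← sup_eq_closure] at hx'
    rw [inv_pow, ih hx', inv_one]

/-- In a finite `p`-group, a normal subgroup `K` of order at most `p ^ 2` centralises a subgroup of index at
most `p` of every subgroup `E`. -/
theorem card_le_mul_centralizer [Finite P] {p : ℕ} [Fact p.Prime] (hP : IsPGroup p P)
    (K : Subgroup P) [hK : K.Normal] (hKc : Nat.card K ≤ p ^ 2) (E : Subgroup P) :
    Nat.card E ≤ p * Nat.card (E ⊓ centralizer (K : Set P) : Subgroup P) := by
  have hp : p.Prime := Fact.out
  have : Group.IsNilpotent P := hP.isNilpotent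
  by_cases hc : K ≤ center P
  · have h1 : E ⊓ centralizer (K : Set P) = E := by
      refine inf_eq_left.2 fun e _ => mem_centralizer_iff.2 fun k hk => ?_
      exact ((mem_center_iff.1 (hc hk)) e).symm
    rw [h1]
    exact Nat.le_mul_of_pos_left _ hp.pos
  · have hKbot : K ≠ ⊥ := by
      rintro rfl; exact hc bot_le
    set D : Subgroup P := ⁅K, (⊤ : Subgroup P)⁆ with hD
    have hDlt : D < K := commutator_top_lt K hKbot
    have : D.Normal := by rw [hD]; infer_instance
    have hDcard : Nat.card D ≤ p := by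
      have h1 := mul_card_le_of_lt hP hDlt
      have h2 : p * Nat.card D ≤ p * p := by
        calc p * Nat.card D ≤ Nat.card K := h1
          _ ≤ p ^ 2 := hKc
          _ = p * p := sq p
      exact Nat.le_of_mul_le_mul_left h2 hp.pos
    have hDZ : D ≤ center P := le_center_of_card_le hP D hDcard
    obtain ⟨k, hkK, hkD⟩ := SetLike.exists_of_lt hDlt
    have hDbot : D ≠ ⊥ := by
      intro hb
      apply hc
      rw [hD, commutator_eq_bot_iff_le_centralizer] at hb
      intro x hx
      rw [mem_center_iff]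
      intro g
      exact (mem_centralizer_iff.1 (hb hx)) g (mem_top g)
    -- every element of `K` is a product of a central element and a power of `k`
    have hgen : D ⊔ zpowers k = K := by
      have hle : D ⊔ zpowers k ≤ K := sup_le hDlt.le (zpowers_le.2 hkK)
      by_contra hne
      have hlt1 : D ⊔ zpowers k < K := lt_of_le_of_ne hle hne
      have hlt0 : D < D ⊔ zpowers k := by
        refine lt_of_le_of_ne le_sup_left ?_
        intro heq
        apply hkD
        rw [heq]
        exact (le_sup_right : zpowers k ≤ D ⊔ zpowers k) (mem_zpowers k)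
      have h1 := mul_card_le_of_lt hP hlt1
      have h2 := mul_card_le_of_lt hP hlt0
      have h3 := mul_card_le_of_lt hP (bot_lt_iff_ne_bot.2 hDbot)
      rw [Subgroup.card_bot, mul_one] at h3
      have h4 : p * (p * p) ≤ p ^ 2 := by
        calc p * (p * p) ≤ p * (p * Nat.card D) :=
              Nat.mul_le_mul_left _ (Nat.mul_le_mul_left _ h3)
          _ ≤ p * Nat.card (D ⊔ zpowers k : Subgroup P) := Nat.mul_le_mul_left _ h2
          _ ≤ Nat.card K := h1
          _ ≤ p ^ 2 := hKc
      have h5 : p ^ 3 ≤ p ^ 2 := by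
        calc p ^ 3 = p * (p * p) := by ring
          _ ≤ p ^ 2 := h4
      have h6 := (Nat.pow_le_pow_iff_right hp.one_lt).1 h5
      omega
    have hcent : E ⊓ centralizer ({k} : Set P) ≤ E ⊓ centralizer (K : Set P) := by
      refine inf_le_inf_left _ ?_
      intro x hx
      rw [mem_centralizer_singleton_iff] at hx
      have : K ≤ centralizer ({x} : Set P) := by
        rw [← hgen]
        refine sup_le ?_ (zpowers_le.2 ?_)
        · intro d hd
          rw [mem_centralizer_singleton_iff]
          exact ((mem_center_iff.1 (hDZ hd)) x).symm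
        · rw [mem_centralizer_singleton_iff]; exact hx.symm
      rw [mem_centralizer_iff]
      intro y hy
      exact mem_centralizer_singleton_iff.1 (this hy)
    have h1 := (card_le_card_mul E D k (fun b _ => by
      have h1 : ⁅k⁻¹, b⁆ ∈ D := commutator_mem_commutator (K.inv_mem hkK) (mem_top b)
      have h2 : k⁻¹ * (b * k * b⁻¹) = ⁅k⁻¹, b⁆ := by rw [commutatorElement_def]; group
      rw [h2]; exact h1)).1
    calc Nat.card E ≤ Nat.card D * Nat.card (E ⊓ centralizer ({k} : Set P) : Subgroup P) := h1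
      _ ≤ p * Nat.card (E ⊓ centralizer (K : Set P) : Subgroup P) :=
        Nat.mul_le_mul hDcard (Subgroup.card_le_of_le hcent)

section Config

variable [Finite P] {p : ℕ} [Fact p.Prime] (hp : p ≠ 2) (hP : IsPGroup p P)
  (A : Subgroup P) [hAn : A.Normal] (hA : IsElementaryAbelian p A)
  (hmax : ∀ x ∈ centralizer (A : Set P), x ^ p = 1 → x ∈ A)
  (hAc : Nat.card A ≤ p ^ 3)
  (K : Subgroup P) (hK1 : ⁅A, (⊤ : Subgroup P)⁆ ≤ K) (hK2 : K < A)
  (hcov : ∀ X : Subgroup P, K ≤ X → X ≤ A → X = K ∨ X = A)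

omit hAn in
include hmax hAc hK2 hcov in
theorem inf_eq (B : Subgroup P) (hB : IsElementaryAbelian p B) (hKB : K ≤ B)
    (hBc : p ^ 4 ≤ Nat.card B) : A ⊓ B = K := by
  have hp' : p.Prime := Fact.out
  rcases hcov (A ⊓ B) (le_inf hK2.le hKB) inf_le_left with h | h
  · exact h
  · exfalso
    have hAB : A ≤ B := inf_eq_left.1 h
    have hBA : B ≤ A := by
      intro b hb
      refine hmax b ?_ (hB.2 b hb)
      rw [mem_centralizer_iff]
      intro a ha
      exact elem_comm hB (hAB ha) hb
    have h1 := Subgroup.card_le_of_le hBA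
    have h2 : p ^ 4 ≤ p ^ 3 := hBc.trans (h1.trans hAc)
    have h3 := (Nat.pow_le_pow_iff_right hp'.one_lt).1 h2
    omega

omit hAn in
include hmax hAc hK2 hcov in
/-- An element of `B` that commutes with some element of `A` outside `K` lies in `K`. -/
theorem mem_of_commute (B : Subgroup P) (hB : IsElementaryAbelian p B) (hKB : K ≤ B)
    (hBc : p ^ 4 ≤ Nat.card B) {a b : P} (ha : a ∈ A) (haK : a ∉ K) (hb : b ∈ B)
    (hab : Commute a b) : b ∈ K := by
  have h1 : K ≤ A ⊓ centralizer ({b} : Set P) := by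
    refine le_inf hK2.le ?_
    intro k hk
    rw [mem_centralizer_singleton_iff]
    exact elem_comm hB (hKB hk) hb
  rcases hcov _ h1 inf_le_left with h | h
  · exfalso
    apply haK
    rw [← h]
    exact mem_inf.2 ⟨ha, mem_centralizer_singleton_iff.2 hab⟩
  · have hle : A ≤ centralizer ({b} : Set P) := inf_eq_left.1 h
    have hbA : b ∈ A := by
      refine hmax b ?_ (hB.2 b hb)
      rw [mem_centralizer_iff]
      intro x hx
      exact mem_centralizer_singleton_iff.1 (hle hx)
    rw [← inf_eq A hmax hAc K hK2 hcov B hB hKB hBc]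
    exact ⟨hbA, hb⟩

omit hAn in
include hP hmax hAc hK1 hK2 hcov in
/-- All elements of the coset `a K` are conjugate to `a` under `B`. -/
theorem exists_conj (B : Subgroup P) (hB : IsElementaryAbelian p B) (hKB : K ≤ B)
    (hBc : p ^ 4 ≤ Nat.card B) {a : P} (ha : a ∈ A) (haK : a ∉ K) {k : P} (hk : k ∈ K) :
    ∃ b ∈ B, a⁻¹ * (b * a * b⁻¹) = k := by
  have hp' : p.Prime := Fact.out
  have h0 : ∀ b ∈ B, a⁻¹ * (b * a * b⁻¹) ∈ K := by
    intro b _
    have h1 : ⁅a⁻¹, b⁆ ∈ K := hK1 (commutator_mem_commutator (A.inv_mem ha) (mem_top b))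
    have h2 : a⁻¹ * (b * a * b⁻¹) = ⁅a⁻¹, b⁆ := by rw [commutatorElement_def]; group
    rw [h2]; exact h1
  refine (card_le_card_mul B K a h0).2 ?_ k hk
  have h1 : B ⊓ centralizer ({a} : Set P) ≤ K := by
    rintro b ⟨hb, hba⟩
    exact mem_of_commute A hmax hAc K hK2 hcov B hB hKB hBc ha haK hb
      (mem_centralizer_singleton_iff.1 hba).symm
  have h2 : Nat.card K ≤ p ^ 2 := by
    have h3 := mul_card_le_of_lt hP hK2
    have h4 : p * Nat.card K ≤ p * p ^ 2 := by
      calc p * Nat.card K ≤ Nat.card A := h3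
        _ ≤ p ^ 3 := hAc
        _ = p * p ^ 2 := by ring
    exact Nat.le_of_mul_le_mul_left h4 hp'.pos
  calc Nat.card K * Nat.card (B ⊓ centralizer ({a} : Set P) : Subgroup P)
      ≤ p ^ 2 * p ^ 2 := Nat.mul_le_mul h2 ((Subgroup.card_le_of_le h1).trans h2)
    _ = p ^ 4 := by ring
    _ ≤ Nat.card B := hBc

include hp hP hA hmax hAc hK1 hK2 hcov in
theorem le_of_normalize (B B' : Subgroup P) (hB : IsElementaryAbelian p B) (hKB : K ≤ B)
    (hBc : p ^ 4 ≤ Nat.card B) (hB' : IsElementaryAbelian p B') (hKB' : K ≤ B')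
    (hBc' : p ^ 4 ≤ Nat.card B') (h1 : ∀ b ∈ B, ∀ b' ∈ B', b * b' * b⁻¹ ∈ B')
    (h2 : ∀ b ∈ B, ∀ b' ∈ B', b' * b * b'⁻¹ ∈ B) : B' ≤ B := by
  classical
  have hp' : p.Prime := Fact.out
  by_contra hnle
  obtain ⟨a, ha, haK⟩ := SetLike.exists_of_lt hK2
  have : K.Normal := normal_of_commutator_le hK1 hK2.le
  -- every element of `B'` is a product `b h` with `b ∈ B`, `h ∈ A`
  have hdec : ∀ b' ∈ B', ∃ b ∈ B, b⁻¹ * b' ∈ A := by
    intro b' hb'
    have hk : a⁻¹ * (b' * a * b'⁻¹) ∈ K := by
      have h3 : ⁅a⁻¹, b'⁆ ∈ K := hK1 (commutator_mem_commutator (A.inv_mem ha) (mem_top b'))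
      have h4 : a⁻¹ * (b' * a * b'⁻¹) = ⁅a⁻¹, b'⁆ := by rw [commutatorElement_def]; group
      rw [h4]; exact h3
    obtain ⟨b, hb, hbb⟩ := exists_conj hP A hmax hAc K hK1 hK2 hcov B hB hKB hBc ha haK hk
    refine ⟨b, hb, hmax _ ?_ ?_⟩
    · -- `b⁻¹ b'` centralises `A`
      have h5 : b * a * b⁻¹ = b' * a * b'⁻¹ := mul_left_cancel hbb
      have h6 : Commute a (b⁻¹ * b') := by
        show a * (b⁻¹ * b') = b⁻¹ * b' * a
        have : b⁻¹ * b' * a = b⁻¹ * (b' * a * b'⁻¹) * b' := by group
        rw [this, ← h5]; group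
      have h7 : K ≤ A ⊓ centralizer ({b⁻¹ * b'} : Set P) := by
        refine le_inf hK2.le ?_
        intro k hk
        rw [mem_centralizer_singleton_iff]
        exact (((elem_comm hB (hKB hk) hb).inv_right).mul_right
          (elem_comm hB' (hKB' hk) hb')).eq
      have h8 : A ≤ centralizer ({b⁻¹ * b'} : Set P) := by
        rcases hcov _ h7 inf_le_left with h | h
        · exfalso
          apply haK
          rw [← h]
          exact mem_inf.2 ⟨ha, mem_centralizer_singleton_iff.2 h6⟩
        · exact inf_eq_left.1 h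
      rw [mem_centralizer_iff]
      intro x hx
      exact mem_centralizer_singleton_iff.1 (h8 hx)
    · -- `(b⁻¹ b')^p = 1`
      set c : P := b'⁻¹ * b * b' * b⁻¹ with hc
      have hcB : c ∈ B := by
        rw [hc]
        have h9 := h2 b hb b'⁻¹ (B'.inv_mem hb')
        rw [inv_inv] at h9
        exact B.mul_mem h9 (B.inv_mem hb)
      have hcB' : c ∈ B' := by
        have h9 := h1 b hb b' hb'
        have h10 : c = b'⁻¹ * (b * b' * b⁻¹) := by rw [hc]; group
        rw [h10]
        exact B'.mul_mem (B'.inv_mem hb') h9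
      have hsw : b' * b⁻¹ = b⁻¹ * b' * c := by
        have h11 : Commute c b := elem_comm hB hcB hb
        have h12 : c = b⁻¹ * c * b := by rw [mul_assoc, h11.eq]; group
        rw [h12, hc]
        have h13 : Commute c b' := elem_comm hB' hcB' hb'
        have h14 : b' * c = c * b' := h13.eq.symm
        have h15 : b⁻¹ * b' * (b⁻¹ * c * b) = b' * b⁻¹ := by
          rw [← h12]
          calc b⁻¹ * b' * c = b⁻¹ * (b' * c) := by group
            _ = b⁻¹ * (b' * (b'⁻¹ * b * b' * b⁻¹)) := by rw [← hc]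
            _ = b' * b⁻¹ := by group
        rw [← hc, h15]
      rw [mul_pow_prime_of_swap hp hsw ((elem_comm hB hcB hb).inv_right)
        (elem_comm hB' hcB' hb') (hB.2 c hcB), inv_pow, hB.2 b hb, hB'.2 b' hb', inv_one, one_mul]
  -- `A = K ⊔ ⟨a⟩`
  have hgen : K ⊔ zpowers a = A := by
    have hle : K ⊔ zpowers a ≤ A := sup_le hK2.le (zpowers_le.2 ha)
    rcases hcov _ le_sup_left hle with h | h
    · exfalso
      apply haK
      rw [← h]
      exact (le_sup_right : zpowers a ≤ K ⊔ zpowers a) (mem_zpowers a)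
    · exact h
  have hrep : ∀ b' ∈ B', ∃ i : Fin p, b' * (a ^ (i : ℕ))⁻¹ ∈ B := by
    intro b' hb'
    obtain ⟨b, hb, hh⟩ := hdec b' hb'
    have hh' : b⁻¹ * b' ∈ K ⊔ zpowers a := by rwa [hgen]
    obtain ⟨k, hk, z, hz, hkz⟩ := Subgroup.mem_sup_of_normal_left.1 hh'
    obtain ⟨j, rfl⟩ := mem_zpowers_iff.1 hz
    have hpz : (p : ℤ) ≠ 0 := by exact_mod_cast hp'.ne_zero
    have hj0 : 0 ≤ j % p := Int.emod_nonneg j hpz
    have hjlt : j % p < p := Int.emod_lt_of_pos j (by exact_mod_cast hp'.pos)
    refine ⟨⟨(j % p).toNat, by omega⟩, ?_⟩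
    have haj : a ^ j = a ^ (j % p).toNat := by
      rw [← zpow_natCast, Int.toNat_of_nonneg hj0]
      conv_lhs => rw [← Int.mul_ediv_add_emod j p]
      rw [zpow_add, zpow_mul, zpow_natCast, hA.2 a ha, one_zpow, one_mul]
    show b' * (a ^ (j % p).toNat)⁻¹ ∈ B
    rw [← haj]
    have : b' * (a ^ j)⁻¹ = b * k := by
      have h3 : b' = b * (k * a ^ j) := by rw [hkz]; group
      rw [h3]; group
    rw [this]
    exact B.mul_mem hb (hKB hk)
  -- hence `|B'| ≤ p |B ∩ B'|`
  have hcard : Nat.card B' ≤ p * Nat.card (B ⊓ B' : Subgroup P) := by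
    set C : Subgroup B' := B.subgroupOf B' with hC
    choose! i hi using hrep
    let f : (B' ⧸ C) → Fin p := fun q => i ((q.out : B') : P)
    have hf : Function.Injective f := by
      intro q q' hqq
      have h3 := hi ((q.out : B') : P) (q.out).2
      have h4 := hi ((q'.out : B') : P) (q'.out).2
      have h5 : i ((q.out : B') : P) = i ((q'.out : B') : P) := hqq
      rw [h5] at h3
      have h6 := B.mul_mem h4 (B.inv_mem h3)
      have h7 : ((q'.out : B') : P) * (a ^ (i ((q'.out : B') : P) : ℕ))⁻¹ *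
          (((q.out : B') : P) * (a ^ (i ((q'.out : B') : P) : ℕ))⁻¹)⁻¹ =
          ((q'.out : B') : P) * ((q.out : B') : P)⁻¹ := by group
      rw [h7] at h6
      have h8 : (q.out)⁻¹ * q'.out ∈ C := by
        show ((q.out : B') : P)⁻¹ * ((q'.out : B') : P) ∈ B
        have h9 : ((q.out : B') : P)⁻¹ * ((q'.out : B') : P) =
            ((q'.out : B') : P) * ((q.out : B') : P)⁻¹ :=
          (elem_comm hB' (B'.inv_mem (q.out).2) (q'.out).2).eq
        rw [h9]; exact h6
      have h10 : (QuotientGroup.mk (q.out) : B' ⧸ C) = QuotientGroup.mk (q'.out) :=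
        QuotientGroup.eq.2 h8
      rwa [QuotientGroup.out_eq', QuotientGroup.out_eq'] at h10
    have hCcard : Nat.card C = Nat.card (B ⊓ B' : Subgroup P) := by
      have e := Subgroup.subgroupOf_map_subtype B B'
      rw [← e]
      exact (Subgroup.card_map_of_injective (B'.subtype_injective)).symm
    rw [Subgroup.card_eq_card_quotient_mul_card_subgroup C, hCcard]
    refine Nat.mul_le_mul_right _ ?_
    calc Nat.card (B' ⧸ C) ≤ Nat.card (Fin p) := Nat.card_le_card_of_injective f hf
      _ = p := by simp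
  -- so there is `d ∈ B ∩ B'` outside `K`
  have hKc : Nat.card K ≤ p ^ 2 := by
    have h3 := mul_card_le_of_lt hP hK2
    have h4 : p * Nat.card K ≤ p * p ^ 2 := by
      calc p * Nat.card K ≤ Nat.card A := h3
        _ ≤ p ^ 3 := hAc
        _ = p * p ^ 2 := by ring
    exact Nat.le_of_mul_le_mul_left h4 hp'.pos
  have hnot : ¬ B ⊓ B' ≤ K := by
    intro hle
    have h3 := Subgroup.card_le_of_le hle
    have h4 : p ^ 4 ≤ p ^ 3 := by
      calc p ^ 4 ≤ Nat.card B' := hBc'
        _ ≤ p * Nat.card (B ⊓ B' : Subgroup P) := hcard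
        _ ≤ p * p ^ 2 := Nat.mul_le_mul_left _ (h3.trans hKc)
        _ = p ^ 3 := by ring
    have h5 := (Nat.pow_le_pow_iff_right hp'.one_lt).1 h4
    omega
  obtain ⟨d, ⟨hdB, hdB'⟩, hdK⟩ := SetLike.not_le_iff_exists.1 hnot
  obtain ⟨b0, hb0', hb0⟩ := SetLike.not_le_iff_exists.1 hnle
  obtain ⟨b, hb, hh⟩ := hdec b0 hb0'
  have hhK : b⁻¹ * b0 ∉ K := by
    intro hk
    apply hb0
    have : b0 = b * (b⁻¹ * b0) := by group
    rw [this]
    exact B.mul_mem hb (hKB hk)
  apply hdK
  refine mem_of_commute A hmax hAc K hK2 hcov B hB hKB hBc hh hhK hdB ?_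
  exact (((elem_comm hB hdB hb).inv_right).mul_right (elem_comm hB' hdB' hb0')).symm

include hp hP hA hmax hAc hK1 hK2 hcov in
theorem normal_of_config (B : Subgroup P) (hB : IsElementaryAbelian p B) (hKB : K ≤ B)
    (hBc : p ^ 4 ≤ Nat.card B) : B.Normal := by
  have : Group.IsNilpotent P := hP.isNilpotent
  have hKn : K.Normal := normal_of_commutator_le hK1 hK2.le
  by_contra hnn
  have hne : normalizer (B : Set P) ≠ ⊤ := fun h => hnn (normalizer_eq_top_iff.1 h)
  have hlt := (Group.normalizerCondition_of_isNilpotent (G := P)) (normalizer (B : Set P))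
    (lt_top_iff_ne_top.2 hne)
  obtain ⟨g, hg, hgN⟩ := SetLike.exists_of_lt hlt
  -- `B' = g B g⁻¹`
  set B' : Subgroup P := B.map (MulAut.conj g).toMonoidHom with hB'def
  have hmem : ∀ x, x ∈ B' ↔ g⁻¹ * x * g ∈ B := by
    intro x
    constructor
    · rintro ⟨b, hb, rfl⟩
      have : g⁻¹ * (MulAut.conj g).toMonoidHom b * g = b := by
        simp only [MulEquiv.toMonoidHom_eq_coe, MonoidHom.coe_coe, MulAut.conj_apply]; group
      rw [this]; exact hb
    · intro hx
      refine ⟨g⁻¹ * x * g, hx, ?_⟩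
      simp only [MulEquiv.toMonoidHom_eq_coe, MonoidHom.coe_coe, MulAut.conj_apply]; group
  have hB'c : Nat.card B' = Nat.card B :=
    Subgroup.card_map_of_injective (MulAut.conj g).injective
  have hB' : IsElementaryAbelian p B' := by
    refine ⟨⟨⟨?_⟩⟩, ?_⟩
    · intro x y
      apply Subtype.ext
      have hx := (hmem x).1 x.2
      have hy := (hmem y).1 y.2
      have h1 := (elem_comm hB hx hy).eq
      have h2 : g⁻¹ * ((x : P) * y) * g = g⁻¹ * ((y : P) * x) * g := by
        calc g⁻¹ * ((x : P) * y) * g = g⁻¹ * x * g * (g⁻¹ * y * g) := by group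
          _ = g⁻¹ * y * g * (g⁻¹ * x * g) := h1
          _ = g⁻¹ * ((y : P) * x) * g := by group
      exact mul_left_cancel (mul_right_cancel h2)
    · intro x hx
      have h1 := hB.2 _ ((hmem x).1 hx)
      have h2 : (g⁻¹ * x * g) ^ p = g⁻¹ * x ^ p * g := by
        have := conj_pow (i := p) (a := g⁻¹) (b := x)
        simpa using this
      rw [h2] at h1
      have : x ^ p = g * (g⁻¹ * x ^ p * g) * g⁻¹ := by group
      rw [this, h1]; group
  have hKB' : K ≤ B' := by
    intro k hk
    rw [hmem]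
    have := hKn.conj_mem k hk g⁻¹
    rw [inv_inv] at this
    exact hKB this
  -- membership in the normalizer is invariant under conjugation by `g`
  have hconj : ∀ x ∈ normalizer (B : Set P), g⁻¹ * x * g ∈ normalizer (B : Set P) := by
    intro x hx
    have h1 := (mem_normalizer_iff''.1 hg x).1 hx
    exact h1
  have hconj' : ∀ x ∈ normalizer (B : Set P), g * x * g⁻¹ ∈ normalizer (B : Set P) := by
    intro x hx
    exact (mem_normalizer_iff.1 hg x).1 hx
  have h1 : ∀ b ∈ B, ∀ b' ∈ B', b * b' * b⁻¹ ∈ B' := by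
    intro b hb b' hb'
    rw [hmem] at hb' ⊢
    have h3 : g⁻¹ * b * g ∈ normalizer (B : Set P) := hconj b (le_normalizer hb)
    have h4 := (mem_normalizer_iff.1 h3 _).1 hb'
    have h5 : g⁻¹ * (b * b' * b⁻¹) * g = g⁻¹ * b * g * (g⁻¹ * b' * g) * (g⁻¹ * b * g)⁻¹ := by group
    rw [h5]; exact h4
  have h2 : ∀ b ∈ B, ∀ b' ∈ B', b' * b * b'⁻¹ ∈ B := by
    intro b hb b' hb'
    rw [hmem] at hb'
    have h3 : b' ∈ normalizer (B : Set P) := by
      have h4 := hconj' _ (le_normalizer hb')
      have h5 : g * (g⁻¹ * b' * g) * g⁻¹ = b' := by group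
      rwa [h5] at h4
    exact (mem_normalizer_iff.1 h3 b).1 hb
  have hle := le_of_normalize hp hP A hA hmax hAc K hK1 hK2 hcov B B' hB hKB hBc hB' hKB'
    (hB'c ▸ hBc) h1 h2
  have heq : B' = B := Subgroup.eq_of_le_of_card_ge hle hB'c.ge
  apply hgN
  rw [mem_normalizer_iff'']
  intro h
  rw [← hmem, heq]

end Config

/-- Every normal subgroup of order at least `p ^ m` of a finite `p`-group contains a normal subgroup of
order exactly `p ^ m`. -/
theorem exists_normal_le_card_eq [Finite P] {p : ℕ} [Fact p.Prime] (hP : IsPGroup p P) (m : ℕ) :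
    ∀ n : ℕ, ∀ V : Subgroup P, V.Normal → Nat.card V ≤ n → p ^ m ≤ Nat.card V →
      ∃ U : Subgroup P, U ≤ V ∧ U.Normal ∧ Nat.card U = p ^ m := by
  have hp' : p.Prime := Fact.out
  have : Group.IsNilpotent P := hP.isNilpotent
  intro n
  induction n with
  | zero =>
    intro V _ h0 _
    have : 0 < Nat.card V := Nat.card_pos
    omega
  | succ n ih =>
    intro V hV hVn hVm
    by_cases heq : Nat.card V = p ^ m
    · exact ⟨V, le_rfl, hV, heq⟩
    · have hlt : p ^ m < Nat.card V := lt_of_le_of_ne hVm (Ne.symm heq)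
      have hVbot : V ≠ ⊥ := by
        rintro rfl
        rw [Subgroup.card_bot] at hlt
        have := Nat.one_le_pow m p hp'.pos
        omega
      have hD : ⁅V, (⊤ : Subgroup P)⁆ < V := commutator_top_lt V hVbot
      -- a maximal subgroup between
      obtain ⟨K, hK⟩ := (Set.toFinite {X : Subgroup P | ⁅V, (⊤ : Subgroup P)⁆ ≤ X ∧ X < V}).exists_maximal
        ⟨_, le_rfl, hD⟩
      obtain ⟨⟨hK1, hK2⟩, hKmax⟩ := hK
      -- `|V| = p |K|`
      obtain ⟨a, ha⟩ := (IsPGroup.iff_card.1 (hP.to_subgroup V))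
      obtain ⟨c, hc⟩ := (IsPGroup.iff_card.1 (hP.to_subgroup K))
      have hltc := card_lt_card_of_lt hK2
      rw [ha, hc] at hltc
      have hca : c < a := (Nat.pow_lt_pow_iff_right hp'.one_lt).1 hltc
      have hma : m < a := by
        rw [ha] at hlt
        exact (Nat.pow_lt_pow_iff_right hp'.one_lt).1 hlt
      have hKa : c + 1 = a := by
        by_contra hne
        have hc2 : c + 1 < a := by omega
        -- a subgroup of `V` of order `p ^ (c + 1)` containing `K`
        have hcardK : Nat.card (K.subgroupOf V) = p ^ c := by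
          rw [← hc]
          have e := Subgroup.subgroupOf_map_subtype K V
          rw [inf_eq_left.2 hK2.le] at e
          conv_rhs => rw [← e]
          exact (Subgroup.card_map_of_injective (V.subtype_injective)).symm
        obtain ⟨X, hX, hKX⟩ := Sylow.exists_subgroup_card_pow_prime_le (G := V) p
          (n := c) (m := c + 1) (by rw [ha]; exact pow_dvd_pow p hc2.le) (K.subgroupOf V) hcardK
          (Nat.le_succ c)
        have hKX' : K ≤ X.map V.subtype := by
          intro k hk
          exact ⟨⟨k, hK2.le hk⟩, hKX (by exact hk), rfl⟩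
        have hXc : Nat.card (X.map V.subtype) = p ^ (c + 1) := by
          rw [Subgroup.card_map_of_injective (V.subtype_injective), hX]
        have hXV : X.map V.subtype < V := by
          refine lt_of_le_of_ne (map_subtype_le X) ?_
          intro h
          rw [h, ha] at hXc
          have := Nat.pow_right_injective hp'.two_le hXc
          omega
        have h1 := hKmax ⟨hK1.trans hKX', hXV⟩ hKX'
        have h2 := Subgroup.card_le_of_le h1
        rw [hXc, hc] at h2
        have := (Nat.pow_le_pow_iff_right hp'.one_lt).1 h2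
        omega
      have hKn : K.Normal := normal_of_commutator_le hK1 hK2.le
      have hKlt := card_lt_card_of_lt hK2
      obtain ⟨U, hU1, hU2, hU3⟩ := ih K hKn (by omega) (by
        rw [hc]; exact Nat.pow_le_pow_right hp'.pos (by omega))
      exact ⟨U, hU1.trans hK2.le, hU2, hU3⟩

/-- For `p` odd, a finite `p`-group with an elementary abelian subgroup of order at least `p ^ 4` has a
normal elementary abelian subgroup of order at least `p ^ 4`. -/
theorem exists_normal_card_ge_four [Finite P] {p : ℕ} [Fact p.Prime] (hp : p ≠ 2) (hP : IsPGroup p P)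
    (E : Subgroup P) (hE : IsElementaryAbelian p E) (hE4 : p ^ 4 ≤ Nat.card E) :
    ∃ A : Subgroup P, A.Normal ∧ IsElementaryAbelian p A ∧ p ^ 4 ≤ Nat.card A := by
  have hp' : p.Prime := Fact.out
  have : Group.IsNilpotent P := hP.isNilpotent
  by_contra hcon
  push Not at hcon
  have hbot : IsElementaryAbelian p (⊥ : Subgroup P) := by
    refine ⟨⟨⟨fun x y => Subsingleton.elim _ _⟩⟩, ?_⟩
    intro a ha
    rw [mem_bot.1 ha, one_pow]
  obtain ⟨A, -, hAn, hA, hAmax⟩ := exists_maximal_ge p (⊥ : Subgroup P) inferInstance hbot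
  have hmax : ∀ x ∈ centralizer (A : Set P), x ^ p = 1 → x ∈ A := fun x hx hxp =>
    mem_of_maximal hp hP A hA hAmax hx hxp
  have hAc : Nat.card A ≤ p ^ 3 := by
    obtain ⟨a, ha⟩ := (IsPGroup.iff_card.1 (hP.to_subgroup A))
    have h1 := hcon A hAn hA
    rw [ha] at h1 ⊢
    have := (Nat.pow_lt_pow_iff_right hp'.one_lt).1 h1
    exact Nat.pow_le_pow_right hp'.pos (by omega)
  have hAbot : A ≠ ⊥ := by
    rintro rfl
    have h1 : E ≤ ⊥ := fun e he => hmax e (by
      rw [mem_centralizer_iff]
      intro x hx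
      rw [mem_bot.1 hx]; simp) (hE.2 e he)
    have h2 := Subgroup.card_le_of_le h1
    rw [Subgroup.card_bot] at h2
    have h3 : 1 < p ^ 4 := Nat.one_lt_pow (by norm_num) hp'.one_lt
    omega
  have hD : ⁅A, (⊤ : Subgroup P)⁆ < A := commutator_top_lt A hAbot
  obtain ⟨K, hK⟩ := (Set.toFinite {X : Subgroup P | ⁅A, (⊤ : Subgroup P)⁆ ≤ X ∧ X < A}).exists_maximal
    ⟨_, le_rfl, hD⟩
  obtain ⟨⟨hK1, hK2⟩, hKmax⟩ := hK
  have hcov : ∀ X : Subgroup P, K ≤ X → X ≤ A → X = K ∨ X = A := by
    intro X hKX hXA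
    rcases eq_or_lt_of_le hXA with h | h
    · exact Or.inr h
    · exact Or.inl (le_antisymm (hKmax ⟨hK1.trans hKX, h⟩ hKX) hKX)
  have hKn : K.Normal := normal_of_commutator_le hK1 hK2.le
  have hKc : Nat.card K ≤ p ^ 2 := by
    have h3 := mul_card_le_of_lt hP hK2
    have h4 : p * Nat.card K ≤ p * p ^ 2 := by
      calc p * Nat.card K ≤ Nat.card A := h3
        _ ≤ p ^ 3 := hAc
        _ = p * p ^ 2 := by ring
    exact Nat.le_of_mul_le_mul_left h4 hp'.pos
  obtain ⟨B, hB, hKB, hBc⟩ : ∃ B : Subgroup P, IsElementaryAbelian p B ∧ K ≤ B ∧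
      p ^ 4 ≤ Nat.card B := by
    by_cases hKE : K ≤ E
    · exact ⟨E, hE, hKE, hE4⟩
    · have hE1 : IsElementaryAbelian p (E ⊓ centralizer (K : Set P) : Subgroup P) :=
        elem_mono inf_le_left hE
      refine ⟨(E ⊓ centralizer (K : Set P)) ⊔ K, ?_, le_sup_right, ?_⟩
      · refine elem_sup hE1 (elem_mono hK2.le hA) ?_
        intro x hx k hk
        exact ((mem_centralizer_iff.1 hx.2) k hk).symm
      · have h1 := card_le_mul_centralizer hP K hKc E
        have h2 : (E ⊓ centralizer (K : Set P)) < (E ⊓ centralizer (K : Set P)) ⊔ K := by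
          refine lt_of_le_of_ne le_sup_left ?_
          intro h
          apply hKE
          have : K ≤ E ⊓ centralizer (K : Set P) := by rw [h]; exact le_sup_right
          exact this.trans inf_le_left
        calc p ^ 4 ≤ Nat.card E := hE4
          _ ≤ p * Nat.card (E ⊓ centralizer (K : Set P) : Subgroup P) := h1
          _ ≤ _ := mul_card_le_of_lt hP h2
  have hBn := normal_of_config hp hP A hA hmax hAc K hK1 hK2 hcov B hB hKB hBc
  have := hcon B hBn hB
  omega

/-- **Konvisser, Jonah.** For `p` odd, a finite `p`-group with an elementary abelian subgroup of order at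
least `p ^ 4` has a normal elementary abelian subgroup of order `p ^ 4`. -/
theorem exists_normal_card_four [Finite P] {p : ℕ} [Fact p.Prime] (hp : p ≠ 2) (hP : IsPGroup p P)
    (E : Subgroup P) (hE : IsElementaryAbelian p E) (hE4 : p ^ 4 ≤ Nat.card E) :
    ∃ A : Subgroup P, A.Normal ∧ IsElementaryAbelian p A ∧ Nat.card A = p ^ 4 := by
  obtain ⟨A, hAn, hA, hAc⟩ := exists_normal_card_ge_four hp hP E hE hE4
  obtain ⟨U, hUA, hUn, hUc⟩ := exists_normal_le_card_eq hP 4 (Nat.card A) A hAn le_rfl hAc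
  exact ⟨U, hUn, elem_mono hUA hA, hUc⟩

end Cfsg.Agent.Lib.NormalRankFour
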