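import Mathlib
import Cfsg.Prelude.Def_Solvable
import Cfsg.Agent.Lib.Cores
import Cfsg.Agent.Lib.LocalCore
import Cfsg.Agent.Lib.CoprimeCommutator
import Cfsg.Agent.S0044
set_option linter.all false

/-!
# Bender's maximal subgroup theorem, solvable case

Two maximal subgroups `H`, `L` of a finite simple group, both solvable, with `F(H) ≤ L` and
`F(L) ≤ H`, are equal unless `F(H)` is a `p`-group.
-/

set_option autoImplicit false
set_option linter.style.haveILetI false

namespace Cfsg.Agent.Lib.BenderMaximal

open Subgroup Cfsg Cfsg.Agent.Lib.LocalCore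

variable {G : Type*} [Group G]

/-- Two subgroups normalizing each other with trivial intersection commute. -/
theorem le_centralizer_of_normalize {A B : Subgroup G} (hAB : A ≤ normalizer (B : Set G))
    (hBA : B ≤ normalizer (A : Set G)) (h : A ⊓ B = ⊥) : A ≤ centralizer (B : Set G) := by
  intro x hx
  rw [mem_centralizer_iff]
  intro y hy
  have h1 : y * x * y⁻¹ * x⁻¹ ∈ A := A.mul_mem ((mem_normalizer_iff.mp (hBA hy) x).mp hx)
    (A.inv_mem hx)
  have h2 : y * x * y⁻¹ * x⁻¹ ∈ B := by
    have : y * (x * y⁻¹ * x⁻¹) ∈ B :=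
      B.mul_mem hy ((mem_normalizer_iff.mp (hAB hx) _).mp (B.inv_mem hy))
    simpa [mul_assoc] using this
  have h3 : y * x * y⁻¹ * x⁻¹ ∈ A ⊓ B := ⟨h1, h2⟩
  rw [h, mem_bot] at h3
  have h4 : y * x = 1 * x * y := by
    rw [← h3]; group
  simpa using h4

theorem le_centralizer_symm {A B : Subgroup G} (h : A ≤ centralizer (B : Set G)) :
    B ≤ centralizer (A : Set G) := by
  intro b hb
  rw [mem_centralizer_iff]
  intro a ha
  exact (mem_centralizer_iff.mp (h ha) b hb).symm

theorem centralizer_le_normalizer' (A : Subgroup G) :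
    centralizer (A : Set G) ≤ normalizer (A : Set G) := Subgroup.centralizer_le_normalizer _

/-- `F(X)` is the join of the `O_p(X)`, as subgroups of the ambient group. -/
theorem map_fittingSubgroup_eq_iSup [Finite G] (X : Subgroup G) :
    (fittingSubgroup X).map X.subtype =
      ⨆ p : Nat.Primes, (pCore (p : ℕ) X).map X.subtype := by
  rw [Cores.fittingSubgroup_eq_iSup_pCore, Subgroup.map_iSup]

theorem map_pCore_le_map_fittingSubgroup [Finite G] (X : Subgroup G) (p : ℕ) [Fact p.Prime] :
    (pCore p X).map X.subtype ≤ (fittingSubgroup X).map X.subtype :=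
  Subgroup.map_mono (Cores.pCore_le_fittingSubgroup p)

/-- A subgroup centralizing all `O_p(X)` centralizes `F(X)`. -/
theorem le_centralizer_fitting [Finite G] {X K : Subgroup G}
    (h : ∀ p : ℕ, p.Prime → K ≤ centralizer (((pCore p X).map X.subtype : Subgroup G) : Set G)) :
    K ≤ centralizer (((fittingSubgroup X).map X.subtype : Subgroup G) : Set G) := by
  apply le_centralizer_symm
  rw [map_fittingSubgroup_eq_iSup]
  exact iSup_le fun p => le_centralizer_symm (h p p.2)

/-- `C_X(F(X)) ≤ F(X)` for solvable `X`. -/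
theorem inf_centralizer_fitting_le [Finite G] {X : Subgroup G} (hX : Group.IsSolvable X) :
    X ⊓ centralizer (((fittingSubgroup X).map X.subtype : Subgroup G) : Set G) ≤
      (fittingSubgroup X).map X.subtype := by
  rintro x ⟨hx, hxc⟩
  have h := Cfsg.Agent.S0044.result (G := X)
  refine ⟨⟨x, hx⟩, h ?_, rfl⟩
  rw [mem_centralizer_iff]
  intro y hy
  exact Subtype.ext (mem_centralizer_iff.mp hxc (y : G) ⟨y, hy, rfl⟩)

/-- A `p`-subgroup of the Fitting subgroup lies in `O_p`. -/
theorem le_pCore_of_le_fittingSubgroup [Finite G] {p : ℕ} [Fact p.Prime] {K : Subgroup G}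
    (hK : IsPGroup p K) (h : K ≤ fittingSubgroup G) : K ≤ pCore p G := by
  haveI := Cores.fittingSubgroup_isNilpotent (G := G)
  haveI := Cores.fittingSubgroup_normal (G := G)
  have h1 : IsPGroup p (K.subgroupOf (fittingSubgroup G)) :=
    hK.of_equiv (subgroupOfEquivOfLe h).symm
  obtain ⟨P, hP⟩ := h1.exists_le_sylow
  haveI : P.Normal := inferInstance
  haveI : (P : Subgroup (fittingSubgroup G)).Characteristic :=
    Sylow.characteristic_of_normal P inferInstance
  have h2 : (P : Subgroup (fittingSubgroup G)).map (fittingSubgroup G).subtype ≤ pCore p G :=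
    Cores.le_pCore inferInstance (P.isPGroup'.map _)
  calc K = (K.subgroupOf (fittingSubgroup G)).map (fittingSubgroup G).subtype := by
        rw [subgroupOf_map_subtype, inf_eq_left.mpr h]
    _ ≤ _ := (Subgroup.map_mono hP).trans h2

theorem le_map_pCore_of_le_fitting [Finite G] {p : ℕ} [Fact p.Prime] {X K : Subgroup G}
    (hK : IsPGroup p K) (h : K ≤ (fittingSubgroup X).map X.subtype) :
    K ≤ (pCore p X).map X.subtype := by
  have hKX : K ≤ X := h.trans (map_subtype_le _)
  have h1 : K.subgroupOf X ≤ fittingSubgroup X := by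
    rw [← subgroupOf_map_subtype_self (fittingSubgroup X)]
    exact fun x hx => h hx
  have h2 := le_pCore_of_le_fittingSubgroup (hK.of_equiv (subgroupOfEquivOfLe hKX).symm) h1
  calc K = (K.subgroupOf X).map X.subtype := by
        rw [subgroupOf_map_subtype, inf_eq_left.mpr hKX]
    _ ≤ _ := Subgroup.map_mono h2

/-- `O_p(X) ≠ 1` as soon as `p` divides the order of `F(X)`. -/
theorem map_pCore_ne_bot [Finite G] {p : ℕ} [Fact p.Prime] {X : Subgroup G}
    (h : p ∣ Nat.card ((fittingSubgroup X).map X.subtype : Subgroup G)) :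
    (pCore p X).map X.subtype ≠ ⊥ := by
  intro hb
  obtain ⟨x, hx⟩ := exists_prime_orderOf_dvd_card' p h
  have h1 : orderOf (x : G) = p := by rw [← hx]; exact Subgroup.orderOf_coe x
  have h2 : IsPGroup p (zpowers (x : G)) := by
    apply IsPGroup.of_card (n := 1)
    rw [Nat.card_zpowers, h1, pow_one]
  have h3 : zpowers (x : G) ≤ (pCore p X).map X.subtype :=
    le_map_pCore_of_le_fitting h2 (by rw [zpowers_le]; exact x.2)
  rw [hb, le_bot_iff, zpowers_eq_bot] at h3
  rw [h3, orderOf_one] at h1
  exact (Fact.out : p.Prime).one_lt.ne h1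

theorem dvd_card_of_map_pCore_ne_bot [Finite G] {p : ℕ} [Fact p.Prime] {X : Subgroup G}
    (h : (pCore p X).map X.subtype ≠ ⊥) :
    p ∣ Nat.card ((fittingSubgroup X).map X.subtype : Subgroup G) := by
  haveI : Nontrivial ((pCore p X).map X.subtype : Subgroup G) := (nontrivial_iff_ne_bot _).mpr h
  obtain ⟨n, hn, hc⟩ := (isPGroup_map_pCore p X).nontrivial_iff_card.mp inferInstance
  exact (dvd_pow_self p hn.ne').trans
    (hc ▸ Subgroup.card_dvd_of_le (map_pCore_le_map_fittingSubgroup X p))

/-- Orders of a `p`-group and a group of order prime to `p` are coprime. -/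
theorem coprime_card_of_isPGroup [Finite G] {p : ℕ} [Fact p.Prime] {A B : Subgroup G}
    (hA : IsPGroup p A) (hB : (Nat.card B).Coprime p) :
    (Nat.card A).Coprime (Nat.card B) := by
  obtain ⟨k, hk⟩ := IsPGroup.iff_card.mp hA
  rw [hk]; exact (Nat.Coprime.pow_right k hB).symm

theorem card_coprime_of_isPGroup_ne [Finite G] {p q : ℕ} (hp : p.Prime) [Fact q.Prime]
    (hpq : p ≠ q) {A : Subgroup G} (hA : IsPGroup q A) : (Nat.card A).Coprime p := by
  obtain ⟨k, hk⟩ := IsPGroup.iff_card.mp hA
  rw [hk]
  exact Nat.Coprime.pow_left k ((Nat.coprime_primes Fact.out hp).mpr (Ne.symm hpq))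

/-- `O_q(X) ≤ O_{p'}(X)` for `q ≠ p`. -/
theorem map_pCore_le_map_pPrimeCore [Finite G] {p q : ℕ} (hp : p.Prime) [Fact q.Prime]
    (hpq : p ≠ q) (X : Subgroup G) :
    (pCore q X).map X.subtype ≤ (pPrimeCore p X).map X.subtype :=
  le_map_pPrimeCore (map_subtype_le _)
    (card_coprime_of_isPGroup_ne hp hpq (isPGroup_map_pCore q X)) (le_normalizer_map_pCore q X)

/-- `O_p(X)` centralizes `O_{p'}(X)`. -/
theorem map_pCore_le_centralizer_map_pPrimeCore [Finite G] (p : ℕ) [Fact p.Prime]
    (X : Subgroup G) :
    (pCore p X).map X.subtype ≤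
      centralizer (((pPrimeCore p X).map X.subtype : Subgroup G) : Set G) :=
  le_centralizer_of_normalize ((map_subtype_le _).trans (le_normalizer_map_pPrimeCore p X))
    ((map_subtype_le _).trans (le_normalizer_map_pCore p X))
    (disjoint_of_coprime_natCard (coprime_card_of_isPGroup (isPGroup_map_pCore p X)
      (card_map_pPrimeCore_coprime p X))).eq_bot

/-- In a simple group: a nontrivial subgroup `A` of a maximal subgroup `H` that is normalized by
`H` has normalizer `H`. -/
theorem normalizer_eq_of_isCoatom [IsSimpleGroup G] {H A : Subgroup G} (hH : IsCoatom H)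
    (hA : A ≤ H) (h1 : A ≠ ⊥) (hn : H ≤ normalizer (A : Set G)) :
    normalizer (A : Set G) = H := by
  by_contra hne
  have h2 := hH.2 _ (lt_of_le_of_ne hn (Ne.symm hne))
  have h3 : A.Normal := normalizer_eq_top_iff.mp h2
  rcases h3.eq_bot_or_eq_top with h | h
  · exact h1 h
  · exact hH.1 (top_le_iff.mp (h ▸ hA))

/-- If the `p`-subgroup `R` normalizes the solvable subgroup `X` and centralizes `O_q(X)` for all
`q ≠ p`, then it centralizes `O_{p'}(X)`. -/
theorem le_centralizer_map_pPrimeCore [Finite G] (p : ℕ) [Fact p.Prime] {X R : Subgroup G}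
    (hX : Group.IsSolvable X) (hR : IsPGroup p R) (hRX : R ≤ X)
    (h : ∀ q : ℕ, q.Prime → q ≠ p →
      R ≤ centralizer (((pCore q X).map X.subtype : Subgroup G) : Set G)) :
    R ≤ centralizer (((pPrimeCore p X).map X.subtype : Subgroup G) : Set G) := by
  set W := (pPrimeCore p X).map X.subtype with hW
  set F := (fittingSubgroup X).map X.subtype with hF
  have hWX : W ≤ X := map_subtype_le _
  have hXW : X ≤ normalizer (W : Set G) := le_normalizer_map_pPrimeCore p X
  have hXF : X ≤ normalizer (F : Set G) := le_normalizer_map_fittingSubgroup X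
  have hWc : (Nat.card W).Coprime p := card_map_pPrimeCore_coprime p X
  set N := F ⊓ W with hN
  have hXN : X ≤ normalizer (N : Set G) :=
    fun x hx => inf_normalizer_le_normalizer_inf ⟨hXF hx, hXW hx⟩
  have hNc : (Nat.card N).Coprime p := hWc.coprime_dvd_left (card_dvd_of_le inf_le_right)
  -- `R` centralizes `N`
  have hRN : R ≤ centralizer (N : Set G) := by
    apply le_centralizer_symm
    have h1 : (centralizer (R : Set G)).subgroupOf N = ⊤ := by
      refine Cores.eq_top_of_sylow_le fun q hq => ?_
      obtain ⟨Q⟩ := (inferInstance : Nonempty (Sylow q N))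
      refine ⟨Q, ?_⟩
      by_cases hqp : q = p
      · subst hqp
        have hQ : (Q : Subgroup N) = ⊥ := by
          rw [← card_eq_one]
          obtain ⟨k, hk⟩ := IsPGroup.iff_card.mp Q.isPGroup'
          have hd : Nat.card (Q : Subgroup N) ∣ Nat.card N := card_subgroup_dvd_card _
          have hc : (Nat.card (Q : Subgroup N)).Coprime (q ^ k) :=
            Nat.Coprime.pow_right k (hNc.coprime_dvd_left hd)
          rw [← hk] at hc
          exact (Nat.coprime_self _).mp hc
        rw [hQ]; exact bot_le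
      · intro x hx
        rw [mem_subgroupOf]
        have h2 : (Q : Subgroup N).map N.subtype ≤ (pCore q X).map X.subtype :=
          le_map_pCore_of_le_fitting (Q.isPGroup'.map _) ((map_subtype_le _).trans inf_le_left)
        exact le_centralizer_symm (h q hq.out hqp) (h2 ⟨x, hx, rfl⟩)
    exact subgroupOf_eq_top.mp h1
  -- `[W, R] ≤ N`
  have hRW : R ≤ normalizer (W : Set G) := hRX.trans hXW
  have hWR : ⁅W, R⁆ ≤ W := CoprimeCommutator.commutator_le_left hRW
  have h3 : ⁅W, R⁆ ≤ centralizer (N : Set G) := by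
    rw [← commutator_eq_bot_iff_le_centralizer]
    apply commutator_commutator_eq_bot_of_rotate
    · rw [commutator_comm R N, commutator_eq_bot_iff_le_centralizer.mpr (le_centralizer_symm hRN)]
      exact commutator_bot_left _
    · rw [eq_bot_iff]
      have h4 : ⁅N, W⁆ ≤ N := CoprimeCommutator.commutator_le_left (hWX.trans hXN)
      refine (commutator_mono h4 le_rfl).trans ?_
      rw [commutator_eq_bot_iff_le_centralizer.mpr (le_centralizer_symm hRN)]
  have h4 : ⁅W, R⁆ ≤ centralizer (F : Set G) := by
    apply le_centralizer_fitting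
    intro q hq
    haveI := Fact.mk hq
    by_cases hqp : q = p
    · subst hqp
      exact hWR.trans (le_centralizer_symm (map_pCore_le_centralizer_map_pPrimeCore q X))
    · refine h3.trans (centralizer_le ?_)
      exact le_inf (map_pCore_le_map_fittingSubgroup X q)
        (map_pCore_le_map_pPrimeCore Fact.out (Ne.symm hqp) X)
  have h5 : ⁅W, R⁆ ≤ N :=
    le_inf ((le_inf (hWR.trans hWX) h4).trans (inf_centralizer_fitting_le hX)) hWR
  exact CoprimeCommutator.le_centralizer_of_commutator_le R W N hRW
    (coprime_card_of_isPGroup hR hWc) h5 hRN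

/-- For `H`, `L` with `F(H) ≤ L` and `F(L) ≤ H`: `O_q(L)` centralizes `O_p(H)` for `p ≠ q`. -/
theorem map_pCore_le_centralizer_of_ne [Finite G] {H L : Subgroup G}
    (h1 : (fittingSubgroup H).map H.subtype ≤ L) (h2 : (fittingSubgroup L).map L.subtype ≤ H)
    {p q : ℕ} (hp : p.Prime) (hq : q.Prime) (hpq : p ≠ q) :
    (pCore q L).map L.subtype ≤
      centralizer (((pCore p H).map H.subtype : Subgroup G) : Set G) := by
  haveI := Fact.mk hp
  haveI := Fact.mk hq
  refine le_centralizer_of_normalize
    (((map_pCore_le_map_fittingSubgroup L q).trans h2).trans (le_normalizer_map_pCore p H))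
    (((map_pCore_le_map_fittingSubgroup H p).trans h1).trans (le_normalizer_map_pCore q L)) ?_
  exact (disjoint_of_coprime_natCard (coprime_card_of_isPGroup (isPGroup_map_pCore q L)
    (card_coprime_of_isPGroup_ne hq (Ne.symm hpq) (isPGroup_map_pCore p H)))).eq_bot

/-- For `H`, `L` with `F(H) ≤ L` and `F(L) ≤ H`, `L` solvable: if `O_p(H) ≠ 1` then
`O_p(L) ≠ 1`. -/
theorem map_pCore_ne_bot_of_ne_bot [Finite G] {H L : Subgroup G} (hL : Group.IsSolvable L)
    (h1 : (fittingSubgroup H).map H.subtype ≤ L) (h2 : (fittingSubgroup L).map L.subtype ≤ H)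
    {p : ℕ} (hp : p.Prime) (h : (pCore p H).map H.subtype ≠ ⊥) :
    (pCore p L).map L.subtype ≠ ⊥ := by
  haveI := Fact.mk hp
  intro hb
  apply h
  have h3 : (pCore p H).map H.subtype ≤
      centralizer (((fittingSubgroup L).map L.subtype : Subgroup G) : Set G) := by
    apply le_centralizer_fitting
    intro q hq
    by_cases hqp : q = p
    · subst hqp
      rw [hb]
      intro x _
      rw [mem_centralizer_iff]
      intro y hy
      rw [coe_bot, Set.mem_singleton_iff] at hy
      rw [hy, one_mul, mul_one]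
    · exact map_pCore_le_centralizer_of_ne h2 h1 hq hp hqp
  have h4 : (pCore p H).map H.subtype ≤ (fittingSubgroup L).map L.subtype :=
    (le_inf ((map_pCore_le_map_fittingSubgroup H p).trans h1) h3).trans
      (inf_centralizer_fitting_le hL)
  have h5 := le_map_pCore_of_le_fitting (isPGroup_map_pCore p H) h4
  rwa [hb, le_bot_iff] at h5

/-- One inclusion in Bender's theorem. -/
theorem map_pPrimeCore_le [Finite G] [IsSimpleGroup G] {H L : Subgroup G}
    (hH : IsCoatom H) (hL : IsCoatom L) (hsH : Group.IsSolvable H) (hsL : Group.IsSolvable L)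
    (h1 : (fittingSubgroup H).map H.subtype ≤ L) (h2 : (fittingSubgroup L).map L.subtype ≤ H)
    {p : ℕ} (hp : p.Prime) (h : (pCore p H).map H.subtype ≠ ⊥) :
    (pPrimeCore p H).map H.subtype ≤ (pPrimeCore p L).map L.subtype := by
  haveI := Fact.mk hp
  have hLne : (pCore p L).map L.subtype ≠ ⊥ := map_pCore_ne_bot_of_ne_bot hsL h1 h2 hp h
  -- `O_p(L)` centralizes `O_{p'}(H)`
  have h3 : (pCore p L).map L.subtype ≤
      centralizer (((pPrimeCore p H).map H.subtype : Subgroup G) : Set G) := by
    refine le_centralizer_map_pPrimeCore p hsH (isPGroup_map_pCore p L)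
      ((map_pCore_le_map_fittingSubgroup L p).trans h2) ?_
    intro q hq hqp
    exact map_pCore_le_centralizer_of_ne h1 h2 hq hp hqp
  have h4 : (pPrimeCore p H).map H.subtype ≤ L := by
    refine (le_centralizer_symm h3).trans ((centralizer_le_normalizer' _).trans ?_)
    rw [normalizer_eq_of_isCoatom hL (map_subtype_le _) hLne (le_normalizer_map_pCore p L)]
  have h5 := pPrimeCoreOf_inf_le p H L ((pCore p H).map H.subtype) hsL (isPGroup_map_pCore p H)
    ((map_pCore_le_map_fittingSubgroup H p).trans h1) (le_normalizer_map_pCore p H)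
    (by
      rw [normalizer_eq_of_isCoatom hH (map_subtype_le _) h (le_normalizer_map_pCore p H)]
      exact inf_le_right)
  rwa [inf_eq_left.mpr h4] at h5

/-- **Bender's maximal subgroup theorem** (solvable case): maximal subgroups `H`, `L` of a finite
simple group, both solvable, with `F(H) ≤ L` and `F(L) ≤ H` are equal if `F(H)` is not a
`p`-group. -/
theorem eq_of_fitting_le [Finite G] [IsSimpleGroup G] {H L : Subgroup G}
    (hH : IsCoatom H) (hL : IsCoatom L) (hsH : Group.IsSolvable H) (hsL : Group.IsSolvable L)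
    (h1 : (fittingSubgroup H).map H.subtype ≤ L) (h2 : (fittingSubgroup L).map L.subtype ≤ H)
    (hF : 2 ≤ (Nat.card ((fittingSubgroup H).map H.subtype : Subgroup G)).primeFactors.card) :
    H = L := by
  obtain ⟨p, hp, q, hq, hpq⟩ := Finset.one_lt_card.mp hF
  have hpp := Nat.prime_of_mem_primeFactors hp
  have hqq := Nat.prime_of_mem_primeFactors hq
  haveI := Fact.mk hpp
  haveI := Fact.mk hqq
  have hp1 : (pCore p H).map H.subtype ≠ ⊥ := map_pCore_ne_bot (Nat.dvd_of_mem_primeFactors hp)
  have hq1 : (pCore q H).map H.subtype ≠ ⊥ := map_pCore_ne_bot (Nat.dvd_of_mem_primeFactors hq)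
  have hp2 : (pCore p L).map L.subtype ≠ ⊥ := map_pCore_ne_bot_of_ne_bot hsL h1 h2 hpp hp1
  have heq : (pPrimeCore p H).map H.subtype = (pPrimeCore p L).map L.subtype :=
    le_antisymm (map_pPrimeCore_le hH hL hsH hsL h1 h2 hpp hp1)
      (map_pPrimeCore_le hL hH hsL hsH h2 h1 hpp hp2)
  have hne : (pPrimeCore p H).map H.subtype ≠ ⊥ := by
    intro hb
    apply hq1
    rw [← le_bot_iff, ← hb]
    exact map_pCore_le_map_pPrimeCore hpp hpq H
  rw [← normalizer_eq_of_isCoatom hH (map_subtype_le _) hne (le_normalizer_map_pPrimeCore p H),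
    heq, normalizer_eq_of_isCoatom hL (map_subtype_le _) (heq ▸ hne)
      (le_normalizer_map_pPrimeCore p L)]

end Cfsg.Agent.Lib.BenderMaximal
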