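import Mathlib
set_option linter.all false

/-!
Duality in finite groups of class at most two with cyclic centre (for instance extraspecial
`p`-groups): the commutator pairing `P / Z(P) × P / Z(P) → Z(P)` is perfect.
-/

set_option autoImplicit false

namespace Cfsg.Agent.Lib.ClassTwoDuality

open Subgroup
open scoped commutatorElement

section General

variable {P : Type*} [Group P]

/-- In a group of class at most two the commutator is multiplicative in the first variable. -/
theorem comm_mul_left (hc : commutator P ≤ center P) (a b c : P) :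
    ⁅a * b, c⁆ = ⁅a, c⁆ * ⁅b, c⁆ := by
  have h1 : ⁅b, c⁆ ∈ center P := hc (commutator_mem_commutator (mem_top b) (mem_top c))
  have h2 := (mem_center_iff.mp h1) a
  rw [commutatorElement_def, commutatorElement_def]
  have h3 : a * ⁅b, c⁆ * a⁻¹ = ⁅b, c⁆ := by rw [h2]; group
  have h4 : ⁅b, c⁆ = b * c * b⁻¹ * c⁻¹ := commutatorElement_def b c
  calc a * b * c * (a * b)⁻¹ * c⁻¹ = (a * (b * c * b⁻¹ * c⁻¹) * a⁻¹) * (a * c * a⁻¹ * c⁻¹) := by
        group
    _ = ⁅b, c⁆ * (a * c * a⁻¹ * c⁻¹) := by rw [← h4, h3]
    _ = (a * c * a⁻¹ * c⁻¹) * ⁅b, c⁆ := ((mem_center_iff.mp h1) _).symm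

/-- In a group of class at most two the commutator is multiplicative in the second variable. -/
theorem comm_mul_right (hc : commutator P ≤ center P) (a b c : P) :
    ⁅a, b * c⁆ = ⁅a, b⁆ * ⁅a, c⁆ := by
  have h1 : ⁅a, b⁆ ∈ center P := hc (commutator_mem_commutator (mem_top a) (mem_top b))
  have h2 : ⁅a, c⁆ ∈ center P := hc (commutator_mem_commutator (mem_top a) (mem_top c))
  rw [← commutatorElement_inv, comm_mul_left hc, mul_inv_rev, commutatorElement_inv,
    commutatorElement_inv]
  exact (mem_center_iff.mp h1) _

theorem comm_mem_center (hc : commutator P ≤ center P) (a b : P) : ⁅a, b⁆ ∈ center P :=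
  hc (commutator_mem_commutator (mem_top a) (mem_top b))

/-- A finite cyclic group has a faithful complex character. -/
theorem exists_faithful_char (Z : Type*) [Group Z] [Finite Z] (hZ : IsCyclic Z) :
    ∃ χ : Z →* ℂˣ, Function.Injective χ := by
  have hn : NeZero (Nat.card Z) := ⟨Nat.card_pos.ne'⟩
  have hcard : Nat.card Z = Nat.card (rootsOfUnity (Nat.card Z) ℂ) :=
    (Complex.card_rootsOfUnity (Nat.card Z)).symm
  exact ⟨(rootsOfUnity (Nat.card Z) ℂ).subtype.comp (mulEquivOfCyclicCardEq hcard).toMonoidHom,
    (Subtype.val_injective).comp (mulEquivOfCyclicCardEq hcard).injective⟩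

/-- The pairing `g ↦ (x ↦ χ [g, x])`. -/
noncomputable def pairing (hc : commutator P ≤ center P) (χ : center P →* ℂˣ) :
    P →* (P →* ℂˣ) where
  toFun g :=
    { toFun := fun x => χ ⟨⁅g, x⁆, comm_mem_center hc g x⟩
      map_one' := by
        have : (⟨⁅g, (1 : P)⁆, comm_mem_center hc g 1⟩ : center P) = 1 := by
          ext; exact commutatorElement_one_right g
        rw [this, map_one]
      map_mul' := fun x y => by
        rw [← map_mul]
        congr 1
        ext
        exact comm_mul_right hc g x y }
  map_one' := by
    refine MonoidHom.ext fun x => ?_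
    have : (⟨⁅(1 : P), x⁆, comm_mem_center hc 1 x⟩ : center P) = 1 := by
      ext; exact commutatorElement_one_left x
    exact (congrArg χ this).trans (map_one χ)
  map_mul' := fun g h => by
    refine MonoidHom.ext fun x => ?_
    have : (⟨⁅g * h, x⁆, comm_mem_center hc (g * h) x⟩ : center P)
        = ⟨⁅g, x⁆, comm_mem_center hc g x⟩ * ⟨⁅h, x⁆, comm_mem_center hc h x⟩ := by
      ext; exact comm_mul_left hc g h x
    exact (congrArg χ this).trans (map_mul χ _ _)

theorem pairing_apply (hc : commutator P ≤ center P) (χ : center P →* ℂˣ) (g x : P) :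
    pairing hc χ g x = χ ⟨⁅g, x⁆, comm_mem_center hc g x⟩ := rfl

theorem pairing_eq_one_iff (hc : commutator P ≤ center P) (χ : center P →* ℂˣ)
    (hχ : Function.Injective χ) (g x : P) : pairing hc χ g x = 1 ↔ ⁅g, x⁆ = 1 := by
  rw [pairing_apply, ← map_one χ, hχ.eq_iff, Subtype.ext_iff]
  rfl

theorem ker_pairing (hc : commutator P ≤ center P) (χ : center P →* ℂˣ)
    (hχ : Function.Injective χ) : (pairing hc χ).ker = center P := by
  ext g
  rw [MonoidHom.mem_ker, mem_center_iff]
  constructor
  · intro h x
    have := DFunLike.congr_fun h x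
    rw [MonoidHom.one_apply, pairing_eq_one_iff hc χ hχ,
      commutatorElement_eq_one_iff_mul_comm] at this
    exact this.symm
  · intro h
    ext x
    rw [MonoidHom.one_apply]
    have := (pairing_eq_one_iff hc χ hχ g x).mpr
      (commutatorElement_eq_one_iff_mul_comm.mpr (h x).symm)
    rw [this]

end General

section Finite

variable {P : Type*} [Group P] [Finite P]

/-- The subgroup of linear characters of `P` that are trivial on `H`. -/
def annihilator (H : Subgroup P) : Subgroup (P →* ℂˣ) where
  carrier := {f | ∀ x ∈ H, f x = 1}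
  one_mem' := fun x _ => rfl
  mul_mem' := fun {f g} hf hg x hx => by
    rw [MonoidHom.mul_apply, hf x hx, hg x hx, one_mul]
  inv_mem' := fun {f} hf x hx => by
    rw [MonoidHom.inv_apply, hf x hx, inv_one]

omit [Finite P] in
theorem mem_annihilator {H : Subgroup P} {f : P →* ℂˣ} :
    f ∈ annihilator H ↔ ∀ x ∈ H, f x = 1 := Iff.rfl

/-- `annihilator H` is the character group of `P / H`. -/
theorem card_annihilator (H : Subgroup P) (hH : commutator P ≤ H) :
    Nat.card (annihilator H) = Nat.card (P ⧸ H) := by
  have hn : H.Normal := Subgroup.Normal.of_commutator_le P hH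
  let _ : CommGroup (P ⧸ H) :=
    { (inferInstance : Group (P ⧸ H)) with
      mul_comm := by
        intro a b
        induction a using QuotientGroup.induction_on with | _ a => ?_
        induction b using QuotientGroup.induction_on with | _ b => ?_
        rw [← QuotientGroup.mk_mul, ← QuotientGroup.mk_mul, QuotientGroup.eq]
        have := hH (commutator_mem_commutator (mem_top b⁻¹) (mem_top a⁻¹))
        rw [commutatorElement_def] at this
        simpa [mul_assoc] using this }
  rw [← CommGroup.card_monoidHom_of_hasEnoughRootsOfUnity (P ⧸ H) ℂ]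
  refine Nat.card_congr
    { toFun := fun f => QuotientGroup.lift H f.1 (fun x hx => f.2 x hx)
      invFun := fun f => ⟨f.comp (QuotientGroup.mk' H), fun x hx => by
        rw [MonoidHom.comp_apply, QuotientGroup.mk'_apply, (QuotientGroup.eq_one_iff x).mpr hx,
          map_one]⟩
      left_inv := fun f => by
        ext x
        rfl
      right_inv := fun f => by
        ext x
        rfl }

/-- Characters of `P` trivial on `H` separate the elements outside `H` from the identity. -/
theorem exists_char_ne_one (H : Subgroup P) (hH : commutator P ≤ H) {x : P} (hx : x ∉ H) :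
    ∃ f ∈ annihilator H, f x ≠ 1 := by
  have hn : H.Normal := Subgroup.Normal.of_commutator_le P hH
  let _ : CommGroup (P ⧸ H) :=
    { (inferInstance : Group (P ⧸ H)) with
      mul_comm := by
        intro a b
        induction a using QuotientGroup.induction_on with | _ a => ?_
        induction b using QuotientGroup.induction_on with | _ b => ?_
        rw [← QuotientGroup.mk_mul, ← QuotientGroup.mk_mul, QuotientGroup.eq]
        have := hH (commutator_mem_commutator (mem_top b⁻¹) (mem_top a⁻¹))
        rw [commutatorElement_def] at this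
        simpa [mul_assoc] using this }
  have hx' : ((x : P) : P ⧸ H) ≠ 1 := fun h => hx ((QuotientGroup.eq_one_iff x).mp h)
  obtain ⟨φ, hφ⟩ := CommGroup.exists_apply_ne_one_of_hasEnoughRootsOfUnity (P ⧸ H) ℂ hx'
  exact ⟨φ.comp (QuotientGroup.mk' H), fun y hy => by
    rw [MonoidHom.comp_apply, QuotientGroup.mk'_apply, (QuotientGroup.eq_one_iff y).mpr hy,
      map_one], hφ⟩

instance finite_monoidHom_units : Finite (P →* ℂˣ) := by
  have : Finite (annihilator (commutator P)) := by
    have h := card_annihilator (commutator P) le_rfl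
    exact Nat.finite_of_card_ne_zero (by rw [h]; exact Nat.card_pos.ne')
  refine Finite.of_injective (fun f : P →* ℂˣ =>
    (⟨f, fun x hx => ?_⟩ : annihilator (commutator P))) ?_
  · exact Abelianization.commutator_subset_ker f hx
  · intro f g h
    exact congrArg Subtype.val h

/-- The range of the pairing is the whole annihilator of the centre. -/
theorem range_pairing (hc : commutator P ≤ center P) (χ : center P →* ℂˣ)
    (hχ : Function.Injective χ) : (pairing hc χ).range = annihilator (center P) := by
  apply Subgroup.eq_of_le_of_card_ge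
  · rintro _ ⟨g, rfl⟩ x hx
    rw [pairing_eq_one_iff hc χ hχ, commutatorElement_eq_one_iff_mul_comm]
    exact mem_center_iff.mp hx g
  · rw [card_annihilator _ hc]
    have h1 : Nat.card (P ⧸ (pairing hc χ).ker) = Nat.card (pairing hc χ).range :=
      Nat.card_congr (QuotientGroup.quotientKerEquivRange (pairing hc χ)).toEquiv
    rw [← h1, ker_pairing hc χ hχ]

/-- Every linear character that is trivial on the centre is `x ↦ χ [g, x]` for some `g`. -/
theorem exists_comm_eq (hc : commutator P ≤ center P) (χ : center P →* ℂˣ)
    (hχ : Function.Injective χ) (f : P →* ℂˣ) (hf : ∀ x ∈ center P, f x = 1) :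
    ∃ g : P, ∀ x : P, f x = χ ⟨⁅g, x⁆, comm_mem_center hc g x⟩ := by
  have : f ∈ (pairing hc χ).range := by
    rw [range_pairing hc χ hχ]; exact hf
  obtain ⟨g, rfl⟩ := this
  exact ⟨g, fun x => rfl⟩

/-- Every homomorphism from `P` to its centre that is trivial on the centre is `x ↦ [g, x]`. -/
theorem exists_comm_eq_center (hc : commutator P ≤ center P) (hcyc : IsCyclic (center P))
    (f : P →* center P) (hf : ∀ x ∈ center P, f x = 1) :
    ∃ g : P, ∀ x : P, ((f x : center P) : P) = ⁅g, x⁆ := by
  obtain ⟨χ, hχ⟩ := exists_faithful_char (center P) hcyc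
  obtain ⟨g, hg⟩ := exists_comm_eq hc χ hχ (χ.comp f) (fun x hx => by
    rw [MonoidHom.comp_apply, hf x hx, map_one])
  refine ⟨g, fun x => ?_⟩
  have := hχ (hg x)
  rw [this]

/-- The double centralizer theorem: `C_P(C_P(H)) = H` when `Z(P) ≤ H`. -/
theorem centralizer_centralizer_eq (hc : commutator P ≤ center P) (hcyc : IsCyclic (center P))
    (H : Subgroup P) (hH : center P ≤ H) :
    Subgroup.centralizer (Subgroup.centralizer (H : Set P) : Set P) = H := by
  apply le_antisymm
  · intro x hx
    by_contra hxH
    obtain ⟨χ, hχ⟩ := exists_faithful_char (center P) hcyc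
    obtain ⟨f, hf, hfx⟩ := exists_char_ne_one H (hc.trans hH) hxH
    obtain ⟨g, hg⟩ := exists_comm_eq hc χ hχ f (fun y hy => hf y (hH hy))
    have hgH : g ∈ Subgroup.centralizer (H : Set P) := by
      rw [mem_centralizer_iff]
      intro y hy
      have h1 := hf y hy
      rw [hg y, ← map_one χ, hχ.eq_iff, Subtype.ext_iff] at h1
      exact (commutatorElement_eq_one_iff_mul_comm.mp h1).symm
    apply hfx
    rw [hg x]
    have h2 : ⁅g, x⁆ = 1 :=
      commutatorElement_eq_one_iff_mul_comm.mpr ((mem_centralizer_iff.mp hx) g hgH)
    have h3 : (⟨⁅g, x⁆, comm_mem_center hc g x⟩ : center P) = 1 := Subtype.ext h2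
    rw [h3, map_one]
  · intro x hx
    rw [mem_centralizer_iff]
    intro y hy
    exact ((mem_centralizer_iff.mp hy) x hx).symm

/-- The index formula `|C_P(H)| |H| = |P| |Z(P)|` when `Z(P) ≤ H`. -/
theorem card_centralizer_mul_card (hc : commutator P ≤ center P) (hcyc : IsCyclic (center P))
    (H : Subgroup P) (hH : center P ≤ H) :
    Nat.card (Subgroup.centralizer (H : Set P)) * Nat.card H
      = Nat.card P * Nat.card (center P) := by
  obtain ⟨χ, hχ⟩ := exists_faithful_char (center P) hcyc
  have hcomap : (annihilator H).comap (pairing hc χ) = Subgroup.centralizer (H : Set P) := by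
    ext g
    rw [mem_comap, mem_annihilator, mem_centralizer_iff]
    constructor
    · intro h x hx
      exact ((commutatorElement_eq_one_iff_mul_comm.mp
        ((pairing_eq_one_iff hc χ hχ g x).mp (h x hx)))).symm
    · intro h x hx
      exact (pairing_eq_one_iff hc χ hχ g x).mpr
        (commutatorElement_eq_one_iff_mul_comm.mpr (h x hx).symm)
  have hle : annihilator H ≤ (pairing hc χ).range := by
    rw [range_pairing hc χ hχ]
    intro f hf x hx
    exact hf x (hH hx)
  have hidx : (Subgroup.centralizer (H : Set P)).index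
      = ((annihilator H).subgroupOf (pairing hc χ).range).index := by
    rw [← hcomap, index_comap]
    rfl
  have h1 : Nat.card (annihilator H) * (Subgroup.centralizer (H : Set P)).index
      = Nat.card (pairing hc χ).range := by
    rw [hidx, ← Nat.card_congr (subgroupOfEquivOfLe hle).toEquiv]
    exact card_mul_index _
  rw [range_pairing hc χ hχ, card_annihilator _ (hc.trans hH), card_annihilator _ hc] at h1
  have h2 := card_mul_index (Subgroup.centralizer (H : Set P))
  have h3 : Nat.card (P ⧸ H) * Nat.card H = Nat.card P := by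
    rw [mul_comm]; exact card_mul_index H
  have h4 : Nat.card (P ⧸ center P) * Nat.card (center P) = Nat.card P := by
    rw [mul_comm]; exact card_mul_index (center P)
  have hpos : 0 < (Subgroup.centralizer (H : Set P)).index := Nat.pos_of_ne_zero index_ne_zero_of_finite
  have hpos' : 0 < Nat.card (P ⧸ H) := Nat.card_pos
  -- |C| |H| * (|P/H| * |P:C|) = |P| |P| = |P| |Z| |P/Z|
  apply Nat.eq_of_mul_eq_mul_right (Nat.mul_pos hpos' hpos)
  calc Nat.card (Subgroup.centralizer (H : Set P)) * Nat.card H
        * (Nat.card (P ⧸ H) * (Subgroup.centralizer (H : Set P)).index)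
      = (Nat.card (Subgroup.centralizer (H : Set P)) * (Subgroup.centralizer (H : Set P)).index)
        * (Nat.card (P ⧸ H) * Nat.card H) := by ring
    _ = Nat.card P * (Nat.card (P ⧸ center P) * Nat.card (center P)) := by rw [h2, h3, h4]
    _ = Nat.card P * Nat.card (center P)
        * (Nat.card (P ⧸ H) * (Subgroup.centralizer (H : Set P)).index) := by rw [h1]; ring

end Finite

end Cfsg.Agent.Lib.ClassTwoDuality
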