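import Mathlib
import Cfsg.Prelude.Def_Involutions
import Cfsg.Agent.Lib.GoldschmidtFusion
set_option linter.all false

/-!
# The Alperin–Goldschmidt fusion theorem with essential subgroups

`Ess P X`: `X < P`, `N_P(X)` is Sylow in `N_G(X)`, `C_P(X) ≤ X`, and `N_G(X)/X C_G(X)` has a strongly
`p`-embedded subgroup.  `gen_of_conj_ess`: conjugation between subgroups of a Sylow subgroup `P` is
generated by the normalizers of `P` and of the essential subgroups.
-/

set_option autoImplicit false

namespace Cfsg.Agent.Lib.EssentialFusion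

open Subgroup Cfsg.Agent.Lib.GoldschmidtFusion

variable {G : Type*} [Group G]

/-- `X C_G(X)`. -/
def XC (X : Subgroup G) : Subgroup G := X ⊔ centralizer (X : Set G)

theorem le_XC (X : Subgroup G) : X ≤ XC X := le_sup_left

theorem centralizer_le_XC (X : Subgroup G) : centralizer (X : Set G) ≤ XC X := le_sup_right

theorem XC_le_normalizer (X : Subgroup G) : XC X ≤ normalizer (X : Set G) :=
  sup_le le_normalizer (centralizer_le_normalizer _)

theorem map_conj_XC {X : Subgroup G} {g : G} (hg : g ∈ normalizer (X : Set G)) :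
    (XC X).map (MulAut.conj g).toMonoidHom = XC X := by
  have hC : (centralizer (X : Set G)).map (MulAut.conj g).toMonoidHom = centralizer (X : Set G) := by
    ext x
    rw [mem_map_conj, ← mem_centralizer_map_conj, mem_normalizer_iff_map_conj.1 hg]
  rw [XC, Subgroup.map_sup, mem_normalizer_iff_map_conj.1 hg, hC]

theorem conj_mem_XC {X : Subgroup G} {g x : G} (hg : g ∈ normalizer (X : Set G)) (hx : x ∈ XC X) :
    g * x * g⁻¹ ∈ XC X := by
  have := conj_mem_map_conj hx g
  rwa [map_conj_XC hg] at this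

instance XC_normal (X : Subgroup G) : ((XC X).subgroupOf (normalizer (X : Set G))).Normal := by
  constructor
  intro n hn g
  rw [mem_subgroupOf] at hn ⊢
  simpa using conj_mem_XC g.2 hn

/-- The outer automizer `N_G(X)/X C_G(X)`. -/
abbrev Out (X : Subgroup G) : Type _ :=
  normalizer (X : Set G) ⧸ (XC X).subgroupOf (normalizer (X : Set G))

/-- The image in `N_G(X)/X C_G(X)` of an element of `N_G(X)`. -/
def toOut {X : Subgroup G} (g : G) (hg : g ∈ normalizer (X : Set G)) : Out X :=
  QuotientGroup.mk (⟨g, hg⟩ : normalizer (X : Set G))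

theorem toOut_eq_one {X : Subgroup G} {g : G} {hg : g ∈ normalizer (X : Set G)} :
    toOut g hg = 1 ↔ g ∈ XC X := by
  rw [toOut, QuotientGroup.eq_one_iff, mem_subgroupOf]

theorem toOut_mul {X : Subgroup G} {g h : G} (hg : g ∈ normalizer (X : Set G))
    (hh : h ∈ normalizer (X : Set G)) : toOut (g * h) (mul_mem hg hh) = toOut g hg * toOut h hh := rfl

theorem exists_toOut {X : Subgroup G} (y : Out X) : ∃ g, ∃ hg : g ∈ normalizer (X : Set G), toOut g hg = y := by
  obtain ⟨⟨g, hg⟩, rfl⟩ := QuotientGroup.mk_surjective y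
  exact ⟨g, hg, rfl⟩

/-- `H` is a strongly `p`-embedded subgroup of `Y`. -/
structure StronglyEmb (p : ℕ) {Y : Type*} [Group Y] (H : Subgroup Y) : Prop where
  ne_top : H ≠ ⊤
  dvd : p ∣ Nat.card H
  not_dvd : ∀ g : Y, g ∉ H → ¬ p ∣ Nat.card ↥(H ⊓ H.map (MulAut.conj g).toMonoidHom)

theorem StronglyEmb.isStronglyEmbedded {Y : Type*} [Group Y] {H : Subgroup Y} (h : StronglyEmb 2 H) :
    IsStronglyEmbedded H :=
  ⟨h.ne_top, even_iff_two_dvd.2 h.dvd, fun g hg => by
    rw [← Nat.not_even_iff_odd, even_iff_two_dvd]; exact h.not_dvd g hg⟩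

/-- `X` is an essential subgroup of `P` (with respect to the fusion of `G`). -/
structure Ess {p : ℕ} (P : Sylow p G) (X : Subgroup G) : Prop where
  lt : X < (P : Subgroup G)
  full : ¬ p ∣ ((P : Subgroup G) ⊓ normalizer (X : Set G)).relIndex (normalizer (X : Set G))
  centric : centralizer (X : Set G) ⊓ P ≤ X
  strong : ∃ M : Subgroup G, XC X ≤ M ∧ (P : Subgroup G) ⊓ normalizer (X : Set G) ≤ M ∧
    M < normalizer (X : Set G) ∧ ∀ g ∈ normalizer (X : Set G), g ∉ M →
      ¬ p ∣ (XC X).relIndex (M ⊓ M.map (MulAut.conj g).toMonoidHom)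

/-- The subgroup of `N_G(X)` generated by `C_G(X)` and the elements of `N_G(X)` conjugating a subgroup
`R ≤ P` with `R > X` into `P`. -/
def moved (P X : Subgroup G) : Subgroup G :=
  centralizer (X : Set G) ⊔ closure {n : G | n ∈ normalizer (X : Set G) ∧ ∃ R : Subgroup G, X < R ∧ R ≤ P ∧
    R.map (MulAut.conj n).toMonoidHom ≤ P}

theorem moved_le (P X : Subgroup G) : moved P X ≤ normalizer (X : Set G) := by
  refine sup_le (centralizer_le_normalizer _) ?_
  rw [closure_le]
  intro n hn
  exact hn.1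

theorem mem_moved {P X : Subgroup G} {n : G} (hn : n ∈ normalizer (X : Set G)) {R : Subgroup G} (hXR : X < R)
    (hRP : R ≤ P) (hR : R.map (MulAut.conj n).toMonoidHom ≤ P) : n ∈ moved P X :=
  (le_sup_right : _ ≤ moved P X) (subset_closure ⟨hn, R, hXR, hRP, hR⟩)

section Finite

variable [Finite G] {p : ℕ} [hp : Fact p.Prime]

omit [Finite G] in
theorem map_conj_of_mem {D : Subgroup G} {n : G} (hn : n ∈ D) : D.map (MulAut.conj n).toMonoidHom = D :=
  mem_normalizer_iff_map_conj.1 (le_normalizer hn)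

omit [Finite G] hp in
theorem inf_normalizer_le_moved {P : Subgroup G} {X : Subgroup G} (hX : X < P ⊓ normalizer (X : Set G)) :
    P ⊓ normalizer (X : Set G) ≤ moved P X := by
  intro t ht
  refine mem_moved ht.2 hX inf_le_left ?_
  rw [map_conj_of_mem ht]
  exact inf_le_left

omit [Finite G] hp in
theorem not_dvd_relIndex_of_le {T M N : Subgroup G} (hTM : T ≤ M) (hMN : M ≤ N) (h : ¬ p ∣ T.relIndex N) :
    ¬ p ∣ T.relIndex M := by
  intro h'
  apply h
  rw [← relIndex_mul_relIndex T M N hTM hMN]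
  exact h'.trans (dvd_mul_right _ _)

/-- The strongly `p`-embedded dichotomy. -/
theorem ess_of_moved_ne (P : Sylow p G) {X : Subgroup G} (hX : X < (P : Subgroup G))
    (full : ¬ p ∣ ((P : Subgroup G) ⊓ normalizer (X : Set G)).relIndex (normalizer (X : Set G)))
    (centric : centralizer (X : Set G) ⊓ P ≤ X)
    (hne : moved (P : Subgroup G) X ≠ normalizer (X : Set G)) : Ess P X := by
  set T : Subgroup G := (P : Subgroup G) ⊓ normalizer (X : Set G) with hT
  have hXT : X < T := lt_inf_normalizer P.isPGroup' hX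
  have hTM : T ≤ moved (P : Subgroup G) X := inf_normalizer_le_moved hXT
  have hTp : IsPGroup p T := P.isPGroup'.to_le inf_le_left
  set M := moved (P : Subgroup G) X with hM
  have hMN : M ≤ normalizer (X : Set G) := moved_le _ _
  have hXCM : XC X ≤ M := sup_le (hXT.le.trans hTM) le_sup_left
  have hTMi : ¬ p ∣ T.relIndex M := not_dvd_relIndex_of_le hTM hMN full
  refine ⟨hX, full, centric, M, hXCM, hTM, lt_of_le_of_ne hMN hne, ?_⟩
  intro g hg hgM hdvd
  apply hgM
  obtain ⟨R₀, -, hR₀D, hR₀p, hR₀i⟩ := exists_sylow_in (p := p)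
    (N := M ⊓ M.map (MulAut.conj g).toMonoidHom) (D := ⊥) bot_le IsPGroup.of_bot
  have hR₀XC : ¬ R₀ ≤ XC X := by
    intro h
    exact hR₀i (hdvd.trans (relIndex_dvd_of_le_left _ h))
  obtain ⟨m, hmM, hm⟩ := exists_conj_le_in (p := p) hTp hTMi (hR₀D.trans inf_le_left) hR₀p
  have hR₁M : R₀.map (MulAut.conj g⁻¹).toMonoidHom ≤ M := by
    have := map_conj_mono (hR₀D.trans inf_le_right) g⁻¹
    rwa [map_conj_map_conj, inv_mul_cancel, map_conj_one] at this
  obtain ⟨m', hm'M, hm'⟩ := exists_conj_le_in (p := p) hTp hTMi hR₁M (hR₀p.map _)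
  rw [map_conj_map_conj] at hm'
  set w : G := m' * g⁻¹ * m⁻¹ with hw
  have hwN : w ∈ normalizer (X : Set G) :=
    mul_mem (mul_mem (hMN hm'M) (inv_mem hg)) (inv_mem (hMN hmM))
  have hD₁ : ¬ R₀.map (MulAut.conj m).toMonoidHom ≤ X := by
    intro h
    apply hR₀XC
    have h1 := map_conj_mono (h.trans (le_XC X)) m⁻¹
    rwa [map_conj_map_conj, map_conj_XC (inv_mem (hMN hmM)), inv_mul_cancel, map_conj_one] at h1
  have hXR : X < X ⊔ R₀.map (MulAut.conj m).toMonoidHom := left_lt_sup.2 hD₁
  have hw' : w ∈ M := by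
    refine mem_moved hwN hXR (sup_le hX.le (hm.trans inf_le_left)) ?_
    rw [Subgroup.map_sup, mem_normalizer_iff_map_conj.1 hwN, map_conj_map_conj]
    refine sup_le hX.le ?_
    have e : w * m = m' * g⁻¹ := by rw [hw]; group
    rw [e]
    exact hm'.trans inf_le_left
  have e : g = m⁻¹ * w⁻¹ * m' := by rw [hw]; group
  rw [e]
  exact mul_mem (mul_mem (inv_mem hmM) (inv_mem hw')) hm'M

omit [Finite G] in
theorem gen_change {P : Subgroup G} {F F' : Subgroup G → Prop} {A : Subgroup G} {g : G} (h : Gen P F' A g)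
    (hX : ∀ X : Subgroup G, X ≤ P → F' X → Nat.card A ≤ Nat.card X → ∀ g ∈ normalizer (X : Set G), Gen P F X g)
    (hcard : ∀ X Y : Subgroup G, X ≤ Y → Nat.card X ≤ Nat.card Y) :
    Gen P F A g := by
  induction h with
  | cent hA hc => exact Gen.cent hA hc
  | base hXP hF hAX hg => exact (hX _ hXP hF (hcard _ _ hAX) _ hg).mono hAX
  | mul _ _ ih1 ih2 =>
    refine Gen.mul (ih1 hX) (ih2 ?_)
    intro X hXP hF hc g hg
    rw [card_map_conj] at hc
    exact hX X hXP hF hc g hg

theorem card_le_card {X Y : Subgroup G} (h : X ≤ Y) : Nat.card X ≤ Nat.card Y :=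
  Nat.card_le_card_of_injective _ (Subgroup.inclusion_injective h)

/-- **Alperin–Goldschmidt fusion theorem**, essential form. -/
theorem gen_of_conj_ess (P : Sylow p G) (F : Subgroup G → Prop) (hP : F P)
    (hF : ∀ X : Subgroup G, Ess P X → F X)
    {A : Subgroup G} (hA : A ≤ P) {g : G} (hg : A.map (MulAut.conj g).toMonoidHom ≤ P) :
    Gen (P : Subgroup G) F A g := by
  set F' : Subgroup G → Prop := fun X => X = P ∨ (X < P ∧
      ¬ p ∣ ((P : Subgroup G) ⊓ normalizer (X : Set G)).relIndex (normalizer (X : Set G)) ∧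
      centralizer (X : Set G) ⊓ P ≤ X) with hF'
  have weak : ∀ {A : Subgroup G}, A ≤ P → ∀ {g : G}, A.map (MulAut.conj g).toMonoidHom ≤ P →
      Gen (P : Subgroup G) F' A g := fun hA _ hg =>
    gen_of_conj P F' (Or.inl rfl) (fun X h1 h2 h3 _ => Or.inr ⟨h1, h2, h3⟩) hA hg
  have key : ∀ k : ℕ, ∀ X : Subgroup G, X ≤ P → F' X → Nat.card P ≤ Nat.card X + k →
      ∀ g ∈ normalizer (X : Set G), Gen (P : Subgroup G) F X g := by
    intro k
    induction k with
    | zero =>
      intro X hX _ hk g hg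
      have hXP : X = P := Subgroup.eq_of_le_of_card_ge hX (by simpa using hk)
      subst hXP
      exact Gen.base le_rfl hP le_rfl hg
    | succ k ih =>
      intro X hX hFX hk g hg
      rcases hFX with rfl | ⟨hlt, hfull, hcen⟩
      · exact Gen.base le_rfl hP le_rfl hg
      by_cases hE : Ess P X
      · exact Gen.base hX (hF X hE) le_rfl hg
      have hMN : moved (P : Subgroup G) X = normalizer (X : Set G) := by
        by_contra h
        exact hE (ess_of_moved_ne P hlt hfull hcen h)
      rw [← hMN] at hg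
      -- generators are fine
      have hgen : ∀ n ∈ normalizer (X : Set G), ∀ R : Subgroup G, X < R → R ≤ P →
          R.map (MulAut.conj n).toMonoidHom ≤ P → Gen (P : Subgroup G) F X n := by
        intro n hn R hXR hRP hR
        refine (gen_change (weak hRP hR) ?_ (fun _ _ h => card_le_card h)).mono hXR.le
        intro Y hYP hFY hRY h hh
        refine ih Y hYP hFY ?_ h hh
        have : Nat.card X < Nat.card R := Set.Finite.card_lt_card (Set.toFinite _) hXR
        omega
      -- a closed condition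
      let K : Subgroup G :=
        { carrier := {n : G | n ∈ normalizer (X : Set G) ∧ Gen (P : Subgroup G) F X n}
          one_mem' := ⟨one_mem _, Gen.cent hX (one_mem _)⟩
          mul_mem' := by
            rintro a b ⟨ha, ha'⟩ ⟨hb, hb'⟩
            refine ⟨mul_mem ha hb, Gen.mul hb' ?_⟩
            rw [mem_normalizer_iff_map_conj.1 hb]
            exact ha'
          inv_mem' := by
            rintro a ⟨ha, ha'⟩
            refine ⟨inv_mem ha, ?_⟩
            have := ha'.symm
            rwa [mem_normalizer_iff_map_conj.1 ha] at this }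
      have hK : moved (P : Subgroup G) X ≤ K := by
        refine sup_le ?_ ?_
        · intro c hc
          exact ⟨centralizer_le_normalizer _ hc, Gen.cent hX hc⟩
        · rw [closure_le]
          rintro n ⟨hn, R, hXR, hRP, hR⟩
          exact ⟨hn, hgen n hn R hXR hRP hR⟩
      exact (hK hg).2
  refine gen_change (weak hA hg) ?_ (fun _ _ h => card_le_card h)
  intro X hXP hFX _ h hh
  exact key (Nat.card P) X hXP hFX (Nat.le_add_left _ _) h hh

/-! ### The outer automizer of an essential subgroup -/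

omit [Finite G] hp in
theorem mem_map_mk {X M : Subgroup G} (hM : XC X ≤ M) {g : G} (hg : g ∈ normalizer (X : Set G)) :
    toOut g hg ∈ (M.subgroupOf (normalizer (X : Set G))).map (QuotientGroup.mk' _) ↔ g ∈ M := by
  constructor
  · rintro ⟨⟨m, hmN⟩, hm, h⟩
    have h1 : toOut m hmN = toOut g hg := h
    rw [toOut, toOut, QuotientGroup.eq, mem_subgroupOf] at h1
    have h2 : m⁻¹ * g ∈ M := hM (by simpa using h1)
    have h3 : m ∈ M := hm
    simpa using mul_mem h3 h2
  · intro h
    exact ⟨⟨g, hg⟩, h, rfl⟩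

/-- The outer automizer of an essential subgroup has a strongly `p`-embedded subgroup. -/
theorem Ess.exists_stronglyEmb {P : Sylow p G} {X : Subgroup G} (h : Ess P X) :
    ∃ H : Subgroup (Out X), StronglyEmb p H ∧
      ∀ (t : G) (ht : t ∈ normalizer (X : Set G)), t ∈ (P : Subgroup G) → toOut t ht ∈ H := by
  obtain ⟨M, hXCM, hTM, hlt, hM⟩ := h.strong
  set N : Subgroup G := normalizer (X : Set G) with hN
  set H : Subgroup (Out X) := (M.subgroupOf N).map (QuotientGroup.mk' _) with hH
  have hmem : ∀ {g : G} (hg : g ∈ N), toOut g hg ∈ H ↔ g ∈ M := fun hg => mem_map_mk hXCM hg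
  refine ⟨H, ⟨?_, ?_, ?_⟩, fun t ht htP => (hmem ht).2 (hTM ⟨htP, ht⟩)⟩
  · intro htop
    apply hlt.ne
    apply le_antisymm hlt.le
    intro g hg
    rw [← hmem hg, htop]
    exact mem_top _
  · -- a `p`-element of `P` outside `X`
    have hXT : X < (P : Subgroup G) ⊓ N := lt_inf_normalizer P.isPGroup' h.lt
    obtain ⟨t, htT, htX⟩ := SetLike.exists_of_lt hXT
    have ht1 : toOut t htT.2 ≠ 1 := by
      rw [Ne, toOut_eq_one]
      intro h1
      apply htX
      have h2 : t ∈ ((XC X : Subgroup G) : Set G) := h1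
      rw [XC, coe_mul_of_right_le_normalizer_left _ _ (centralizer_le_normalizer _)] at h2
      obtain ⟨x, hx, c, hc, rfl⟩ := Set.mem_mul.1 h2
      have hcP : c ∈ (P : Subgroup G) := by
        have := mul_mem (inv_mem (h.lt.le hx)) htT.1
        simpa using this
      exact mul_mem hx (h.centric ⟨hc, hcP⟩)
    have htH : toOut t htT.2 ∈ H := (hmem htT.2).2 (hTM htT)
    obtain ⟨k, hk⟩ := P.isPGroup' ⟨t, htT.1⟩
    have hk' : t ^ p ^ k = 1 := by simpa using congrArg Subtype.val hk
    have hk2 : (⟨toOut t htT.2, htH⟩ : H) ^ p ^ k = 1 := by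
      apply Subtype.ext
      change (QuotientGroup.mk (⟨t, htT.2⟩ : N) : Out X) ^ p ^ k = 1
      rw [← QuotientGroup.mk_pow]
      have : (⟨t, htT.2⟩ : N) ^ p ^ k = 1 := Subtype.ext (by simpa using hk')
      rw [this, QuotientGroup.mk_one]
    have ho : orderOf (⟨toOut t htT.2, htH⟩ : H) ∣ p ^ k := orderOf_dvd_of_pow_eq_one hk2
    obtain ⟨j, -, hj⟩ := (Nat.dvd_prime_pow hp.out).1 ho
    have hj0 : j ≠ 0 := by
      rintro rfl
      rw [pow_zero, orderOf_eq_one_iff] at hj
      exact ht1 (congrArg Subtype.val hj)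
    exact ((dvd_pow_self p hj0).trans (dvd_of_eq hj.symm)).trans (orderOf_dvd_natCard _)
  · intro y hy
    obtain ⟨g, hg, rfl⟩ := exists_toOut y
    rw [hmem hg] at hy
    intro hdvd
    apply hM g hg hy
    -- the intersection is the image of `M ⊓ M ^ g`
    set D : Subgroup G := M ⊓ M.map (MulAut.conj g).toMonoidHom with hD
    have hXCD : XC X ≤ D := by
      refine le_inf hXCM ?_
      rw [← map_conj_XC hg]
      exact map_conj_mono hXCM g
    have hDN : D ≤ N := inf_le_left.trans hlt.le
    have heq : H ⊓ H.map (MulAut.conj (toOut g hg)).toMonoidHom =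
        (D.subgroupOf N).map (QuotientGroup.mk' ((XC X).subgroupOf N)) := by
      ext y
      obtain ⟨z, hz, rfl⟩ := exists_toOut y
      rw [mem_inf, hmem hz, mem_map_mk hXCD hz, hD, mem_inf, mem_map_conj, mem_map_conj]
      have e : (toOut g hg)⁻¹ * toOut z hz * toOut g hg =
          toOut (g⁻¹ * z * g) (mul_mem (mul_mem (inv_mem hg) hz) hg) := rfl
      rw [e, hmem]
    have hcard : Nat.card ((D.subgroupOf N).map (QuotientGroup.mk' ((XC X).subgroupOf N)) : Subgroup (Out X)) =
        (XC X).relIndex D := by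
      rw [← relIndex_ker, QuotientGroup.ker_mk', relIndex_subgroupOf hDN]
    rw [heq, hcard] at hdvd
    exact hdvd

/-- A normal `p`-subgroup of a group with a strongly `p`-embedded subgroup is trivial. -/
theorem StronglyEmb.eq_bot_of_normal {Y : Type*} [Group Y] [Finite Y] {H : Subgroup Y} (hH : StronglyEmb p H)
    {B : Subgroup Y} (hB : B.Normal) (hBp : IsPGroup p B) : B = ⊥ := by
  -- `H` contains a Sylow subgroup `S` of `H`; `S` is Sylow in `Y`
  obtain ⟨S, -, hSH, hS, hSi⟩ := exists_sylow_in (p := p) (N := H) (D := ⊥) bot_le IsPGroup.of_bot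
  have hS1 : p ∣ Nat.card S := by
    by_contra h
    have h1 : Nat.card S * S.relIndex H = Nat.card H := by
      have := card_mul_index (S.subgroupOf H)
      rwa [Nat.card_congr (subgroupOfEquivOfLe hSH).toEquiv] at this
    have h2 := hH.dvd
    rw [← h1] at h2
    exact (hp.out.dvd_mul.1 h2).elim h hSi
  have hBH : B ≤ H := by
    -- otherwise the `p`-group `B S` normalizes more than `S`
    have hBS : IsPGroup p (B ⊔ S : Subgroup Y) := hBp.to_sup_of_normal_left hS
    have hle : B ⊔ S ≤ H := by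
      by_contra hcon
      have hne : S < (B ⊔ S) := by
        refine lt_of_le_of_ne le_sup_right ?_
        intro h
        exact hcon (h ▸ hSH)
      have h1 := lt_inf_normalizer hBS hne
      obtain ⟨g, hg, hgS⟩ := SetLike.exists_of_lt h1
      have hgH : g ∉ H := by
        intro hgH
        -- then `S ⊔ ⟨g⟩` is a larger `p`-subgroup of `H`
        have h2 : S < ((B ⊔ S) ⊓ normalizer (S : Set Y)) ⊓ H :=
          lt_of_le_of_ne (le_inf h1.le hSH) (fun h => hgS (h ▸ ⟨hg, hgH⟩))
        obtain ⟨m, hm, hmle⟩ := exists_conj_le_in (p := p) hS hSi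
          (inf_le_right : ((B ⊔ S) ⊓ normalizer (S : Set Y)) ⊓ H ≤ H)
          (hBS.to_le (inf_le_left.trans inf_le_left))
        have h3 : Nat.card S < Nat.card (((B ⊔ S) ⊓ normalizer (S : Set Y)) ⊓ H : Subgroup Y) :=
          Set.Finite.card_lt_card (Set.toFinite _) h2
        have h4 := card_le_card hmle
        rw [card_map_conj] at h4
        omega
      apply hH.not_dvd g hgH
      refine hS1.trans (card_dvd_of_le (le_inf hSH ?_))
      rw [← mem_normalizer_iff_map_conj.1 hg.2]
      exact map_conj_mono hSH g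
    exact le_sup_left.trans hle
  obtain ⟨g, hg⟩ : ∃ g, g ∉ H := by
    by_contra h
    push Not at h
    exact hH.ne_top (eq_top_iff.2 fun g _ => h g)
  have hBle : B ≤ H ⊓ H.map (MulAut.conj g).toMonoidHom := by
    refine le_inf hBH ?_
    intro b hb
    rw [mem_map_conj]
    have := hB.conj_mem b hb g⁻¹
    simp only [inv_inv] at this
    exact hBH this
  obtain ⟨n, hn⟩ := IsPGroup.iff_card.1 hBp
  rcases Nat.eq_zero_or_pos n with h0 | h0
  · rw [h0, pow_zero] at hn
    exact Subgroup.card_eq_one.1 hn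
  · exfalso
    apply hH.not_dvd g hg
    refine dvd_trans ?_ (card_dvd_of_le hBle)
    rw [hn]
    exact dvd_pow_self p h0.ne'

/-- If a subgroup `A` of `N_G(X)`, `X` essential in `P`, is normalized by `N_G(X)` and all its elements of order
prime to `p` centralize `X`, then `A ∩ P ≤ X`. -/
theorem Ess.inf_le {P : Sylow p G} {X : Subgroup G} (h : Ess P X) {A : Subgroup G}
    (hA : A ≤ normalizer (X : Set G)) (hAN : normalizer (X : Set G) ≤ normalizer (A : Set G))
    (hcop : ∀ g ∈ A, Nat.Coprime (orderOf g) p → g ∈ centralizer (X : Set G)) : A ⊓ P ≤ X := by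
  set N : Subgroup G := normalizer (X : Set G) with hN
  obtain ⟨H, hH, -⟩ := h.exists_stronglyEmb
  set B : Subgroup (Out X) := (A.subgroupOf N).map (QuotientGroup.mk' _) with hB
  have hAn : (A.subgroupOf N).Normal := (normal_subgroupOf_iff_le_normalizer hA).2 hAN
  have hBn : B.Normal := Subgroup.Normal.map hAn _ (QuotientGroup.mk'_surjective _)
  have hBp : IsPGroup p B := by
    rintro ⟨y, hy⟩
    obtain ⟨⟨a, haN⟩, haA, rfl⟩ := hy
    have haA' : a ∈ A := haA
    obtain ⟨k, m, hm, hkm⟩ := Nat.exists_eq_pow_mul_and_not_dvd (orderOf_pos a).ne' p hp.out.one_lt.ne'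
    refine ⟨k, ?_⟩
    apply Subtype.ext
    change (QuotientGroup.mk (⟨a, haN⟩ : N) : Out X) ^ p ^ k = 1
    rw [← QuotientGroup.mk_pow, QuotientGroup.eq_one_iff, mem_subgroupOf]
    have hc : a ^ p ^ k ∈ centralizer (X : Set G) := by
      apply hcop _ (pow_mem haA' _)
      rw [orderOf_pow_of_dvd (pow_ne_zero _ hp.out.ne_zero) (by rw [hkm]; exact Dvd.intro _ rfl), hkm,
        Nat.mul_div_cancel_left _ (pow_pos hp.out.pos _)]
      exact ((Nat.Prime.coprime_iff_not_dvd hp.out).2 hm).symm
    exact centralizer_le_XC X hc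
  have hB1 : B = ⊥ := hH.eq_bot_of_normal hBn hBp
  intro a ha
  have h1 : toOut a (hA ha.1) ∈ B := ⟨⟨a, hA ha.1⟩, ha.1, rfl⟩
  rw [hB1, mem_bot, toOut_eq_one] at h1
  have h2 : a ∈ ((XC X : Subgroup G) : Set G) := h1
  rw [XC, coe_mul_of_right_le_normalizer_left _ _ (centralizer_le_normalizer _)] at h2
  obtain ⟨x, hx, c, hc, rfl⟩ := Set.mem_mul.1 h2
  have hcP : c ∈ (P : Subgroup G) := by
    have := mul_mem (inv_mem (h.lt.le hx)) ha.2
    simpa using this
  exact mul_mem hx (h.centric ⟨hc, hcP⟩)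

/-- **Chain lemma**: an element of `N_P(X)` stabilizing a chain of `N_G(X)`-invariant subgroups of the
essential subgroup `X` lies in `X`. -/
theorem Ess.mem_of_chain {P : Sylow p G} {X : Subgroup G} (h : Ess P X) (c : ℕ → Subgroup G) (n : ℕ)
    (h0 : c 0 = X) (hn : c n = ⊥) (hle : ∀ i, c (i + 1) ≤ c i)
    (hc : ∀ i, normalizer (X : Set G) ≤ normalizer (c i : Set G))
    {x : G} (hxP : x ∈ (P : Subgroup G)) (hxN : x ∈ normalizer (X : Set G))
    (hx : ∀ i, ∀ e ∈ c i, x * e * x⁻¹ * e⁻¹ ∈ c (i + 1)) : x ∈ X := by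
  set N : Subgroup G := normalizer (X : Set G) with hN
  have hcX : ∀ i, c i ≤ X := by
    intro i
    induction i with
    | zero => exact h0.le
    | succ i ih => exact (hle i).trans ih
  have hXN : X ≤ N := le_normalizer
  have conjc : ∀ {g e : G} {i : ℕ}, g ∈ N → e ∈ c i → g * e * g⁻¹ ∈ c i := by
    intro g e i hg he
    exact (mem_normalizer_iff.1 (hc i hg) e).1 he
  have prod : ∀ (i : ℕ) {g k : G}, g ∈ N → (∀ e ∈ c i, k * e * k⁻¹ * e⁻¹ ∈ c (i + 1)) →
      (∀ e ∈ c i, g * e * g⁻¹ * e⁻¹ ∈ c (i + 1)) → ∀ e ∈ c i, (g * k) * e * (g * k)⁻¹ * e⁻¹ ∈ c (i + 1) := by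
    intro i g k hg hk hg' e he
    have e1 : (g * k) * e * (g * k)⁻¹ * e⁻¹ = g * (k * e * k⁻¹ * e⁻¹) * g⁻¹ * (g * e * g⁻¹ * e⁻¹) := by group
    rw [e1]
    exact mul_mem (conjc hg (hk e he)) (hg' e he)
  let A : Subgroup G :=
    { carrier := {g : G | g ∈ N ∧ ∀ i, ∀ e ∈ c i, g * e * g⁻¹ * e⁻¹ ∈ c (i + 1)}
      one_mem' := ⟨one_mem _, fun i e _ => by simp⟩
      mul_mem' := by
        rintro a b ⟨ha, ha'⟩ ⟨hb, hb'⟩
        exact ⟨mul_mem ha hb, fun i => prod i ha (hb' i) (ha' i)⟩
      inv_mem' := by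
        rintro a ⟨ha, ha'⟩
        refine ⟨inv_mem ha, fun i e he => ?_⟩
        have h1 : a⁻¹ * e * a ∈ c i := by
          have := conjc (inv_mem ha) he
          simpa using this
        have h2 := ha' i _ h1
        -- `a⁻¹ e a e⁻¹ = ([a, a⁻¹ e a])⁻¹`
        have e1 : a⁻¹ * e * a⁻¹⁻¹ * e⁻¹ = (a * (a⁻¹ * e * a) * a⁻¹ * (a⁻¹ * e * a)⁻¹)⁻¹ := by group
        rw [e1]
        exact inv_mem h2 }
  have hAN : N ≤ normalizer (A : Set G) := by
    rw [le_normalizer_iff]
    rintro g hg a ⟨ha, ha'⟩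
    refine ⟨mul_mem (mul_mem hg ha) (inv_mem hg), fun i e he => ?_⟩
    have h1 : g⁻¹ * e * g ∈ c i := by
      have := conjc (inv_mem hg) he
      simpa using this
    have h2 := conjc hg (ha' i _ h1)
    have e1 : g * a * g⁻¹ * e * (g * a * g⁻¹)⁻¹ * e⁻¹ =
        g * (a * (g⁻¹ * e * g) * a⁻¹ * (g⁻¹ * e * g)⁻¹) * g⁻¹ := by group
    rw [e1]
    exact h2
  have hcop : ∀ g ∈ A, Nat.Coprime (orderOf g) p → g ∈ centralizer (X : Set G) := by
    rintro g ⟨hgN, hg⟩ ho
    -- `g` centralizes `c i` for all `i ≤ n`, by downward induction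
    have key : ∀ k i : ℕ, i + k = n → ∀ e ∈ c i, g * e * g⁻¹ = e := by
      intro k
      induction k with
      | zero =>
        intro i hi e he
        rw [add_zero] at hi
        rw [hi, hn, mem_bot] at he
        rw [he]; simp
      | succ k ih =>
        intro i hi e he
        set d := g * e * g⁻¹ * e⁻¹ with hd
        have hdc : d ∈ c (i + 1) := hg i e he
        have hgd : g * d * g⁻¹ = d := ih (i + 1) (by omega) d hdc
        have hge : g * e * g⁻¹ = d * e := by rw [hd]; group
        have hpow : ∀ m : ℕ, g ^ m * e * (g ^ m)⁻¹ = d ^ m * e := by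
          intro m
          induction m with
          | zero => simp
          | succ m ihm =>
            have hgd' : g * d ^ m * g⁻¹ = d ^ m := by
              rw [← conj_pow, hgd]
            calc g ^ (m + 1) * e * (g ^ (m + 1))⁻¹ = g * (g ^ m * e * (g ^ m)⁻¹) * g⁻¹ := by
                  rw [pow_succ']; group
              _ = g * (d ^ m * e) * g⁻¹ := by rw [ihm]
              _ = (g * d ^ m * g⁻¹) * (g * e * g⁻¹) := by group
              _ = d ^ m * (d * e) := by rw [hgd', hge]
              _ = d ^ (m + 1) * e := by rw [pow_succ]; group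
        have h1 := hpow (orderOf g)
        rw [pow_orderOf_eq_one] at h1
        have h2 : d ^ orderOf g = 1 := by
          have h5 : e = d ^ orderOf g * e := by simpa using h1
          have h6 : e * e⁻¹ = d ^ orderOf g * e * e⁻¹ := congrArg (· * e⁻¹) h5
          simpa using h6.symm
        have hdP : d ∈ (P : Subgroup G) := h.lt.le (hcX _ hdc)
        obtain ⟨j, hj⟩ := P.isPGroup' ⟨d, hdP⟩
        have hj' : d ^ p ^ j = 1 := by simpa using congrArg Subtype.val hj
        have h3 : orderOf d ∣ Nat.gcd (orderOf g) (p ^ j) :=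
          Nat.dvd_gcd (orderOf_dvd_of_pow_eq_one h2) (orderOf_dvd_of_pow_eq_one hj')
        rw [Nat.Coprime.pow_right j ho, Nat.dvd_one, orderOf_eq_one_iff] at h3
        rw [hge, h3, one_mul]
    rw [mem_centralizer_iff]
    intro e he
    have h1 := key n 0 (by omega) e (by rw [h0]; exact he)
    calc e * g = (g * e * g⁻¹) * g := by rw [h1]
      _ = g * e := by group
  have hAN' : A ≤ N := by
    rintro a ⟨ha, -⟩
    exact ha
  have hxA : x ∈ A := ⟨hxN, hx⟩
  exact h.inf_le hAN' hAN hcop ⟨hxA, hxP⟩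

end Finite

end Cfsg.Agent.Lib.EssentialFusion
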