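import Mathlib
set_option linter.all false

/-!
# Counting with finite group actions
-/

set_option autoImplicit false

namespace Cfsg.Agent.Lib.ActCount

/-- If all stabilizers of a finite action have the same order `c` then `c * |Y|` is a multiple
of the group order. -/
theorem exists_card_mul {H Y : Type*} [Group H] [MulAction H Y] [Finite H] [Finite Y] (c : ℕ)
    (hc : ∀ y : Y, Nat.card (MulAction.stabilizer H y) = c) :
    ∃ m, c * Nat.card Y = m * Nat.card H := by
  classical
  have := Fintype.ofFinite H
  have := Fintype.ofFinite Y
  refine ⟨Nat.card (Quotient (MulAction.orbitRel H Y)), ?_⟩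
  have : Finite (Quotient (MulAction.orbitRel H Y)) := Quotient.finite _
  have := Fintype.ofFinite (Quotient (MulAction.orbitRel H Y))
  rw [Nat.card_congr (MulAction.selfEquivSigmaOrbitsQuotientStabilizer H Y), Nat.card_sigma,
    Finset.mul_sum]
  rw [Finset.sum_congr rfl (g := fun _ => Nat.card H)]
  · rw [Finset.sum_const, Finset.card_univ, smul_eq_mul, ← Nat.card_eq_fintype_card]
  · intro ω _
    rw [← hc ω.out]
    exact Subgroup.card_mul_index _

/-- Orbit-stabilizer with `ncard`. -/
theorem ncard_orbit_mul {H Y : Type*} [Group H] [MulAction H Y] (y : Y) :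
    (MulAction.orbit H y).ncard * Nat.card (MulAction.stabilizer H y) = Nat.card H := by
  rw [← MulAction.index_stabilizer, mul_comm]
  exact Subgroup.card_mul_index _

end Cfsg.Agent.Lib.ActCount
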