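import Mathlib
set_option linter.all false

set_option autoImplicit false

namespace Cfsg.Agent.Lib.PSL2Recog

open OnePoint Matrix

section Kernel

variable {F : Type*} [Field F] [DecidableEq F]

theorem fix_all_of_three (A : SpecialLinearGroup (Fin 2) F)
    (hi : A.toGL • (∞ : OnePoint F) = ∞) (h0 : A.toGL • ((0 : F) : OnePoint F) = ((0 : F) : OnePoint F))
    (h1 : A.toGL • ((1 : F) : OnePoint F) = ((1 : F) : OnePoint F)) :
    ∃ r : F, r ^ 2 = 1 ∧ A.1 = Matrix.scalar (Fin 2) r := by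
  have hdet : A.1 0 0 * A.1 1 1 - A.1 0 1 * A.1 1 0 = 1 := by
    have := A.2
    rwa [Matrix.det_fin_two] at this
  rw [smul_infty_eq_self_iff] at hi
  have hc : A.1 1 0 = 0 := hi
  rw [hc, mul_zero, sub_zero] at hdet
  have hd0 : A.1 1 1 ≠ 0 := fun h => by rw [h, mul_zero] at hdet; exact zero_ne_one hdet
  rw [smul_some_eq_ite] at h0 h1
  have e00 : (A.toGL : Matrix (Fin 2) (Fin 2) F) 0 0 = A.1 0 0 := rfl
  have e01 : (A.toGL : Matrix (Fin 2) (Fin 2) F) 0 1 = A.1 0 1 := rfl
  have e10 : (A.toGL : Matrix (Fin 2) (Fin 2) F) 1 0 = A.1 1 0 := rfl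
  have e11 : (A.toGL : Matrix (Fin 2) (Fin 2) F) 1 1 = A.1 1 1 := rfl
  rw [e00, e01, e10, e11, hc] at h0 h1
  simp only [zero_add, mul_zero, mul_one, if_neg hd0, OnePoint.coe_eq_coe] at h0 h1
  have hb : A.1 0 1 = 0 := by
    rcases div_eq_zero_iff.1 h0 with h | h
    · exact h
    · exact absurd h hd0
  rw [hb, add_zero, div_eq_one_iff_eq hd0] at h1
  refine ⟨A.1 0 0, ?_, ?_⟩
  · rw [pow_two]
    nth_rewrite 2 [h1]
    exact hdet
  · ext i j
    fin_cases i <;> fin_cases j
    · simp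
    · simpa using hb
    · simpa using hc
    · simpa using h1.symm

theorem scalar_smul (A : SpecialLinearGroup (Fin 2) F) (r : F)
    (hA : A.1 = Matrix.scalar (Fin 2) r) (x : OnePoint F) : A.toGL • x = x := by
  have hdet : A.1 0 0 * A.1 1 1 - A.1 0 1 * A.1 1 0 = 1 := by
    have := A.2
    rwa [Matrix.det_fin_two] at this
  have e00 : (A.toGL : Matrix (Fin 2) (Fin 2) F) 0 0 = r := by
    change A.1 0 0 = r; rw [hA]; simp
  have e01 : (A.toGL : Matrix (Fin 2) (Fin 2) F) 0 1 = 0 := by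
    change A.1 0 1 = 0; rw [hA]; simp
  have e10 : (A.toGL : Matrix (Fin 2) (Fin 2) F) 1 0 = 0 := by
    change A.1 1 0 = 0; rw [hA]; simp
  have e11 : (A.toGL : Matrix (Fin 2) (Fin 2) F) 1 1 = r := by
    change A.1 1 1 = r; rw [hA]; simp
  have hr : r ≠ 0 := by
    rintro rfl
    rw [hA] at hdet
    simp at hdet
  induction x using OnePoint.rec with
  | infty => rw [smul_infty_eq_self_iff]; exact e10
  | coe a =>
    rw [smul_some_eq_ite, e00, e01, e10, e11]
    simp only [zero_mul, zero_add, add_zero, if_neg hr]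
    rw [mul_div_cancel_left₀ a hr]

/-- The action of `SL (2, F)` on the projective line. -/
noncomputable def slHom (F : Type*) [Field F] [DecidableEq F] :
    SpecialLinearGroup (Fin 2) F →* Equiv.Perm (OnePoint F) :=
  (MulAction.toPermHom (GL (Fin 2) F) (OnePoint F)).comp SpecialLinearGroup.toGL

theorem slHom_apply (A : SpecialLinearGroup (Fin 2) F) (x : OnePoint F) :
    slHom F A x = A.toGL • x := rfl

theorem ker_slHom : (slHom F).ker = Subgroup.center (SpecialLinearGroup (Fin 2) F) := by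
  ext A
  rw [MonoidHom.mem_ker, Matrix.SpecialLinearGroup.mem_center_iff]
  constructor
  · intro h
    have hx : ∀ x : OnePoint F, A.toGL • x = x := fun x => by
      rw [← slHom_apply, h]; rfl
    obtain ⟨r, hr, hA⟩ := fix_all_of_three A (hx _) (hx _) (hx _)
    exact ⟨r, by simpa using hr, hA.symm⟩
  · rintro ⟨r, -, hA⟩
    ext x
    rw [slHom_apply, scalar_smul A r hA.symm]
    rfl

/-- A group acting on the projective line with the same permutations as `SL (2, F)`. -/
theorem nonempty_mulEquiv_psl {G Ω : Type*} [Group G] [MulAction G Ω] [FaithfulSMul G Ω]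
    (e : Ω ≃ OnePoint F)
    (h1 : ∀ g : G, ∃ A : SpecialLinearGroup (Fin 2) F, ∀ x, e (g • x) = A.toGL • e x)
    (h2 : ∀ A : SpecialLinearGroup (Fin 2) F, ∃ g : G, ∀ x, e (g • x) = A.toGL • e x) :
    Nonempty (G ≃* Matrix.ProjectiveSpecialLinearGroup (Fin 2) F) := by
  let θ : G →* Equiv.Perm (OnePoint F) :=
    e.permCongrHom.toMonoidHom.comp (MulAction.toPermHom G Ω)
  have hθ : ∀ g x, θ g (e x) = e (g • x) := by
    intro g x
    change e (g • e.symm (e x)) = e (g • x)
    rw [e.symm_apply_apply]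
  have hinj : Function.Injective θ := by
    intro g g' hgg
    apply FaithfulSMul.eq_of_smul_eq_smul (α := Ω)
    intro x
    apply e.injective
    rw [← hθ, ← hθ, hgg]
  have hrange : θ.range = (slHom F).range := by
    ext σ
    constructor
    · rintro ⟨g, rfl⟩
      obtain ⟨A, hA⟩ := h1 g
      refine ⟨A, ?_⟩
      ext y
      obtain ⟨x, rfl⟩ := e.surjective y
      rw [slHom_apply, hθ, hA]
    · rintro ⟨A, rfl⟩
      obtain ⟨g, hg⟩ := h2 A
      refine ⟨g, ?_⟩
      ext y
      obtain ⟨x, rfl⟩ := e.surjective y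
      rw [slHom_apply, hθ, hg]
  exact ⟨(MonoidHom.ofInjective hinj).trans ((MulEquiv.subgroupCongr hrange).trans
    ((QuotientGroup.quotientKerEquivRange (slHom F)).symm.trans
      (QuotientGroup.quotientMulEquivOfEq ker_slHom)))⟩

end Kernel

section FieldConstruction

/-- A finite commutative group `V` (written additively) with a commuting family of additive
endomorphisms which is transitive on non-zero vectors is the additive group of a field, on which
the endomorphisms act by multiplication. -/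
theorem exists_field_type {V : Type*} [AddCommGroup V] [Finite V] {ι : Type*}
    (m : ι → (V →+ V)) (hcomm : ∀ i j v, m i (m j v) = m j (m i v)) (e : V) (he : e ≠ 0)
    (htrans : ∀ v : V, v ≠ 0 → ∃ i, m i e = v) (hinj : ∀ i v, m i v = 0 → v = 0) :
    ∃ (F : Type) (_ : Field F) (_ : Fintype F) (φ : F ≃+ V), φ 1 = e ∧
      ∀ i, ∀ a : F, m i (φ a) = φ (φ.symm (m i e) * a) := by
  classical
  -- the multiplication operators: `L x e = x`, additive in the argument
  have hL : ∀ x : V, ∃ f : V →+ V, f e = x ∧ (∀ i v, f (m i v) = m i (f v)) := by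
    intro x
    by_cases hx : x = 0
    · exact ⟨0, by simp [hx], by simp⟩
    · obtain ⟨i, hi⟩ := htrans x hx
      exact ⟨m i, hi, fun j v => hcomm i j v⟩
  choose L hLe hLm using hL
  -- uniqueness: an operator commuting with all `m i` is determined by the value at `e`
  have huniq : ∀ f g : V →+ V, (∀ i v, f (m i v) = m i (f v)) → (∀ i v, g (m i v) = m i (g v)) →
      f e = g e → f = g := by
    intro f g hf hg hfg
    ext v
    by_cases hv : v = 0
    · simp [hv]
    · obtain ⟨i, rfl⟩ := htrans v hv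
      rw [hf, hg, hfg]
  have hLadd : ∀ x y, L (x + y) = L x + L y := by
    intro x y
    apply huniq _ _ (hLm _)
    · intro i v; simp [hLm]
    · simp [hLe]
  have hLcomp : ∀ x y, L (L x y) = (L x).comp (L y) := by
    intro x y
    apply huniq _ _ (hLm _)
    · intro i v; simp [hLm]
    · simp [hLe]
  have hm : ∀ i, m i = L (m i e) := by
    intro i
    apply huniq _ _ _ (hLm _)
    · rw [hLe]
    · intro j v; exact hcomm i j v
  have hLcomm : ∀ x y, L x y = L y x := by
    intro x y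
    by_cases hx : x = 0
    · subst hx
      have : L 0 = 0 := by
        have := hLadd 0 0
        rw [add_zero] at this
        exact left_eq_add.mp this
      rw [this]; simp
    · obtain ⟨i, rfl⟩ := htrans x hx
      rw [← hm, hLm, hLe]
  have hLcommute : ∀ x y v, L x (L y v) = L y (L x v) := by
    intro x y v
    have h1 := hLcomp x y
    have h2 := hLcomp y x
    rw [hLcomm] at h1
    rw [h1] at h2
    exact DFunLike.congr_fun h2 v
  -- ring structure
  let R : CommRing V := 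
    { (inferInstance : AddCommGroup V) with
      mul := fun x y => L x y
      one := e
      left_distrib := fun x y z => map_add (L x) y z
      right_distrib := fun x y z => by
        change L (x + y) z = L x z + L y z
        rw [hLadd]; rfl
      zero_mul := fun x => by
        change L 0 x = 0
        rw [hLcomm]; simp
      mul_zero := fun x => map_zero (L x)
      mul_assoc := fun x y z => by
        change L (L x y) z = L x (L y z)
        rw [hLcomp]; rfl
      one_mul := fun x => by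
        change L e x = x
        rw [hLcomm, hLe]
      mul_one := fun x => hLe x
      mul_comm := fun x y => hLcomm x y }
  have hmul : ∀ x y : V, R.mul x y = L x y := fun _ _ => rfl
  have hfield : @IsField V R.toSemiring := by
    refine @IsField.mk V R.toSemiring ⟨0, e, he.symm⟩ (fun x y => hLcomm x y) ?_
    intro a ha
    -- `L a` is surjective
    have hi : Function.Injective (L a) := by
      rw [injective_iff_map_eq_zero]
      intro v hv
      obtain ⟨i, hi⟩ := htrans a ha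
      rw [← hi, ← hm] at hv
      exact hinj i v hv
    obtain ⟨b, hb⟩ := (Finite.injective_iff_surjective.1 hi) e
    exact ⟨b, hb⟩
  let K : Field V := @IsField.toField V R.toRing hfield
  have hKadd : ∀ x y : V, K.add x y = x + y := fun _ _ => rfl
  have hKmul : ∀ x y : V, K.mul x y = L x y := fun _ _ => rfl
  have hKone : K.one = e := rfl
  obtain ⟨F, ⟨ψ⟩⟩ : ∃ F : Type, Nonempty (F ≃ V) :=
    ⟨Fin (Nat.card V), ⟨(Finite.equivFin V).symm⟩⟩
  have : Finite F := Finite.of_equiv V ψ.symm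
  let fF : Field F := @Equiv.field F V ψ K
  have hadd : ∀ a b : F, ψ (a + b) = ψ a + ψ b := fun a b => ψ.apply_symm_apply _
  have hmulF : ∀ a b : F, ψ (a * b) = L (ψ a) (ψ b) := fun a b => ψ.apply_symm_apply _
  have honeF : ψ 1 = e := ψ.apply_symm_apply _
  refine ⟨F, fF, Fintype.ofFinite F, { ψ with map_add' := hadd }, honeF, ?_⟩
  intro i a
  change m i (ψ a) = ψ (ψ.symm (m i e) * a)
  rw [hmulF, ψ.apply_symm_apply, ← hm]

end FieldConstruction

section Coordinates

/-- Coordinates for a permutation group with an abelian subgroup `T` fixing `i`, regular on the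
remaining points, and abelian two-point stabiliser `G_{i,o}` transitive on the remaining points. -/
theorem exists_coords {G X : Type*} [Group G] [MulAction G X] (i o e : X)
    (hie : i ≠ e) (hoe : o ≠ e) (T : Subgroup G) [Finite T]
    (hTi : ∀ u ∈ T, u • i = i)
    (hTc : ∀ u ∈ T, ∀ v ∈ T, u * v = v * u)
    (hTr : ∀ x, x ≠ i → ∃! u, u ∈ T ∧ u • o = x) (hio : o ≠ i)
    (hTn : ∀ g : G, g • i = i → g • o = o → ∀ u ∈ T, g * u * g⁻¹ ∈ T)
    (hDc : ∀ c d : G, c • i = i → c • o = o → d • i = i → d • o = o → c * d = d * c)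
    (hDr : ∀ x, x ≠ i → x ≠ o → ∃ d : G, d • i = i ∧ d • o = o ∧ d • e = x) :
    ∃ (F : Type) (_ : Field F) (_ : Fintype F) (φ : F → G), Fintype.card F = Nat.card T ∧
      Function.Injective φ ∧ (∀ u, u ∈ T ↔ ∃ a, φ a = u) ∧ (∀ a b, φ (a + b) = φ a * φ b) ∧
      φ 1 • o = e ∧ ∀ d : G, d • i = i → d • o = o →
        ∃ c : F, c ≠ 0 ∧ d • e = φ c • o ∧ ∀ a, d * φ a * d⁻¹ = φ (c * a) := by
  classical
  let cT : CommGroup T :=
    { (inferInstance : Group T) with mul_comm := fun a b => Subtype.ext (hTc _ a.2 _ b.2) }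
  have huniq : ∀ u ∈ T, ∀ v ∈ T, u • o = v • o → u = v := by
    intro u hu v hv huv
    have hne : u • o ≠ i := fun h => hio (smul_left_cancel u (h.trans (hTi u hu).symm))
    obtain ⟨w, -, hw⟩ := hTr (u • o) hne
    rw [hw u ⟨hu, rfl⟩, hw v ⟨hv, huv.symm⟩]
  obtain ⟨u₁, ⟨hu₁, hu₁e⟩, -⟩ := hTr e hie.symm
  let ι := {d : G // d • i = i ∧ d • o = o}
  let m : ι → (Additive T →+ Additive T) := fun d =>
    { toFun := fun v => Additive.ofMul ⟨d.1 * v.toMul.1 * d.1⁻¹, hTn d.1 d.2.1 d.2.2 _ v.toMul.2⟩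
      map_zero' := by
        apply congrArg Additive.ofMul
        apply Subtype.ext
        change d.1 * 1 * d.1⁻¹ = 1
        simp
      map_add' := fun v w => by
        apply congrArg Additive.ofMul
        apply Subtype.ext
        change d.1 * (v.toMul.1 * w.toMul.1) * d.1⁻¹ =
          (d.1 * v.toMul.1 * d.1⁻¹) * (d.1 * w.toMul.1 * d.1⁻¹)
        group }
  have hm : ∀ (d : ι) (v : Additive T), ((m d v).toMul : G) = d.1 * v.toMul.1 * d.1⁻¹ :=
    fun _ _ => rfl
  have hext : ∀ v w : Additive T, (v.toMul : G) = w.toMul → v = w := by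
    intro v w h
    have : v.toMul = w.toMul := Subtype.ext h
    exact Additive.toMul.injective this
  obtain ⟨F, fF, ftF, φ, hφ1, hφ⟩ := exists_field_type (V := Additive T) m
    (fun c d v => hext _ _ (by
      rw [hm, hm, hm, hm]
      have := hDc c.1 d.1 c.2.1 c.2.2 d.2.1 d.2.2
      have e1 : c.1 * (d.1 * v.toMul.1 * d.1⁻¹) * c.1⁻¹ =
        (c.1 * d.1) * v.toMul.1 * (c.1 * d.1)⁻¹ := by group
      rw [e1, this]
      group)) (Additive.ofMul ⟨u₁, hu₁⟩)
    (fun h0 => by
      have h1 : u₁ = 1 := congrArg (fun v : Additive T => (v.toMul : G)) h0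
      rw [h1, one_smul] at hu₁e
      exact hoe hu₁e)
    (fun v hv => by
      have hv1 : v.toMul.1 ≠ 1 := fun h => hv (hext _ _ h)
      have h1 : v.toMul.1 • o ≠ i := fun h =>
        hio (smul_left_cancel v.toMul.1 (h.trans (hTi v.toMul.1 v.toMul.2).symm))
      have h2 : v.toMul.1 • o ≠ o := fun h => hv1 (huniq _ v.toMul.2 1 T.one_mem (by
        rw [h, one_smul]))
      obtain ⟨d, hdi, hdo, hde⟩ := hDr _ h1 h2
      refine ⟨⟨d, hdi, hdo⟩, hext _ _ ?_⟩
      rw [hm]
      apply huniq _ (hTn d hdi hdo _ hu₁) _ v.toMul.2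
      rw [mul_smul, mul_smul, show d⁻¹ • o = o from by rw [inv_smul_eq_iff, hdo]]
      rw [hu₁e, hde])
    (fun d v hv => by
      apply hext
      have h1 : d.1 * v.toMul.1 * d.1⁻¹ = 1 := by
        rw [← hm, hv]; rfl
      have h2 : v.toMul.1 = d.1⁻¹ * (d.1 * v.toMul.1 * d.1⁻¹) * d.1 := by group
      rw [h2, h1]; simp)
  refine ⟨F, fF, ftF, fun a => ((φ a).toMul : G), ?_, ?_, ?_, ?_, ?_, ?_⟩
  · rw [← Nat.card_eq_fintype_card]
    exact Nat.card_congr (φ.toEquiv.trans Additive.toMul)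
  · intro a b hab
    exact φ.injective (hext _ _ hab)
  · intro u
    constructor
    · intro hu
      obtain ⟨a, ha⟩ := φ.surjective (Additive.ofMul ⟨u, hu⟩)
      refine ⟨a, ?_⟩
      change ((φ a).toMul : G) = u
      rw [ha]
      rfl
    · rintro ⟨a, rfl⟩
      exact (φ a).toMul.2
  · intro a b
    change ((φ (a + b)).toMul : G) = _
    rw [map_add]
    rfl
  · change ((φ 1).toMul : G) • o = e
    rw [hφ1]
    exact hu₁e
  · intro d hdi hdo
    have key := hφ ⟨d, hdi, hdo⟩
    have h1 := hm ⟨d, hdi, hdo⟩ (Additive.ofMul ⟨u₁, hu₁⟩)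
    refine ⟨φ.symm (m ⟨d, hdi, hdo⟩ (Additive.ofMul ⟨u₁, hu₁⟩)), ?_, ?_, ?_⟩
    · intro h0
      rw [map_eq_zero_iff _ φ.symm.injective] at h0
      rw [h0] at h1
      change (1 : G) = d * u₁ * d⁻¹ at h1
      have h2 : u₁ = 1 := by
        have : u₁ = d⁻¹ * (d * u₁ * d⁻¹) * d := by group
        rw [this, ← h1]; simp
      rw [h2, one_smul] at hu₁e
      exact hoe hu₁e
    · change d • e = ((φ (φ.symm (m ⟨d, hdi, hdo⟩ (Additive.ofMul ⟨u₁, hu₁⟩)))).toMul : G) • o
      rw [φ.apply_symm_apply, h1]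
      change d • e = (d * u₁ * d⁻¹) • o
      rw [mul_smul, mul_smul, show d⁻¹ • o = o from by rw [inv_smul_eq_iff, hdo], hu₁e]
    · intro a
      have h2 := hm ⟨d, hdi, hdo⟩ (φ a)
      rw [key a] at h2
      exact h2.symm

end Coordinates

section Recognition

/-- Recognition of `PSL (2, F)`, `F` of characteristic two, as a sharply 3-transitive group. -/
theorem recog_even {G X : Type*} [Group G] [MulAction G X] (i o e : X)
    (hio : o ≠ i) (hie : i ≠ e) (hoe : o ≠ e) (T : Subgroup G) [Finite T]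
    (hTi : ∀ u ∈ T, u • i = i) (hT2 : ∀ u ∈ T, u * u = 1)
    (hTr : ∀ x, x ≠ i → ∃! u, u ∈ T ∧ u • o = x)
    (hTn : ∀ g : G, g • i = i → g • o = o → ∀ u ∈ T, g * u * g⁻¹ ∈ T)
    (hDr : ∀ x, x ≠ i → x ≠ o → ∃ d : G, d • i = i ∧ d • o = o ∧ d • e = x)
    (h3 : ∀ g : G, g • i = i → g • o = o → g • e = e → g = 1)
    (t : G) (hti : t • i = o) (hto : t • o = i) (hte : t • e = e)
    (htD : ∀ d : G, d • i = i → d • o = o → t * d * t⁻¹ = d⁻¹) :
    ∃ (F : Type) (_ : Field F) (_ : Fintype F), Fintype.card F = Nat.card T ∧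
      Nonempty (G ≃* Matrix.ProjectiveSpecialLinearGroup (Fin 2) F) := by
  classical
  have hTc : ∀ u ∈ T, ∀ v ∈ T, u * v = v * u := by
    intro u hu v hv
    have h1 := hT2 _ (T.mul_mem hu hv)
    have h2 : (u * v)⁻¹ = u * v := inv_eq_of_mul_eq_one_right h1
    rw [← h2, _root_.mul_inv_rev, inv_eq_of_mul_eq_one_right (hT2 u hu),
      inv_eq_of_mul_eq_one_right (hT2 v hv)]
  have hDc : ∀ c d : G, c • i = i → c • o = o → d • i = i → d • o = o → c * d = d * c := by
    intro c d hc1 hc2 hd1 hd2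
    have h1 := htD c hc1 hc2
    have h2 := htD d hd1 hd2
    have h3 := htD (c * d) (by rw [mul_smul, hd1, hc1]) (by rw [mul_smul, hd2, hc2])
    have h4 : t * (c * d) * t⁻¹ = (t * c * t⁻¹) * (t * d * t⁻¹) := by group
    rw [h1, h2, h3, ← _root_.mul_inv_rev] at h4
    exact inv_injective h4
  obtain ⟨F, fF, ftF, φ, hcard, hinj, hmemT, hadd, h1e, hD⟩ :=
    exists_coords i o e hie hoe T hTi hTc hTr hio hTn hDc hDr
  refine ⟨F, fF, ftF, hcard, ?_⟩
  have hφT : ∀ a, φ a ∈ T := fun a => (hmemT _).2 ⟨a, rfl⟩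
  have hφ0 : φ 0 = 1 := by
    have := hadd 0 0
    rw [add_zero] at this
    exact left_eq_mul.1 this
  have htwo : (1 : F) + 1 = 0 := hinj (by rw [hadd, hT2 _ (hφT 1), hφ0])
  have hneg : ∀ a : F, -a = a := by
    intro a
    rw [neg_eq_iff_add_eq_zero]
    calc a + a = a * (1 + 1) := by ring
      _ = 0 := by rw [htwo, mul_zero]
  -- the points
  let ψ : OnePoint F → X := fun y => y.elim i (fun a => φ a • o)
  have hψi : ψ ∞ = i := rfl
  have hψc : ∀ a : F, ψ (a : OnePoint F) = φ a • o := fun _ => rfl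
  have hne : ∀ a : F, φ a • o ≠ i := fun a h =>
    hio (smul_left_cancel (φ a) (h.trans (hTi _ (hφT a)).symm))
  have huniq : ∀ a b : F, φ a • o = φ b • o → a = b := by
    intro a b hab
    obtain ⟨w, -, hw⟩ := hTr (φ a • o) (hne a)
    apply hinj
    rw [hw _ ⟨hφT a, rfl⟩, hw _ ⟨hφT b, hab.symm⟩]
  have hψ : Function.Bijective ψ := by
    constructor
    · intro x y hxy
      induction x using OnePoint.rec with
      | infty =>
        induction y using OnePoint.rec with
        | infty => rfl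
        | coe b => exact absurd hxy.symm (hne b)
      | coe a =>
        induction y using OnePoint.rec with
        | infty => exact absurd hxy (hne a)
        | coe b => rw [huniq a b hxy]
    · intro x
      by_cases hx : x = i
      · exact ⟨∞, hx.symm⟩
      · obtain ⟨u, ⟨hu, hux⟩, -⟩ := hTr x hx
        obtain ⟨a, rfl⟩ := (hmemT u).1 hu
        exact ⟨(a : OnePoint F), hux⟩
  -- elements represented by matrices
  let rep : G → SpecialLinearGroup (Fin 2) F → Prop :=
    fun g A => ∀ y : OnePoint F, g • ψ y = ψ (A.toGL • y)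
  have rep_mul : ∀ g h A B, rep g A → rep h B → rep (g * h) (A * B) := by
    intro g h A B hg hh y
    rw [mul_smul, hh, hg, map_mul, mul_smul]
  have rep_inv : ∀ g A, rep g A → rep g⁻¹ A⁻¹ := by
    intro g A hg y
    rw [inv_smul_eq_iff, hg, map_inv, smul_inv_smul]
  have rep_T : ∀ b : F, ∃ A, rep (φ b) A := by
    intro b
    have hdet : Matrix.det !![1, b; 0, 1] = 1 := by simp [Matrix.det_fin_two]
    refine ⟨⟨!![1, b; 0, 1], hdet⟩, ?_⟩
    intro y
    induction y using OnePoint.rec with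
    | infty =>
      have : (Matrix.SpecialLinearGroup.toGL
        (⟨!![1, b; 0, 1], hdet⟩ : SpecialLinearGroup (Fin 2) F)) •
          (∞ : OnePoint F) = ∞ := by
        rw [smul_infty_eq_self_iff]; rfl
      rw [this, hψi, hTi _ (hφT b)]
    | coe a =>
      have : (Matrix.SpecialLinearGroup.toGL
        (⟨!![1, b; 0, 1], hdet⟩ : SpecialLinearGroup (Fin 2) F)) •
          (a : OnePoint F) = ((b + a : F) : OnePoint F) := by
        rw [smul_some_eq_ite]
        have e00 : (Matrix.SpecialLinearGroup.toGL (⟨!![1, b; 0, 1], hdet⟩ :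
          SpecialLinearGroup (Fin 2) F) : Matrix (Fin 2) (Fin 2) F) 0 0 = 1 := rfl
        have e01 : (Matrix.SpecialLinearGroup.toGL (⟨!![1, b; 0, 1], hdet⟩ :
          SpecialLinearGroup (Fin 2) F) : Matrix (Fin 2) (Fin 2) F) 0 1 = b := rfl
        have e10 : (Matrix.SpecialLinearGroup.toGL (⟨!![1, b; 0, 1], hdet⟩ :
          SpecialLinearGroup (Fin 2) F) : Matrix (Fin 2) (Fin 2) F) 1 0 = 0 := rfl
        have e11 : (Matrix.SpecialLinearGroup.toGL (⟨!![1, b; 0, 1], hdet⟩ :
          SpecialLinearGroup (Fin 2) F) : Matrix (Fin 2) (Fin 2) F) 1 1 = 1 := rfl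
        rw [e00, e01, e10, e11, zero_mul, zero_add, if_neg one_ne_zero, one_mul, div_one,
          add_comm a b]
      rw [this, hψc, hψc, hadd, mul_smul]
  have actD : ∀ d : G, d • i = i → d • o = o → ∀ c : F,
      (∀ a, d * φ a * d⁻¹ = φ (c * a)) → ∀ a : F, d • ψ (a : OnePoint F) =
        ψ ((c * a : F) : OnePoint F) := by
    intro d hdi hdo c hc a
    rw [hψc, hψc, ← hc, mul_smul, mul_smul, show d⁻¹ • o = o from by rw [inv_smul_eq_iff, hdo]]
  have rep_D : ∀ d : G, d • i = i → d • o = o → ∃ A, rep d A := by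
    intro d hdi hdo
    obtain ⟨c, hc0, -, hc⟩ := hD d hdi hdo
    have hchar : ringChar F = 2 := by
      have h2 : ringChar F ∣ 2 := by
        rw [← ringChar.spec]
        push_cast
        rw [← one_add_one_eq_two]
        exact htwo
      rcases (Nat.dvd_prime Nat.prime_two).1 h2 with h | h
      · exact absurd h (CharP.ringChar_ne_one)
      · exact h
    obtain ⟨s, hs⟩ := FiniteField.isSquare_of_char_two hchar c
    have hs0 : s ≠ 0 := by rintro rfl; exact hc0 (by rw [hs, mul_zero])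
    have hdet : Matrix.det !![s, 0; 0, s⁻¹] = 1 := by
      simp [Matrix.det_fin_two, hs0]
    refine ⟨⟨!![s, 0; 0, s⁻¹], hdet⟩, ?_⟩
    intro y
    induction y using OnePoint.rec with
    | infty =>
      have : (Matrix.SpecialLinearGroup.toGL
        (⟨!![s, 0; 0, s⁻¹], hdet⟩ : SpecialLinearGroup (Fin 2) F)) •
          (∞ : OnePoint F) = ∞ := by
        rw [smul_infty_eq_self_iff]; rfl
      rw [this, hψi, hdi]
    | coe a =>
      have : (Matrix.SpecialLinearGroup.toGL
        (⟨!![s, 0; 0, s⁻¹], hdet⟩ : SpecialLinearGroup (Fin 2) F)) •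
          (a : OnePoint F) = ((c * a : F) : OnePoint F) := by
        rw [smul_some_eq_ite]
        have e00 : (Matrix.SpecialLinearGroup.toGL (⟨!![s, 0; 0, s⁻¹], hdet⟩ :
          SpecialLinearGroup (Fin 2) F) : Matrix (Fin 2) (Fin 2) F) 0 0 = s := rfl
        have e01 : (Matrix.SpecialLinearGroup.toGL (⟨!![s, 0; 0, s⁻¹], hdet⟩ :
          SpecialLinearGroup (Fin 2) F) : Matrix (Fin 2) (Fin 2) F) 0 1 = 0 := rfl
        have e10 : (Matrix.SpecialLinearGroup.toGL (⟨!![s, 0; 0, s⁻¹], hdet⟩ :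
          SpecialLinearGroup (Fin 2) F) : Matrix (Fin 2) (Fin 2) F) 1 0 = 0 := rfl
        have e11 : (Matrix.SpecialLinearGroup.toGL (⟨!![s, 0; 0, s⁻¹], hdet⟩ :
          SpecialLinearGroup (Fin 2) F) : Matrix (Fin 2) (Fin 2) F) 1 1 = s⁻¹ := rfl
        rw [e00, e01, e10, e11]
        simp only [zero_mul, zero_add, add_zero, if_neg (inv_ne_zero hs0), div_inv_eq_mul, hs]
        congr 1
        ring
      rw [this, actD d hdi hdo c hc]
  have rep_t : ∃ A, rep t A := by
    have hdet : Matrix.det !![(0 : F), 1; 1, 0] = 1 := by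
      simp [Matrix.det_fin_two, hneg]
    refine ⟨⟨!![0, 1; 1, 0], hdet⟩, ?_⟩
    intro y
    have e00 : (Matrix.SpecialLinearGroup.toGL (⟨!![0, 1; 1, 0], hdet⟩ :
      SpecialLinearGroup (Fin 2) F) : Matrix (Fin 2) (Fin 2) F) 0 0 = 0 := rfl
    have e01 : (Matrix.SpecialLinearGroup.toGL (⟨!![0, 1; 1, 0], hdet⟩ :
      SpecialLinearGroup (Fin 2) F) : Matrix (Fin 2) (Fin 2) F) 0 1 = 1 := rfl
    have e10 : (Matrix.SpecialLinearGroup.toGL (⟨!![0, 1; 1, 0], hdet⟩ :
      SpecialLinearGroup (Fin 2) F) : Matrix (Fin 2) (Fin 2) F) 1 0 = 1 := rfl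
    have e11 : (Matrix.SpecialLinearGroup.toGL (⟨!![0, 1; 1, 0], hdet⟩ :
      SpecialLinearGroup (Fin 2) F) : Matrix (Fin 2) (Fin 2) F) 1 1 = 0 := rfl
    have hψ0 : ψ ((0 : F) : OnePoint F) = o := by rw [hψc, hφ0, one_smul]
    induction y using OnePoint.rec with
    | infty =>
      rw [smul_infty_eq_ite, e00, e10, if_neg one_ne_zero, zero_div, hψi, hψ0, hti]
    | coe a =>
      rw [smul_some_eq_ite, e00, e01, e10, e11]
      by_cases ha : a = 0
      · subst ha
        rw [mul_zero, add_zero, if_pos rfl, hψ0, hto, hψi]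
      · have ha' : ¬ (1 * a + 0 = 0) := by rwa [one_mul, add_zero]
        rw [if_neg ha', zero_mul, zero_add, one_mul, add_zero, one_div]
        have h1 : ψ (a : OnePoint F) ≠ i := hne a
        have h2 : ψ (a : OnePoint F) ≠ o := by
          rw [← hψ0]
          intro h
          exact ha (OnePoint.coe_injective (hψ.1 h))
        obtain ⟨d, hdi, hdo, hde⟩ := hDr _ h1 h2
        obtain ⟨c, hc0, hce, hc⟩ := hD d hdi hdo
        have hca : c = a := huniq c a (by rw [← hce, hde, hψc])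
        subst hca
        have h4 : d⁻¹ • e = ψ ((c⁻¹ : F) : OnePoint F) := by
          rw [inv_smul_eq_iff, actD d hdi hdo c hc, mul_inv_cancel₀ ha, hψc, h1e]
        rw [← h4, ← htD d hdi hdo, mul_smul, mul_smul]
        rw [show t⁻¹ • e = e from by rw [inv_smul_eq_iff, hte], hde]
  obtain ⟨At, hAt⟩ := rep_t
  -- every element is represented
  have rep_B : ∀ g : G, g • i = i → ∃ A, rep g A := by
    intro g hg
    have h1 : g • o ≠ i := fun h => hio (smul_left_cancel g (h.trans hg.symm))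
    obtain ⟨u, ⟨hu, huo⟩, -⟩ := hTr _ h1
    obtain ⟨b, rfl⟩ := (hmemT u).1 hu
    obtain ⟨A, hA⟩ := rep_T b
    obtain ⟨B, hB⟩ := rep_D ((φ b)⁻¹ * g) (by
      rw [mul_smul, hg, inv_smul_eq_iff, hTi _ (hφT b)]) (by
      rw [mul_smul, inv_smul_eq_iff, huo])
    refine ⟨A * B, ?_⟩
    have : g = φ b * ((φ b)⁻¹ * g) := by group
    rw [this]
    exact rep_mul _ _ _ _ hA hB
  have rep_all : ∀ g : G, ∃ A, rep g A := by
    intro g
    by_cases hg : g • i = i
    · exact rep_B g hg
    · obtain ⟨u, ⟨hu, huo⟩, -⟩ := hTr _ hg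
      obtain ⟨b, rfl⟩ := (hmemT u).1 hu
      obtain ⟨A, hA⟩ := rep_T b
      obtain ⟨B, hB⟩ := rep_B (t * ((φ b)⁻¹ * g)) (by
        rw [mul_smul, mul_smul, ← huo, inv_smul_smul, hto])
      refine ⟨A * (At⁻¹ * B), ?_⟩
      have : g = φ b * (t⁻¹ * (t * ((φ b)⁻¹ * g))) := by group
      rw [this]
      exact rep_mul _ _ _ _ hA (rep_mul _ _ _ _ (rep_inv _ _ hAt) hB)
  -- 3-transitivity
  have trans3 : ∀ x y z : X, x ≠ y → x ≠ z → y ≠ z → ∃ g : G, g • i = x ∧ g • o = y ∧
      g • e = z := by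
    intro x y z hxy hxz hyz
    obtain ⟨g₁, hg₁⟩ : ∃ g : G, g • x = i := by
      by_cases hx : x = i
      · exact ⟨1, by rw [one_smul, hx]⟩
      · obtain ⟨u, ⟨hu, huo⟩, -⟩ := hTr _ hx
        exact ⟨t * u⁻¹, by rw [mul_smul, ← huo, inv_smul_smul, hto]⟩
    have hy1 : g₁ • y ≠ i := fun h => hxy (smul_left_cancel g₁ (hg₁.trans h.symm))
    obtain ⟨u, ⟨hu, huo⟩, -⟩ := hTr _ hy1
    have hui : u⁻¹ • i = i := by rw [inv_smul_eq_iff, hTi u hu]
    have hx2 : (u⁻¹ * g₁) • x = i := by rw [mul_smul, hg₁, hui]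
    have hy2 : (u⁻¹ * g₁) • y = o := by rw [mul_smul, ← huo, inv_smul_smul]
    have hz1 : (u⁻¹ * g₁) • z ≠ i := fun h => hxz (smul_left_cancel _ (hx2.trans h.symm))
    have hz2 : (u⁻¹ * g₁) • z ≠ o := fun h => hyz (smul_left_cancel _ (hy2.trans h.symm))
    obtain ⟨d, hdi, hdo, hde⟩ := hDr _ hz1 hz2
    refine ⟨(u⁻¹ * g₁)⁻¹ * d, ?_, ?_, ?_⟩
    · rw [mul_smul, hdi, inv_smul_eq_iff, hx2]
    · rw [mul_smul, hdo, inv_smul_eq_iff, hy2]
    · rw [mul_smul, hde, inv_smul_smul]
  have hfaith : FaithfulSMul G X := by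
    refine ⟨fun {g g'} h => ?_⟩
    have : g'⁻¹ * g = 1 := h3 _ (by rw [mul_smul, h, inv_smul_smul])
      (by rw [mul_smul, h, inv_smul_smul]) (by rw [mul_smul, h, inv_smul_smul])
    exact (inv_mul_eq_one.1 this).symm
  have hrep' : ∀ g A, rep g A → ∀ x, (Equiv.ofBijective ψ hψ).symm (g • x) =
      A.toGL • (Equiv.ofBijective ψ hψ).symm x := by
    intro g A hgA x
    obtain ⟨y, rfl⟩ := hψ.2 x
    rw [hgA]
    rw [Equiv.ofBijective_symm_apply_apply, Equiv.ofBijective_symm_apply_apply]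
  apply nonempty_mulEquiv_psl (Equiv.ofBijective ψ hψ).symm
  · intro g
    obtain ⟨A, hA⟩ := rep_all g
    exact ⟨A, hrep' g A hA⟩
  · intro A
    have hA : ∀ x y : OnePoint F, x ≠ y → ψ (A.toGL • x) ≠ ψ (A.toGL • y) := fun x y hxy =>
      hψ.1.ne ((MulAction.injective _).ne hxy)
    obtain ⟨g, hgi, hgo, hge⟩ := trans3 (ψ (A.toGL • ∞)) (ψ (A.toGL • ((0 : F) : OnePoint F)))
      (ψ (A.toGL • ((1 : F) : OnePoint F))) (hA _ _ (OnePoint.infty_ne_coe _))
      (hA _ _ (OnePoint.infty_ne_coe _))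
      (hA _ _ (fun h => zero_ne_one (OnePoint.coe_injective h)))
    obtain ⟨B, hB⟩ := rep_all g
    have hψ0 : ψ ((0 : F) : OnePoint F) = o := by rw [hψc, hφ0, one_smul]
    have hψ1 : ψ ((1 : F) : OnePoint F) = e := by rw [hψc, h1e]
    have hB1 := hB ∞
    have hB2 := hB ((0 : F) : OnePoint F)
    have hB3 := hB ((1 : F) : OnePoint F)
    rw [hψi, hgi] at hB1
    rw [hψ0, hgo] at hB2
    rw [hψ1, hge] at hB3
    have k1 := hψ.1 hB1
    have k2 := hψ.1 hB2
    have k3 := hψ.1 hB3
    obtain ⟨r, -, hr⟩ := fix_all_of_three (B⁻¹ * A)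
      (by rw [map_mul, mul_smul, k1, map_inv, inv_smul_smul])
      (by rw [map_mul, mul_smul, k2, map_inv, inv_smul_smul])
      (by rw [map_mul, mul_smul, k3, map_inv, inv_smul_smul])
    refine ⟨g, fun x => ?_⟩
    rw [hrep' g B hB]
    have := scalar_smul (B⁻¹ * A) r hr ((Equiv.ofBijective ψ hψ).symm x)
    rw [map_mul, mul_smul, map_inv, inv_smul_eq_iff] at this
    exact this.symm

end Recognition

end Cfsg.Agent.Lib.PSL2Recog
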