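import Mathlib.LinearAlgebra.Matrix.Determinant.Basic
import Mathlib.Data.Matrix.Basis
import Cfsg.Agent.Lib.MatLit
import Cfsg.Agent.Prune
set_option linter.all false
prune_inst 0x7f00000000000000000000000000000000000000000000000000000000000000000000000000000000000000000000000000000000000000000000000000000000000000000000000000000000000000003fffffffffffffffffffffffffffbeffbdffffffff
open scoped Cfsg.Agent.FastGrp

/-! Determinants of explicit matrices as rewriting rules; `d` is a name for the list of rules. -/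

set_option autoImplicit false

namespace Cfsg.Agent.Lib.MatLit

open Matrix

universe u

variable {α : Type u} [CommRing α]

theorem det2 (a00 a01 a10 a11 : α) : det !![a00, a01; a10, a11] = a00 * a11 - a01 * a10 := det_fin_two_of _ _ _ _

theorem det3 (a00 a01 a02 a10 a11 a12 a20 a21 a22 : α) : det !![a00, a01, a02; a10, a11, a12; a20, a21, a22] =
    a00 * a11 * a22 - a00 * a12 * a21 - a01 * a10 * a22 + a01 * a12 * a20 + a02 * a10 * a21 - a02 * a11 * a20 := det_fin_three _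

theorem lap3 (a00 a01 a02 a10 a11 a12 a20 a21 a22 : α) : det !![a00, a01, a02; a10, a11, a12; a20, a21, a22] =
    a00 * (a11 * a22 - a12 * a21) - a01 * (a10 * a22 - a12 * a20) + a02 * (a10 * a21 - a11 * a20) := by
  rw [det3]; ring

theorem lap4 (a00 a01 a02 a03 a10 a11 a12 a13 a20 a21 a22 a23 a30 a31 a32 a33 : α) : det !![a00, a01, a02, a03; a10, a11, a12, a13; a20, a21, a22, a23; a30, a31, a32, a33] =
    a00 * det !![a11, a12, a13; a21, a22, a23; a31, a32, a33] - a01 * det !![a10, a12, a13; a20, a22, a23; a30, a32, a33] + a02 * det !![a10, a11, a13; a20, a21, a23; a30, a31, a33] - a03 * det !![a10, a11, a12; a20, a21, a22; a30, a31, a32] := by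
  have h0 : (!![a00, a01, a02, a03; a10, a11, a12, a13; a20, a21, a22, a23; a30, a31, a32, a33]).submatrix Fin.succ (Fin.succAbove 0) = !![a11, a12, a13; a21, a22, a23; a31, a32, a33] := by
    ext i j; fin_cases i <;> fin_cases j
    exacts [Eq.trans (b := a11) rfl rfl, Eq.trans (b := a12) rfl rfl, Eq.trans (b := a13) rfl rfl, Eq.trans (b := a21) rfl rfl, Eq.trans (b := a22) rfl rfl, Eq.trans (b := a23) rfl rfl, Eq.trans (b := a31) rfl rfl, Eq.trans (b := a32) rfl rfl, Eq.trans (b := a33) rfl rfl]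
  have h1 : (!![a00, a01, a02, a03; a10, a11, a12, a13; a20, a21, a22, a23; a30, a31, a32, a33]).submatrix Fin.succ (Fin.succAbove 1) = !![a10, a12, a13; a20, a22, a23; a30, a32, a33] := by
    ext i j; fin_cases i <;> fin_cases j
    exacts [Eq.trans (b := a10) rfl rfl, Eq.trans (b := a12) rfl rfl, Eq.trans (b := a13) rfl rfl, Eq.trans (b := a20) rfl rfl, Eq.trans (b := a22) rfl rfl, Eq.trans (b := a23) rfl rfl, Eq.trans (b := a30) rfl rfl, Eq.trans (b := a32) rfl rfl, Eq.trans (b := a33) rfl rfl]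
  have h2 : (!![a00, a01, a02, a03; a10, a11, a12, a13; a20, a21, a22, a23; a30, a31, a32, a33]).submatrix Fin.succ (Fin.succAbove 2) = !![a10, a11, a13; a20, a21, a23; a30, a31, a33] := by
    ext i j; fin_cases i <;> fin_cases j
    exacts [Eq.trans (b := a10) rfl rfl, Eq.trans (b := a11) rfl rfl, Eq.trans (b := a13) rfl rfl, Eq.trans (b := a20) rfl rfl, Eq.trans (b := a21) rfl rfl, Eq.trans (b := a23) rfl rfl, Eq.trans (b := a30) rfl rfl, Eq.trans (b := a31) rfl rfl, Eq.trans (b := a33) rfl rfl]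
  have h3 : (!![a00, a01, a02, a03; a10, a11, a12, a13; a20, a21, a22, a23; a30, a31, a32, a33]).submatrix Fin.succ (Fin.succAbove 3) = !![a10, a11, a12; a20, a21, a22; a30, a31, a32] := by
    ext i j; fin_cases i <;> fin_cases j
    exacts [Eq.trans (b := a10) rfl rfl, Eq.trans (b := a11) rfl rfl, Eq.trans (b := a12) rfl rfl, Eq.trans (b := a20) rfl rfl, Eq.trans (b := a21) rfl rfl, Eq.trans (b := a22) rfl rfl, Eq.trans (b := a30) rfl rfl, Eq.trans (b := a31) rfl rfl, Eq.trans (b := a32) rfl rfl]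
  rw [det_succ_row_zero, Fin.sum_univ_four, h0, h1, h2, h3]
  show (-1) ^ 0 * a00 * _ + (-1) ^ 1 * a01 * _ + (-1) ^ 2 * a02 * _ + (-1) ^ 3 * a03 * _ = _
  ring

theorem lap5 (a00 a01 a02 a03 a04 a10 a11 a12 a13 a14 a20 a21 a22 a23 a24 a30 a31 a32 a33 a34 a40 a41 a42 a43 a44 : α) : det !![a00, a01, a02, a03, a04; a10, a11, a12, a13, a14; a20, a21, a22, a23, a24; a30, a31, a32, a33, a34; a40, a41, a42, a43, a44] =
    a00 * det !![a11, a12, a13, a14; a21, a22, a23, a24; a31, a32, a33, a34; a41, a42, a43, a44] - a01 * det !![a10, a12, a13, a14; a20, a22, a23, a24; a30, a32, a33, a34; a40, a42, a43, a44] + a02 * det !![a10, a11, a13, a14; a20, a21, a23, a24; a30, a31, a33, a34; a40, a41, a43, a44] - a03 * det !![a10, a11, a12, a14; a20, a21, a22, a24; a30, a31, a32, a34; a40, a41, a42, a44] + a04 * det !![a10, a11, a12, a13; a20, a21, a22, a23; a30, a31, a32, a33; a40, a41, a42, a43] := by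
  have h0 : (!![a00, a01, a02, a03, a04; a10, a11, a12, a13, a14; a20, a21, a22, a23, a24; a30, a31, a32, a33, a34; a40, a41, a42, a43, a44]).submatrix Fin.succ (Fin.succAbove 0) = !![a11, a12, a13, a14; a21, a22, a23, a24; a31, a32, a33, a34; a41, a42, a43, a44] := by
    ext i j; fin_cases i <;> fin_cases j
    exacts [Eq.trans (b := a11) rfl rfl, Eq.trans (b := a12) rfl rfl, Eq.trans (b := a13) rfl rfl, Eq.trans (b := a14) rfl rfl, Eq.trans (b := a21) rfl rfl, Eq.trans (b := a22) rfl rfl, Eq.trans (b := a23) rfl rfl, Eq.trans (b := a24) rfl rfl, Eq.trans (b := a31) rfl rfl, Eq.trans (b := a32) rfl rfl, Eq.trans (b := a33) rfl rfl, Eq.trans (b := a34) rfl rfl, Eq.trans (b := a41) rfl rfl, Eq.trans (b := a42) rfl rfl, Eq.trans (b := a43) rfl rfl, Eq.trans (b := a44) rfl rfl]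
  have h1 : (!![a00, a01, a02, a03, a04; a10, a11, a12, a13, a14; a20, a21, a22, a23, a24; a30, a31, a32, a33, a34; a40, a41, a42, a43, a44]).submatrix Fin.succ (Fin.succAbove 1) = !![a10, a12, a13, a14; a20, a22, a23, a24; a30, a32, a33, a34; a40, a42, a43, a44] := by
    ext i j; fin_cases i <;> fin_cases j
    exacts [Eq.trans (b := a10) rfl rfl, Eq.trans (b := a12) rfl rfl, Eq.trans (b := a13) rfl rfl, Eq.trans (b := a14) rfl rfl, Eq.trans (b := a20) rfl rfl, Eq.trans (b := a22) rfl rfl, Eq.trans (b := a23) rfl rfl, Eq.trans (b := a24) rfl rfl, Eq.trans (b := a30) rfl rfl, Eq.trans (b := a32) rfl rfl, Eq.trans (b := a33) rfl rfl, Eq.trans (b := a34) rfl rfl, Eq.trans (b := a40) rfl rfl, Eq.trans (b := a42) rfl rfl, Eq.trans (b := a43) rfl rfl, Eq.trans (b := a44) rfl rfl]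
  have h2 : (!![a00, a01, a02, a03, a04; a10, a11, a12, a13, a14; a20, a21, a22, a23, a24; a30, a31, a32, a33, a34; a40, a41, a42, a43, a44]).submatrix Fin.succ (Fin.succAbove 2) = !![a10, a11, a13, a14; a20, a21, a23, a24; a30, a31, a33, a34; a40, a41, a43, a44] := by
    ext i j; fin_cases i <;> fin_cases j
    exacts [Eq.trans (b := a10) rfl rfl, Eq.trans (b := a11) rfl rfl, Eq.trans (b := a13) rfl rfl, Eq.trans (b := a14) rfl rfl, Eq.trans (b := a20) rfl rfl, Eq.trans (b := a21) rfl rfl, Eq.trans (b := a23) rfl rfl, Eq.trans (b := a24) rfl rfl, Eq.trans (b := a30) rfl rfl, Eq.trans (b := a31) rfl rfl, Eq.trans (b := a33) rfl rfl, Eq.trans (b := a34) rfl rfl, Eq.trans (b := a40) rfl rfl, Eq.trans (b := a41) rfl rfl, Eq.trans (b := a43) rfl rfl, Eq.trans (b := a44) rfl rfl]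
  have h3 : (!![a00, a01, a02, a03, a04; a10, a11, a12, a13, a14; a20, a21, a22, a23, a24; a30, a31, a32, a33, a34; a40, a41, a42, a43, a44]).submatrix Fin.succ (Fin.succAbove 3) = !![a10, a11, a12, a14; a20, a21, a22, a24; a30, a31, a32, a34; a40, a41, a42, a44] := by
    ext i j; fin_cases i <;> fin_cases j
    exacts [Eq.trans (b := a10) rfl rfl, Eq.trans (b := a11) rfl rfl, Eq.trans (b := a12) rfl rfl, Eq.trans (b := a14) rfl rfl, Eq.trans (b := a20) rfl rfl, Eq.trans (b := a21) rfl rfl, Eq.trans (b := a22) rfl rfl, Eq.trans (b := a24) rfl rfl, Eq.trans (b := a30) rfl rfl, Eq.trans (b := a31) rfl rfl, Eq.trans (b := a32) rfl rfl, Eq.trans (b := a34) rfl rfl, Eq.trans (b := a40) rfl rfl, Eq.trans (b := a41) rfl rfl, Eq.trans (b := a42) rfl rfl, Eq.trans (b := a44) rfl rfl]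
  have h4 : (!![a00, a01, a02, a03, a04; a10, a11, a12, a13, a14; a20, a21, a22, a23, a24; a30, a31, a32, a33, a34; a40, a41, a42, a43, a44]).submatrix Fin.succ (Fin.succAbove 4) = !![a10, a11, a12, a13; a20, a21, a22, a23; a30, a31, a32, a33; a40, a41, a42, a43] := by
    ext i j; fin_cases i <;> fin_cases j
    exacts [Eq.trans (b := a10) rfl rfl, Eq.trans (b := a11) rfl rfl, Eq.trans (b := a12) rfl rfl, Eq.trans (b := a13) rfl rfl, Eq.trans (b := a20) rfl rfl, Eq.trans (b := a21) rfl rfl, Eq.trans (b := a22) rfl rfl, Eq.trans (b := a23) rfl rfl, Eq.trans (b := a30) rfl rfl, Eq.trans (b := a31) rfl rfl, Eq.trans (b := a32) rfl rfl, Eq.trans (b := a33) rfl rfl, Eq.trans (b := a40) rfl rfl, Eq.trans (b := a41) rfl rfl, Eq.trans (b := a42) rfl rfl, Eq.trans (b := a43) rfl rfl]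
  rw [det_succ_row_zero, Fin.sum_univ_five, h0, h1, h2, h3, h4]
  show (-1) ^ 0 * a00 * _ + (-1) ^ 1 * a01 * _ + (-1) ^ 2 * a02 * _ + (-1) ^ 3 * a03 * _ + (-1) ^ 4 * a04 * _ = _
  ring

theorem lap6 (a00 a01 a02 a03 a04 a05 a10 a11 a12 a13 a14 a15 a20 a21 a22 a23 a24 a25 a30 a31 a32 a33 a34 a35 a40 a41 a42 a43 a44 a45 a50 a51 a52 a53 a54 a55 : α) : det !![a00, a01, a02, a03, a04, a05; a10, a11, a12, a13, a14, a15; a20, a21, a22, a23, a24, a25; a30, a31, a32, a33, a34, a35; a40, a41, a42, a43, a44, a45; a50, a51, a52, a53, a54, a55] =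
    a00 * det !![a11, a12, a13, a14, a15; a21, a22, a23, a24, a25; a31, a32, a33, a34, a35; a41, a42, a43, a44, a45; a51, a52, a53, a54, a55] - a01 * det !![a10, a12, a13, a14, a15; a20, a22, a23, a24, a25; a30, a32, a33, a34, a35; a40, a42, a43, a44, a45; a50, a52, a53, a54, a55] + a02 * det !![a10, a11, a13, a14, a15; a20, a21, a23, a24, a25; a30, a31, a33, a34, a35; a40, a41, a43, a44, a45; a50, a51, a53, a54, a55] - a03 * det !![a10, a11, a12, a14, a15; a20, a21, a22, a24, a25; a30, a31, a32, a34, a35; a40, a41, a42, a44, a45; a50, a51, a52, a54, a55] + a04 * det !![a10, a11, a12, a13, a15; a20, a21, a22, a23, a25; a30, a31, a32, a33, a35; a40, a41, a42, a43, a45; a50, a51, a52, a53, a55] - a05 * det !![a10, a11, a12, a13, a14; a20, a21, a22, a23, a24; a30, a31, a32, a33, a34; a40, a41, a42, a43, a44; a50, a51, a52, a53, a54] := by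
  have h0 : (!![a00, a01, a02, a03, a04, a05; a10, a11, a12, a13, a14, a15; a20, a21, a22, a23, a24, a25; a30, a31, a32, a33, a34, a35; a40, a41, a42, a43, a44, a45; a50, a51, a52, a53, a54, a55]).submatrix Fin.succ (Fin.succAbove 0) = !![a11, a12, a13, a14, a15; a21, a22, a23, a24, a25; a31, a32, a33, a34, a35; a41, a42, a43, a44, a45; a51, a52, a53, a54, a55] := by
    ext i j; fin_cases i <;> fin_cases j
    exacts [Eq.trans (b := a11) rfl rfl, Eq.trans (b := a12) rfl rfl, Eq.trans (b := a13) rfl rfl, Eq.trans (b := a14) rfl rfl, Eq.trans (b := a15) rfl rfl, Eq.trans (b := a21) rfl rfl, Eq.trans (b := a22) rfl rfl, Eq.trans (b := a23) rfl rfl, Eq.trans (b := a24) rfl rfl, Eq.trans (b := a25) rfl rfl, Eq.trans (b := a31) rfl rfl, Eq.trans (b := a32) rfl rfl, Eq.trans (b := a33) rfl rfl, Eq.trans (b := a34) rfl rfl, Eq.trans (b := a35) rfl rfl, Eq.trans (b := a41) rfl rfl, Eq.trans (b := a42) rfl rfl, Eq.trans (b := a43) rfl rfl, Eq.trans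 (b := a44) rfl rfl, Eq.trans (b := a45) rfl rfl, Eq.trans (b := a51) rfl rfl, Eq.trans (b := a52) rfl rfl, Eq.trans (b := a53) rfl rfl, Eq.trans (b := a54) rfl rfl, Eq.trans (b := a55) rfl rfl]
  have h1 : (!![a00, a01, a02, a03, a04, a05; a10, a11, a12, a13, a14, a15; a20, a21, a22, a23, a24, a25; a30, a31, a32, a33, a34, a35; a40, a41, a42, a43, a44, a45; a50, a51, a52, a53, a54, a55]).submatrix Fin.succ (Fin.succAbove 1) = !![a10, a12, a13, a14, a15; a20, a22, a23, a24, a25; a30, a32, a33, a34, a35; a40, a42, a43, a44, a45; a50, a52, a53, a54, a55] := by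
    ext i j; fin_cases i <;> fin_cases j
    exacts [Eq.trans (b := a10) rfl rfl, Eq.trans (b := a12) rfl rfl, Eq.trans (b := a13) rfl rfl, Eq.trans (b := a14) rfl rfl, Eq.trans (b := a15) rfl rfl, Eq.trans (b := a20) rfl rfl, Eq.trans (b := a22) rfl rfl, Eq.trans (b := a23) rfl rfl, Eq.trans (b := a24) rfl rfl, Eq.trans (b := a25) rfl rfl, Eq.trans (b := a30) rfl rfl, Eq.trans (b := a32) rfl rfl, Eq.trans (b := a33) rfl rfl, Eq.trans (b := a34) rfl rfl, Eq.trans (b := a35) rfl rfl, Eq.trans (b := a40) rfl rfl, Eq.trans (b := a42) rfl rfl, Eq.trans (b := a43) rfl rfl, Eq.trans (b := a44) rfl rfl, Eq.trans (b := a45) rfl rfl, Eq.trans (b := a50) rfl rfl, Eq.trans (b := a52) rfl rfl, Eq.trans (b := a53) rfl rfl, Eq.trans (b := a54) rfl rfl, Eq.trans (b := a55) rfl rfl]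
  have h2 : (!![a00, a01, a02, a03, a04, a05; a10, a11, a12, a13, a14, a15; a20, a21, a22, a23, a24, a25; a30, a31, a32, a33, a34, a35; a40, a41, a42, a43, a44, a45; a50, a51, a52, a53, a54, a55]).submatrix Fin.succ (Fin.succAbove 2) = !![a10, a11, a13, a14, a15; a20, a21, a23, a24, a25; a30, a31, a33, a34, a35; a40, a41, a43, a44, a45; a50, a51, a53, a54, a55] := by
    ext i j; fin_cases i <;> fin_cases j
    exacts [Eq.trans (b := a10) rfl rfl, Eq.trans (b := a11) rfl rfl, Eq.trans (b := a13) rfl rfl, Eq.trans (b := a14) rfl rfl, Eq.trans (b := a15) rfl rfl, Eq.trans (b := a20) rfl rfl, Eq.trans (b := a21) rfl rfl, Eq.trans (b := a23) rfl rfl, Eq.trans (b := a24) rfl rfl, Eq.trans (b := a25) rfl rfl, Eq.trans (b := a30) rfl rfl, Eq.trans (b := a31) rfl rfl, Eq.trans (b := a33) rfl rfl, Eq.trans (b := a34) rfl rfl, Eq.trans (b := a35) rfl rfl, Eq.trans (b := a40) rfl rfl, Eq.trans (b := a41) rfl rfl, Eq.trans (b := a43) rfl rfl, Eq.trans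 (b := a44) rfl rfl, Eq.trans (b := a45) rfl rfl, Eq.trans (b := a50) rfl rfl, Eq.trans (b := a51) rfl rfl, Eq.trans (b := a53) rfl rfl, Eq.trans (b := a54) rfl rfl, Eq.trans (b := a55) rfl rfl]
  have h3 : (!![a00, a01, a02, a03, a04, a05; a10, a11, a12, a13, a14, a15; a20, a21, a22, a23, a24, a25; a30, a31, a32, a33, a34, a35; a40, a41, a42, a43, a44, a45; a50, a51, a52, a53, a54, a55]).submatrix Fin.succ (Fin.succAbove 3) = !![a10, a11, a12, a14, a15; a20, a21, a22, a24, a25; a30, a31, a32, a34, a35; a40, a41, a42, a44, a45; a50, a51, a52, a54, a55] := by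
    ext i j; fin_cases i <;> fin_cases j
    exacts [Eq.trans (b := a10) rfl rfl, Eq.trans (b := a11) rfl rfl, Eq.trans (b := a12) rfl rfl, Eq.trans (b := a14) rfl rfl, Eq.trans (b := a15) rfl rfl, Eq.trans (b := a20) rfl rfl, Eq.trans (b := a21) rfl rfl, Eq.trans (b := a22) rfl rfl, Eq.trans (b := a24) rfl rfl, Eq.trans (b := a25) rfl rfl, Eq.trans (b := a30) rfl rfl, Eq.trans (b := a31) rfl rfl, Eq.trans (b := a32) rfl rfl, Eq.trans (b := a34) rfl rfl, Eq.trans (b := a35) rfl rfl, Eq.trans (b := a40) rfl rfl, Eq.trans (b := a41) rfl rfl, Eq.trans (b := a42) rfl rfl, Eq.trans (b := a44) rfl rfl, Eq.trans (b := a45) rfl rfl, Eq.trans (b := a50) rfl rfl, Eq.trans (b := a51) rfl rfl, Eq.trans (b := a52) rfl rfl, Eq.trans (b := a54) rfl rfl, Eq.trans (b := a55) rfl rfl]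
  have h4 : (!![a00, a01, a02, a03, a04, a05; a10, a11, a12, a13, a14, a15; a20, a21, a22, a23, a24, a25; a30, a31, a32, a33, a34, a35; a40, a41, a42, a43, a44, a45; a50, a51, a52, a53, a54, a55]).submatrix Fin.succ (Fin.succAbove 4) = !![a10, a11, a12, a13, a15; a20, a21, a22, a23, a25; a30, a31, a32, a33, a35; a40, a41, a42, a43, a45; a50, a51, a52, a53, a55] := by
    ext i j; fin_cases i <;> fin_cases j
    exacts [Eq.trans (b := a10) rfl rfl, Eq.trans (b := a11) rfl rfl, Eq.trans (b := a12) rfl rfl, Eq.trans (b := a13) rfl rfl, Eq.trans (b := a15) rfl rfl, Eq.trans (b := a20) rfl rfl, Eq.trans (b := a21) rfl rfl, Eq.trans (b := a22) rfl rfl, Eq.trans (b := a23) rfl rfl, Eq.trans (b := a25) rfl rfl, Eq.trans (b := a30) rfl rfl, Eq.trans (b := a31) rfl rfl, Eq.trans (b := a32) rfl rfl, Eq.trans (b := a33) rfl rfl, Eq.trans (b := a35) rfl rfl, Eq.trans (b := a40) rfl rfl, Eq.trans (b := a41) rfl rfl, Eq.trans (b := a42) rfl rfl, Eq.trans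 (b := a43) rfl rfl, Eq.trans (b := a45) rfl rfl, Eq.trans (b := a50) rfl rfl, Eq.trans (b := a51) rfl rfl, Eq.trans (b := a52) rfl rfl, Eq.trans (b := a53) rfl rfl, Eq.trans (b := a55) rfl rfl]
  have h5 : (!![a00, a01, a02, a03, a04, a05; a10, a11, a12, a13, a14, a15; a20, a21, a22, a23, a24, a25; a30, a31, a32, a33, a34, a35; a40, a41, a42, a43, a44, a45; a50, a51, a52, a53, a54, a55]).submatrix Fin.succ (Fin.succAbove 5) = !![a10, a11, a12, a13, a14; a20, a21, a22, a23, a24; a30, a31, a32, a33, a34; a40, a41, a42, a43, a44; a50, a51, a52, a53, a54] := by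
    ext i j; fin_cases i <;> fin_cases j
    exacts [Eq.trans (b := a10) rfl rfl, Eq.trans (b := a11) rfl rfl, Eq.trans (b := a12) rfl rfl, Eq.trans (b := a13) rfl rfl, Eq.trans (b := a14) rfl rfl, Eq.trans (b := a20) rfl rfl, Eq.trans (b := a21) rfl rfl, Eq.trans (b := a22) rfl rfl, Eq.trans (b := a23) rfl rfl, Eq.trans (b := a24) rfl rfl, Eq.trans (b := a30) rfl rfl, Eq.trans (b := a31) rfl rfl, Eq.trans (b := a32) rfl rfl, Eq.trans (b := a33) rfl rfl, Eq.trans (b := a34) rfl rfl, Eq.trans (b := a40) rfl rfl, Eq.trans (b := a41) rfl rfl, Eq.trans (b := a42) rfl rfl, Eq.trans (b := a43) rfl rfl, Eq.trans (b := a44) rfl rfl, Eq.trans (b := a50) rfl rfl, Eq.trans (b := a51) rfl rfl, Eq.trans (b := a52) rfl rfl, Eq.trans (b := a53) rfl rfl, Eq.trans (b := a54) rfl rfl]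
  rw [det_succ_row_zero, Fin.sum_univ_six, h0, h1, h2, h3, h4, h5]
  show (-1) ^ 0 * a00 * _ + (-1) ^ 1 * a01 * _ + (-1) ^ 2 * a02 * _ + (-1) ^ 3 * a03 * _ + (-1) ^ 4 * a04 * _ + (-1) ^ 5 * a05 * _ = _
  ring

theorem sg200 {β : Type u} [Zero β] (c : β) : Matrix.single (0 : Fin 2) (0 : Fin 2) c = !![c, 0; 0, 0] := by
  ext i j; fin_cases i <;> fin_cases j <;> rfl

theorem sg201 {β : Type u} [Zero β] (c : β) : Matrix.single (0 : Fin 2) (1 : Fin 2) c = !![0, c; 0, 0] := by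
  ext i j; fin_cases i <;> fin_cases j <;> rfl

theorem ps20 {β : Type u} [Zero β] (c : β) : Pi.single (M := fun _ => β) (0 : Fin 2) c = ![c, 0] := by
  ext i; fin_cases i <;> rfl

theorem sg210 {β : Type u} [Zero β] (c : β) : Matrix.single (1 : Fin 2) (0 : Fin 2) c = !![0, 0; c, 0] := by
  ext i j; fin_cases i <;> fin_cases j <;> rfl

theorem sg211 {β : Type u} [Zero β] (c : β) : Matrix.single (1 : Fin 2) (1 : Fin 2) c = !![0, 0; 0, c] := by
  ext i j; fin_cases i <;> fin_cases j <;> rfl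

theorem ps21 {β : Type u} [Zero β] (c : β) : Pi.single (M := fun _ => β) (1 : Fin 2) c = ![0, c] := by
  ext i; fin_cases i <;> rfl

theorem vv2 {β : Type u} [Mul β] (a0 a1 b0 b1 : β) : Matrix.vecMulVec ![a0, a1] ![b0, b1] = !![a0 * b0, a0 * b1; a1 * b0, a1 * b1] := by
  ext i j; fin_cases i <;> fin_cases j <;> rfl

theorem sg300 {β : Type u} [Zero β] (c : β) : Matrix.single (0 : Fin 3) (0 : Fin 3) c = !![c, 0, 0; 0, 0, 0; 0, 0, 0] := by
  ext i j; fin_cases i <;> fin_cases j <;> rfl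

theorem sg301 {β : Type u} [Zero β] (c : β) : Matrix.single (0 : Fin 3) (1 : Fin 3) c = !![0, c, 0; 0, 0, 0; 0, 0, 0] := by
  ext i j; fin_cases i <;> fin_cases j <;> rfl

theorem sg302 {β : Type u} [Zero β] (c : β) : Matrix.single (0 : Fin 3) (2 : Fin 3) c = !![0, 0, c; 0, 0, 0; 0, 0, 0] := by
  ext i j; fin_cases i <;> fin_cases j <;> rfl

theorem ps30 {β : Type u} [Zero β] (c : β) : Pi.single (M := fun _ => β) (0 : Fin 3) c = ![c, 0, 0] := by
  ext i; fin_cases i <;> rfl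

theorem sg310 {β : Type u} [Zero β] (c : β) : Matrix.single (1 : Fin 3) (0 : Fin 3) c = !![0, 0, 0; c, 0, 0; 0, 0, 0] := by
  ext i j; fin_cases i <;> fin_cases j <;> rfl

theorem sg311 {β : Type u} [Zero β] (c : β) : Matrix.single (1 : Fin 3) (1 : Fin 3) c = !![0, 0, 0; 0, c, 0; 0, 0, 0] := by
  ext i j; fin_cases i <;> fin_cases j <;> rfl

theorem sg312 {β : Type u} [Zero β] (c : β) : Matrix.single (1 : Fin 3) (2 : Fin 3) c = !![0, 0, 0; 0, 0, c; 0, 0, 0] := by
  ext i j; fin_cases i <;> fin_cases j <;> rfl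

theorem ps31 {β : Type u} [Zero β] (c : β) : Pi.single (M := fun _ => β) (1 : Fin 3) c = ![0, c, 0] := by
  ext i; fin_cases i <;> rfl

theorem sg320 {β : Type u} [Zero β] (c : β) : Matrix.single (2 : Fin 3) (0 : Fin 3) c = !![0, 0, 0; 0, 0, 0; c, 0, 0] := by
  ext i j; fin_cases i <;> fin_cases j <;> rfl

theorem sg321 {β : Type u} [Zero β] (c : β) : Matrix.single (2 : Fin 3) (1 : Fin 3) c = !![0, 0, 0; 0, 0, 0; 0, c, 0] := by
  ext i j; fin_cases i <;> fin_cases j <;> rfl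

theorem sg322 {β : Type u} [Zero β] (c : β) : Matrix.single (2 : Fin 3) (2 : Fin 3) c = !![0, 0, 0; 0, 0, 0; 0, 0, c] := by
  ext i j; fin_cases i <;> fin_cases j <;> rfl

theorem ps32 {β : Type u} [Zero β] (c : β) : Pi.single (M := fun _ => β) (2 : Fin 3) c = ![0, 0, c] := by
  ext i; fin_cases i <;> rfl

theorem vv3 {β : Type u} [Mul β] (a0 a1 a2 b0 b1 b2 : β) : Matrix.vecMulVec ![a0, a1, a2] ![b0, b1, b2] = !![a0 * b0, a0 * b1, a0 * b2; a1 * b0, a1 * b1, a1 * b2; a2 * b0, a2 * b1, a2 * b2] := by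
  ext i j; fin_cases i <;> fin_cases j <;> rfl

theorem sg400 {β : Type u} [Zero β] (c : β) : Matrix.single (0 : Fin 4) (0 : Fin 4) c = !![c, 0, 0, 0; 0, 0, 0, 0; 0, 0, 0, 0; 0, 0, 0, 0] := by
  ext i j; fin_cases i <;> fin_cases j <;> rfl

theorem sg401 {β : Type u} [Zero β] (c : β) : Matrix.single (0 : Fin 4) (1 : Fin 4) c = !![0, c, 0, 0; 0, 0, 0, 0; 0, 0, 0, 0; 0, 0, 0, 0] := by
  ext i j; fin_cases i <;> fin_cases j <;> rfl

theorem sg402 {β : Type u} [Zero β] (c : β) : Matrix.single (0 : Fin 4) (2 : Fin 4) c = !![0, 0, c, 0; 0, 0, 0, 0; 0, 0, 0, 0; 0, 0, 0, 0] := by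
  ext i j; fin_cases i <;> fin_cases j <;> rfl

theorem sg403 {β : Type u} [Zero β] (c : β) : Matrix.single (0 : Fin 4) (3 : Fin 4) c = !![0, 0, 0, c; 0, 0, 0, 0; 0, 0, 0, 0; 0, 0, 0, 0] := by
  ext i j; fin_cases i <;> fin_cases j <;> rfl

theorem ps40 {β : Type u} [Zero β] (c : β) : Pi.single (M := fun _ => β) (0 : Fin 4) c = ![c, 0, 0, 0] := by
  ext i; fin_cases i <;> rfl

theorem sg410 {β : Type u} [Zero β] (c : β) : Matrix.single (1 : Fin 4) (0 : Fin 4) c = !![0, 0, 0, 0; c, 0, 0, 0; 0, 0, 0, 0; 0, 0, 0, 0] := by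
  ext i j; fin_cases i <;> fin_cases j <;> rfl

theorem sg411 {β : Type u} [Zero β] (c : β) : Matrix.single (1 : Fin 4) (1 : Fin 4) c = !![0, 0, 0, 0; 0, c, 0, 0; 0, 0, 0, 0; 0, 0, 0, 0] := by
  ext i j; fin_cases i <;> fin_cases j <;> rfl

theorem sg412 {β : Type u} [Zero β] (c : β) : Matrix.single (1 : Fin 4) (2 : Fin 4) c = !![0, 0, 0, 0; 0, 0, c, 0; 0, 0, 0, 0; 0, 0, 0, 0] := by
  ext i j; fin_cases i <;> fin_cases j <;> rfl

theorem sg413 {β : Type u} [Zero β] (c : β) : Matrix.single (1 : Fin 4) (3 : Fin 4) c = !![0, 0, 0, 0; 0, 0, 0, c; 0, 0, 0, 0; 0, 0, 0, 0] := by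
  ext i j; fin_cases i <;> fin_cases j <;> rfl

theorem ps41 {β : Type u} [Zero β] (c : β) : Pi.single (M := fun _ => β) (1 : Fin 4) c = ![0, c, 0, 0] := by
  ext i; fin_cases i <;> rfl

theorem sg420 {β : Type u} [Zero β] (c : β) : Matrix.single (2 : Fin 4) (0 : Fin 4) c = !![0, 0, 0, 0; 0, 0, 0, 0; c, 0, 0, 0; 0, 0, 0, 0] := by
  ext i j; fin_cases i <;> fin_cases j <;> rfl

theorem sg421 {β : Type u} [Zero β] (c : β) : Matrix.single (2 : Fin 4) (1 : Fin 4) c = !![0, 0, 0, 0; 0, 0, 0, 0; 0, c, 0, 0; 0, 0, 0, 0] := by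
  ext i j; fin_cases i <;> fin_cases j <;> rfl

theorem sg422 {β : Type u} [Zero β] (c : β) : Matrix.single (2 : Fin 4) (2 : Fin 4) c = !![0, 0, 0, 0; 0, 0, 0, 0; 0, 0, c, 0; 0, 0, 0, 0] := by
  ext i j; fin_cases i <;> fin_cases j <;> rfl

theorem sg423 {β : Type u} [Zero β] (c : β) : Matrix.single (2 : Fin 4) (3 : Fin 4) c = !![0, 0, 0, 0; 0, 0, 0, 0; 0, 0, 0, c; 0, 0, 0, 0] := by
  ext i j; fin_cases i <;> fin_cases j <;> rfl

theorem ps42 {β : Type u} [Zero β] (c : β) : Pi.single (M := fun _ => β) (2 : Fin 4) c = ![0, 0, c, 0] := by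
  ext i; fin_cases i <;> rfl

theorem sg430 {β : Type u} [Zero β] (c : β) : Matrix.single (3 : Fin 4) (0 : Fin 4) c = !![0, 0, 0, 0; 0, 0, 0, 0; 0, 0, 0, 0; c, 0, 0, 0] := by
  ext i j; fin_cases i <;> fin_cases j <;> rfl

theorem sg431 {β : Type u} [Zero β] (c : β) : Matrix.single (3 : Fin 4) (1 : Fin 4) c = !![0, 0, 0, 0; 0, 0, 0, 0; 0, 0, 0, 0; 0, c, 0, 0] := by
  ext i j; fin_cases i <;> fin_cases j <;> rfl

theorem sg432 {β : Type u} [Zero β] (c : β) : Matrix.single (3 : Fin 4) (2 : Fin 4) c = !![0, 0, 0, 0; 0, 0, 0, 0; 0, 0, 0, 0; 0, 0, c, 0] := by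
  ext i j; fin_cases i <;> fin_cases j <;> rfl

theorem sg433 {β : Type u} [Zero β] (c : β) : Matrix.single (3 : Fin 4) (3 : Fin 4) c = !![0, 0, 0, 0; 0, 0, 0, 0; 0, 0, 0, 0; 0, 0, 0, c] := by
  ext i j; fin_cases i <;> fin_cases j <;> rfl

theorem ps43 {β : Type u} [Zero β] (c : β) : Pi.single (M := fun _ => β) (3 : Fin 4) c = ![0, 0, 0, c] := by
  ext i; fin_cases i <;> rfl

theorem vv4 {β : Type u} [Mul β] (a0 a1 a2 a3 b0 b1 b2 b3 : β) : Matrix.vecMulVec ![a0, a1, a2, a3] ![b0, b1, b2, b3] = !![a0 * b0, a0 * b1, a0 * b2, a0 * b3; a1 * b0, a1 * b1, a1 * b2, a1 * b3; a2 * b0, a2 * b1, a2 * b2, a2 * b3; a3 * b0, a3 * b1, a3 * b2, a3 * b3] := by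
  ext i j; fin_cases i <;> fin_cases j <;> rfl

/-- a name for a list of rules -/
def e2 : Unit := ()
attribute [eqns sg200 sg201 ps20 sg210 sg211 ps21 vv2 one2] e2

/-- a name for a list of rules -/
def e3 : Unit := ()
attribute [eqns sg300 sg301 sg302 ps30 sg310 sg311 sg312 ps31 sg320 sg321 sg322 ps32 vv3 one3] e3

/-- a name for a list of rules -/
def e4 : Unit := ()
attribute [eqns sg400 sg401 sg402 sg403 ps40 sg410 sg411 sg412 sg413 ps41 sg420 sg421 sg422 sg423 ps42 sg430 sg431 sg432 sg433 ps43 vv4 one4] e4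

theorem s1 {β : Type u} [SubNegZeroMonoid β] (a : β) : a - 0 = a := sub_zero a
theorem s2 {β : Type u} [SubNegMonoid β] (a : β) : 0 - a = -a := zero_sub a
theorem s3 {β : Type u} [AddGroup β] (a : β) : a - a = 0 := sub_self a
theorem s4 {β : Type u} [NegZeroClass β] : -(0 : β) = 0 := neg_zero
theorem s5 {β : Type u} [InvolutiveNeg β] (a : β) : - -a = a := neg_neg a
theorem s6 {β : Type u} [Mul β] [HasDistribNeg β] (a b : β) : a * -b = -(a * b) := mul_neg a b
theorem s7 {β : Type u} [Mul β] [HasDistribNeg β] (a b : β) : -a * b = -(a * b) := neg_mul a b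
theorem s8 {β : Type u} [SubtractionMonoid β] (a b : β) : a - -b = a + b := sub_neg_eq_add a b

/-- a name for a list of rules -/
def d : Unit := ()
attribute [eqns det2 lap3 lap4 lap5 lap6 q1 q2 q3 q4 q5 q6 s1 s2 s3 s4 s5 s6 s7 s8] d

/-- a name for a list of rules -/
def d3 : Unit := ()
attribute [eqns det2 det3 q1 q2 q3 q4 q5 q6 s1 s2 s3 s4 s5 s6 s7 s8] d3

end Cfsg.Agent.Lib.MatLit
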