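import Mathlib
import Cfsg.Agent.Lib.PSL2Torus
import Cfsg.Agent.Prune
set_option linter.all false
prune_inst 0x7ffcf9ffeff9bfffdfff7fffaededffffbbdffffbfdff9cbbfe82def8fdf4f1ac9c72bbd8feb5bff1ee36ab455fe7bd3fffffeffea6ffc7ffffdfdf45ffbffcffdf7bd08519f88b40fbc0ff703f0778e7f3fffffffffffffffffffffffffffbeffffffffffff
open scoped Cfsg.Agent.FastGrp

/-!
# Outer involutory automorphisms of `PSL(2,F)`, `F` finite of odd order
-/

set_option autoImplicit false

namespace Cfsg.Agent.Lib.PSL2Outer

open Matrix Cfsg.Agent.Lib.SL2Mat Cfsg.Agent.Lib.AutSL2 Cfsg.Agent.Lib.AutSL2Out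
open Cfsg.Agent.Lib.PSL2Circle Cfsg.Agent.Lib.PSL2Inv Cfsg.Agent.Lib.PSL2Torus

section scal

variable {F : Type*} [Field F]

theorem neg_ent (x : Matrix.SpecialLinearGroup (Fin 2) F) (a b : Fin 2) :
    ent (-x) a b = - ent x a b := rfl

theorem tr_neg (x : Matrix.SpecialLinearGroup (Fin 2) F) : tr (-x) = - tr x := by
  rw [tr, tr, neg_ent, neg_ent]; ring

/-- conjugation by `m` is trivial up to sign: `m` is scalar -/
theorem scalar_of_conj (h2 : (2 : F) ≠ 0) (m : GL (Fin 2) F)
    (hm : ∀ x, conjGL m x = x ∨ conjGL m x = -x) :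
    m.1 0 1 = 0 ∧ m.1 1 0 = 0 ∧ m.1 0 0 = m.1 1 1 := by
  have key : ∀ x : Matrix.SpecialLinearGroup (Fin 2) F, tr x ≠ 0 → m.1 * x.1 = x.1 * m.1 := by
    intro x hx
    have h1 : conjGL m x = x := by
      rcases hm x with h | h
      · exact h
      · exfalso
        have h3 := tr_conjGL m x
        rw [h, tr_neg] at h3
        apply hx
        have : (2 : F) * tr x = 0 := by linear_combination -h3
        rcases mul_eq_zero.1 this with h4 | h4
        · exact absurd h4 h2
        · exact h4
    have h4 : (conjGL m x).1 = x.1 := by rw [h1]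
    rw [conjGL_val] at h4
    calc m.1 * x.1 = m.1 * x.1 * (m⁻¹.1 * m.1) := by rw [inv_val_mul_val, Matrix.mul_one]
      _ = (m.1 * x.1 * m⁻¹.1) * m.1 := by simp only [Matrix.mul_assoc]
      _ = _ := by rw [h4]
  have eu : (up (1 : F)).1 = !![1, 1; 0, 1] := rfl
  have el : (lo (1 : F)).1 = !![1, 0; 1, 1] := rfl
  have hu : tr (up (1 : F)) ≠ 0 := by
    rw [tr, up_00, up_11]
    intro h; exact h2 (by linear_combination h)
  have hl : tr (lo (1 : F)) ≠ 0 := by
    rw [tr, lo_00, lo_11]
    intro h; exact h2 (by linear_combination h)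
  have h3 := key _ hu
  have h4 := key _ hl
  rw [eu] at h3
  rw [el] at h4
  have a1 := congrFun (congrFun h3 0) 0
  have a2 := congrFun (congrFun h3 0) 1
  have a3 := congrFun (congrFun h4 0) 0
  simp only [Matrix.mul_apply, Fin.sum_univ_two, Matrix.of_apply, Matrix.cons_val', Matrix.cons_val_zero,
    Matrix.cons_val_one, Matrix.cons_val_fin_one] at a1 a2 a3
  refine ⟨?_, ?_, ?_⟩
  · linear_combination a3
  · linear_combination -a1
  · linear_combination a2

/-- a field automorphism which is the identity up to sign is the identity -/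
theorem ringEquiv_eq_one (h2 : (2 : F) ≠ 0) (τ : F ≃+* F) (hτ : ∀ a, τ a = a ∨ τ a = -a) : τ = 1 := by
  ext a
  rw [RingAut.one_apply]
  rcases hτ a with h | h
  · exact h
  · rcases hτ (1 + a) with h3 | h3
    · rw [map_add, map_one] at h3
      exact add_left_cancel h3
    · exfalso
      rw [map_add, map_one, h] at h3
      apply h2
      linear_combination h3

end scal

section hilbert

variable {F : Type*} [Field F]

/-- Norms from `F` to the fixed field of an involutory automorphism. -/
theorem exists_norm [Finite F] (h2 : (2 : F) ≠ 0) (σ : F ≃+* F) (_hσ : ∀ a, σ (σ a) = a) {δ : F}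
    (hδ0 : δ ≠ 0) (hδ : σ δ = -δ) {c : F} (hc : σ c = c) : ∃ l : F, l * σ l = c := by
  let K : Subfield F := RingHom.eqLocusField (σ : F →+* F) (RingHom.id F)
  have hK : ∀ a, a ∈ K ↔ σ a = a := fun a => Iff.rfl
  have := Fintype.ofFinite F
  have := Fintype.ofFinite K
  have h2K : (2 : K) ≠ 0 := by
    intro h3
    apply h2
    exact congrArg Subtype.val h3
  have hodd := odd_card h2K
  rw [Nat.card_eq_fintype_card] at hodd
  have he : δ ^ 2 ∈ K := by
    rw [hK, map_pow, hδ, neg_sq]
  let e : K := ⟨δ ^ 2, he⟩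
  have he0 : -e ≠ 0 := by
    intro h
    have : δ ^ 2 = 0 := by
      have := congrArg Subtype.val (neg_eq_zero.1 h)
      exact this
    exact hδ0 (pow_eq_zero_iff two_ne_zero |>.1 this)
  let c' : K := ⟨c, hc⟩
  let f : Polynomial K := Polynomial.X ^ 2
  let g : Polynomial K := Polynomial.C (-e) * Polynomial.X ^ 2 + Polynomial.C 0 * Polynomial.X +
    Polynomial.C (-c')
  obtain ⟨a, b, hab⟩ : ∃ a b, f.eval a + g.eval b = 0 :=
    FiniteField.exists_root_sum_quadratic (f := f) (g := g) (Polynomial.degree_X_pow 2)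
      (Polynomial.degree_quadratic he0) hodd
  simp only [f, g, Polynomial.eval_add, Polynomial.eval_mul, Polynomial.eval_C, Polynomial.eval_X,
    Polynomial.eval_pow] at hab
  have h3 : (a : F) ^ 2 + (-δ ^ 2 * (b : F) ^ 2 + 0 * (b : F) + -c) = 0 := by
    have := congrArg Subtype.val hab
    simpa only [_root_.neg_mul, _root_.MulZeroClass.zero_mul, _root_.add_zero, _root_.Subfield.coe_add, _root_.SubmonoidClass.coe_pow, _root_.NegMemClass.coe_neg, _root_.Subfield.coe_mul, _root_.ZeroMemClass.coe_zero] using this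
  have ha : σ a = a := (hK _).1 a.2
  have hb : σ b = b := (hK _).1 b.2
  refine ⟨a + b * δ, ?_⟩
  rw [map_add, map_mul, ha, hb, hδ]
  linear_combination h3

/-- Hilbert 90 for `2 × 2` matrices and an involutory field automorphism. -/
theorem exists_fixed_basis (h2 : (2 : F) ≠ 0) (σ : F ≃+* F) {δ : F}
    (hδ0 : δ ≠ 0) (hδ : σ δ = -δ) {a b c d : F} (h11 : a * σ a + b * σ c = 1)
    (h12 : a * σ b + b * σ d = 0) (h21 : c * σ a + d * σ c = 0) (h22 : c * σ b + d * σ d = 1) :
    ∃ x₁ y₁ x₂ y₂ : F, x₁ * y₂ - x₂ * y₁ ≠ 0 ∧ a * σ x₁ + b * σ y₁ = x₁ ∧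
      c * σ x₁ + d * σ y₁ = y₁ ∧ a * σ x₂ + b * σ y₂ = x₂ ∧ c * σ x₂ + d * σ y₂ = y₂ := by
  have hne : (1 + a) * (1 + d) - b * c ≠ 0 ∨ (1 + a) * (1 - d) + b * c ≠ 0 ∨
      (1 - a) * (1 + d) + b * c ≠ 0 ∨ (1 - a) * (1 - d) - b * c ≠ 0 := by
    by_contra hcon
    push Not at hcon
    obtain ⟨e1, e2, e3, e4⟩ := hcon
    have : (2 : F) * 2 = 0 := by linear_combination e1 + e2 + e3 + e4
    exact h2 (mul_self_eq_zero.1 this)
  have p1 : a * σ (1 + a) + b * σ c = 1 + a ∧ c * σ (1 + a) + d * σ c = c := by
    rw [map_add, map_one]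
    exact ⟨by linear_combination h11, by linear_combination h21⟩
  have p2 : a * σ (δ * (1 - a)) + b * σ (-(δ * c)) = δ * (1 - a) ∧
      c * σ (δ * (1 - a)) + d * σ (-(δ * c)) = -(δ * c) := by
    rw [map_neg, map_mul, map_mul, map_sub, map_one, hδ]
    exact ⟨by linear_combination δ * h11, by linear_combination δ * h21⟩
  have p3 : a * σ b + b * σ (1 + d) = b ∧ c * σ b + d * σ (1 + d) = 1 + d := by
    rw [map_add, map_one]
    exact ⟨by linear_combination h12, by linear_combination h22⟩
  have p4 : a * σ (-(δ * b)) + b * σ (δ * (1 - d)) = -(δ * b) ∧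
      c * σ (-(δ * b)) + d * σ (δ * (1 - d)) = δ * (1 - d) := by
    rw [map_neg, map_mul, map_mul, map_sub, map_one, hδ]
    exact ⟨by linear_combination δ * h12, by linear_combination δ * h22⟩
  rcases hne with e | e | e | e
  · exact ⟨_, _, _, _, by intro h; apply e; linear_combination h, p1.1, p1.2, p3.1, p3.2⟩
  · refine ⟨_, _, _, _, ?_, p1.1, p1.2, p4.1, p4.2⟩
    intro h
    have : δ * ((1 + a) * (1 - d) + b * c) = 0 := by linear_combination h
    rcases mul_eq_zero.1 this with h3 | h3
    · exact hδ0 h3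
    · exact e h3
  · refine ⟨_, _, _, _, ?_, p2.1, p2.2, p3.1, p3.2⟩
    intro h
    have : δ * ((1 - a) * (1 + d) + b * c) = 0 := by linear_combination h
    rcases mul_eq_zero.1 this with h3 | h3
    · exact hδ0 h3
    · exact e h3
  · refine ⟨_, _, _, _, ?_, p2.1, p2.2, p4.1, p4.2⟩
    intro h
    have : (δ * δ) * ((1 - a) * (1 - d) - b * c) = 0 := by linear_combination h
    rcases mul_eq_zero.1 this with h3 | h3
    · exact hδ0 (mul_self_eq_zero.1 h3)
    · exact e h3

end hilbert

section main

variable {F : Type*} [Field F] [Finite F] {L : Type*} [Group L]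

omit [Finite F] in
theorem conjGL_neg_one (h : GL (Fin 2) F) : conjGL h (-1) = -1 := by
  apply Subtype.ext
  rw [conjGL_val]
  have : (-1 : Matrix.SpecialLinearGroup (Fin 2) F).1 = -1 := rfl
  rw [this, Matrix.mul_neg, Matrix.mul_one, Matrix.neg_mul, ← Units.val_mul, mul_inv_cancel,
    Units.val_one]

/-- **An involutory automorphism of `PSL(2,F)` which fixes no four-group pointwise is induced by
an element of `GL(2,F)`.** -/
theorem exists_gl_of_inv (h2 : (2 : F) ≠ 0) (π : Matrix.SpecialLinearGroup (Fin 2) F →* L)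
    (hπ : Function.Surjective π) (hk : ∀ x, π x = 1 ↔ x = 1 ∨ x = -1) {w : MulAut L}
    (hw : ∀ x, w (w x) = x)
    (hno : ∀ a b : L, a ≠ 1 → b ≠ 1 → a ≠ b → a * a = 1 → b * b = 1 → a * b = b * a →
      w a = a → w b = b → False) :
    ∃ g : GL (Fin 2) F, ∀ x, w (π x) = π (conjGL g x) := by
  have hcen : π.ker ≤ Subgroup.center (Matrix.SpecialLinearGroup (Fin 2) F) := by
    intro x hx
    rw [MonoidHom.mem_ker, hk] at hx
    rcases hx with rfl | rfl
    · exact one_mem _
    · rw [Subgroup.mem_center_iff]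
      intro y
      rw [mul_neg, neg_mul, mul_one, one_mul]
  obtain ⟨g, σ, hgσ⟩ := exists_gl_ringEquiv π hπ hcen w
  set gs := Matrix.GeneralLinearGroup.map σ.toRingHom g with hgs
  have hgsval : ∀ i j, gs.1 i j = σ (g.1 i j) := fun i j => rfl
  have hββ : ∀ x, conjGL (g * gs) (fieldAut (σ * σ) x) = x ∨
      conjGL (g * gs) (fieldAut (σ * σ) x) = -x := by
    intro x
    have h1 := hw (π x)
    rw [hgσ, hgσ, map_eq_iff π hk] at h1
    have h3 : conjGL g (fieldAut σ (conjGL g (fieldAut σ x))) =
        conjGL (g * gs) (fieldAut (σ * σ) x) := by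
      have h4 := DFunLike.congr_fun (fieldAut_mul_conjGL σ g) (fieldAut σ x)
      rw [MulAut.mul_apply, MulAut.mul_apply] at h4
      rw [h4, map_mul, map_mul]
      rfl
    rw [h3] at h1
    exact h1
  have hσσ : σ * σ = 1 := by
    apply ringEquiv_eq_one h2
    intro a
    obtain ⟨x, rfl⟩ := exists_tr a
    have h1 : tr (conjGL (g * gs) (fieldAut (σ * σ) x)) = (σ * σ) (tr x) := by
      rw [tr_conjGL, tr_fieldAut]
    rcases hββ x with h | h
    · left; rw [← h1, h]
    · right; rw [← h1, h, tr_neg]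
  have hσσ' : ∀ a, σ (σ a) = a := fun a => DFunLike.congr_fun hσσ a
  have hm : ∀ x, conjGL (g * gs) x = x ∨ conjGL (g * gs) x = -x := by
    intro x
    have := hββ x
    rwa [hσσ, map_one, MulAut.one_apply] at this
  obtain ⟨m01, m10, m00⟩ := scalar_of_conj h2 _ hm
  by_cases hσ1 : σ = 1
  · refine ⟨g, fun x => ?_⟩
    rw [hgσ, hσ1, map_one, MulAut.one_apply]
  · exfalso
    -- `δ`
    obtain ⟨a₀, ha₀⟩ : ∃ a, σ a ≠ a := by
      by_contra hcon
      push Not at hcon
      exact hσ1 (RingEquiv.ext hcon)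
    set δ := a₀ - σ a₀ with hδdef
    have hδ0 : δ ≠ 0 := sub_ne_zero.2 (Ne.symm ha₀)
    have hδ : σ δ = -δ := by rw [hδdef, map_sub, hσσ']; ring
    set c := (g * gs).1 0 0 with hc
    have hcm : (g * gs).1 = c • (1 : Matrix (Fin 2) (Fin 2) F) := by
      ext i j
      fin_cases i <;> fin_cases j
      · simp [hc]
      · simpa using m01
      · simpa using m10
      · simpa using m00.symm
    have hc0 : c ≠ 0 := by
      intro h0
      have h3 : (g * gs).1.det ≠ 0 := (Matrix.GeneralLinearGroup.det (g * gs)).ne_zero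
      apply h3
      rw [hcm, h0, zero_smul, Matrix.det_zero]
    have hcomm : gs * g = g * gs := by
      have h3 : (g * gs) * g = g * (g * gs) := by
        apply Units.ext
        rw [Units.val_mul, Units.val_mul (a := g) (b := g * gs), hcm, Matrix.smul_mul, Matrix.one_mul,
          Matrix.mul_smul, Matrix.mul_one]
      rw [mul_assoc] at h3
      exact mul_left_cancel h3
    have hσc : σ c = c := by
      have h3 : (gs * g).1 0 0 = c := by rw [hcomm]
      rw [Units.val_mul, Matrix.mul_apply, Fin.sum_univ_two, hgsval, hgsval] at h3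
      have h4 : c = g.1 0 0 * σ (g.1 0 0) + g.1 0 1 * σ (g.1 1 0) := by
        rw [hc, Units.val_mul, Matrix.mul_apply, Fin.sum_univ_two, hgsval, hgsval]
      rw [h4, map_add, map_mul, map_mul, hσσ', hσσ', ← h4]
      exact h3
    obtain ⟨l, hl⟩ := exists_norm h2 σ hσσ' hδ0 hδ (c := c⁻¹) (by rw [map_inv₀, hσc])
    have hl0 : l ≠ 0 := by
      rintro rfl
      rw [zero_mul] at hl
      exact inv_ne_zero hc0 hl.symm
    have hent : ∀ i j, (g * gs).1 i j = g.1 i 0 * σ (g.1 0 j) + g.1 i 1 * σ (g.1 1 j) := by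
      intro i j
      rw [Units.val_mul, Matrix.mul_apply, Fin.sum_univ_two, hgsval, hgsval]
    have hlc : l * σ l * c = 1 := by rw [hl, inv_mul_cancel₀ hc0]
    have e00 : g.1 0 0 * σ (g.1 0 0) + g.1 0 1 * σ (g.1 1 0) = c := by rw [← hent]
    have e01 : g.1 0 0 * σ (g.1 0 1) + g.1 0 1 * σ (g.1 1 1) = 0 := by rw [← hent, m01]
    have e10 : g.1 1 0 * σ (g.1 0 0) + g.1 1 1 * σ (g.1 1 0) = 0 := by rw [← hent, m10]
    have e11 : g.1 1 0 * σ (g.1 0 1) + g.1 1 1 * σ (g.1 1 1) = c := by rw [← hent, ← m00]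
    obtain ⟨x₁, y₁, x₂, y₂, hD, f1, f2, f3, f4⟩ := exists_fixed_basis h2 σ hδ0 hδ
      (a := l * g.1 0 0) (b := l * g.1 0 1) (c := l * g.1 1 0) (d := l * g.1 1 1)
      (by rw [map_mul, map_mul]; linear_combination l * σ l * e00 + hlc)
      (by rw [map_mul, map_mul]; linear_combination l * σ l * e01)
      (by rw [map_mul, map_mul]; linear_combination l * σ l * e10)
      (by rw [map_mul, map_mul]; linear_combination l * σ l * e11 + hlc)
    have hdet : (!![x₁, x₂; y₁, y₂] : Matrix (Fin 2) (Fin 2) F).det ≠ 0 := by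
      rw [det_fin_two_of]; exact hD
    set h := Matrix.GeneralLinearGroup.mkOfDetNeZero _ hdet with hh
    have hval : h.1 = !![x₁, x₂; y₁, y₂] := rfl
    set hs := Matrix.GeneralLinearGroup.map σ.toRingHom h with hhs
    have hsval : ∀ i j, hs.1 i j = σ (h.1 i j) := fun i j => rfl
    have hgh : (g * hs).1 = l⁻¹ • h.1 := by
      ext i j
      rw [Units.val_mul, Matrix.mul_apply, Fin.sum_univ_two, hsval, hsval, Matrix.smul_apply, smul_eq_mul,
        eq_inv_mul_iff_mul_eq₀ hl0, hval]
      fin_cases i <;> fin_cases j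
      · change l * (g.1 0 0 * σ x₁ + g.1 0 1 * σ y₁) = x₁
        linear_combination f1
      · change l * (g.1 0 0 * σ x₂ + g.1 0 1 * σ y₂) = x₂
        linear_combination f3
      · change l * (g.1 1 0 * σ x₁ + g.1 1 1 * σ y₁) = y₁
        linear_combination f2
      · change l * (g.1 1 0 * σ x₂ + g.1 1 1 * σ y₂) = y₂
        linear_combination f4
    have hfix : ∀ y, fieldAut σ y = y → w (π (conjGL h y)) = π (conjGL h y) := by
      intro y hy
      rw [hgσ]
      have h4 := DFunLike.congr_fun (fieldAut_mul_conjGL σ h) y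
      rw [MulAut.mul_apply, MulAut.mul_apply, hy] at h4
      rw [h4, ← MulAut.mul_apply, ← map_mul]
      congr 1
      apply Subtype.ext
      have h5 : (conjGL (g * hs) y).1 * (g * hs).1 = (g * hs).1 * y.1 := by
        rw [conjGL_val, Matrix.mul_assoc, inv_val_mul_val, Matrix.mul_one]
      rw [hgh, Matrix.mul_smul, Matrix.smul_mul] at h5
      have h6 : (conjGL (g * hs) y).1 * h.1 = h.1 * y.1 := smul_right_injective _ (inv_ne_zero hl0) h5
      rw [conjGL_val (g := h), ← h6, Matrix.mul_assoc, ← Units.val_mul, mul_inv_cancel, Units.val_one,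
        Matrix.mul_one]
    -- the four-group
    let K : Subfield F := RingHom.eqLocusField (σ : F →+* F) (RingHom.id F)
    have hK : ∀ a, a ∈ K ↔ σ a = a := fun a => Iff.rfl
    have h2K : (2 : K) ≠ 0 := by
      intro h3
      apply h2
      exact congrArg Subtype.val h3
    obtain ⟨a, b, hab⟩ := exists_sum_sq h2K (-1)
    have hab' : (a : F) ^ 2 + (b : F) ^ 2 = -1 := by
      have := congrArg Subtype.val hab
      simpa only [_root_.Subfield.coe_add, _root_.SubmonoidClass.coe_pow, _root_.NegMemClass.coe_neg, _root_.OneMemClass.coe_one] using this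
    let j : Matrix.SpecialLinearGroup (Fin 2) F := mk a b b (-a) (by linear_combination -hab')
    have hj : fieldAut σ j = j := by
      refine ext_ent ?_ ?_ ?_ ?_
      · exact (hK _).1 a.2
      · exact (hK _).1 b.2
      · exact (hK _).1 b.2
      · change σ (-(a : F)) = -(a : F)
        rw [map_neg, (hK _).1 a.2]
    have hi : fieldAut σ (jm F) = jm F := by
      refine ext_ent ?_ ?_ ?_ ?_
      · change σ 0 = 0
        exact map_zero σ
      · change σ (-1) = -1
        rw [map_neg, map_one]
      · change σ 1 = 1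
        exact map_one σ
      · change σ 0 = 0
        exact map_zero σ
    have hii : jm F * jm F = -1 := sq_of_tr (by simp)
    have hjj : j * j = -1 := sq_of_tr rfl
    have h1ne : (1 : Matrix.SpecialLinearGroup (Fin 2) F) ≠ -1 := by
      intro h
      have h3 := congrArg (fun x => ent x 0 0) h
      have hn' : ent (-1 : Matrix.SpecialLinearGroup (Fin 2) F) 0 0 = -1 := rfl
      simp only [ent_one_00, hn'] at h3
      exact h2 (by linear_combination h3)
    have hne1 : ∀ y : Matrix.SpecialLinearGroup (Fin 2) F, y * y = -1 → π (conjGL h y) ≠ 1 ∧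
        π (conjGL h y) * π (conjGL h y) = 1 := by
      intro y hy
      constructor
      · intro h3
        rcases (hk _).1 h3 with h4 | h4
        · have h5 : y = 1 := by rwa [map_eq_one_iff _ (conjGL h).injective] at h4
          rw [h5, one_mul] at hy
          exact h1ne hy
        · rw [← conjGL_neg_one h] at h4
          have h5 := (conjGL h).injective h4
          rw [h5, neg_mul_neg, one_mul] at hy
          exact h1ne hy
      · rw [← map_mul, ← map_mul, hy, conjGL_neg_one]
        exact (hk _).2 (Or.inr rfl)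
    refine hno (π (conjGL h (jm F))) (π (conjGL h j)) (hne1 _ hii).1 (hne1 _ hjj).1 ?_
      (hne1 _ hii).2 (hne1 _ hjj).2 ?_ (hfix _ hi) (hfix _ hj)
    · intro h3
      rcases (map_eq_iff π hk).1 h3 with h4 | h4
      · have h5 := (conjGL h).injective h4
        have a1 := congrArg (fun x => ent x 0 1) h5
        have a2 := congrArg (fun x => ent x 1 0) h5
        change (-1 : F) = b at a1
        change (1 : F) = b at a2
        exact h2 (by linear_combination a2 - a1)
      · have h6 : -(conjGL h j) = conjGL h (-j) := by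
          rw [← neg_one_mul, ← conjGL_neg_one h, ← map_mul, neg_one_mul]
        rw [h6] at h4
        have h5 := (conjGL h).injective h4
        have a1 := congrArg (fun x => ent x 0 1) h5
        have a2 := congrArg (fun x => ent x 1 0) h5
        change (-1 : F) = -b at a1
        change (1 : F) = -b at a2
        exact h2 (by linear_combination a2 - a1)
    · rw [← map_mul, ← map_mul, ← map_mul, ← map_mul, map_eq_iff π hk]
      right
      have h3 : jm F * j = -1 * (j * jm F) := by
        rw [neg_one_mul]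
        refine ext_ent ?_ ?_ ?_ ?_
        · rw [neg_ent, ent_mul, ent_mul]
          change (0 : F) * a + -1 * b = -(a * 0 + b * 1)
          ring
        · rw [neg_ent, ent_mul, ent_mul]
          change (0 : F) * b + -1 * (-a) = -(a * (-1) + b * 0)
          ring
        · rw [neg_ent, ent_mul, ent_mul]
          change (1 : F) * a + 0 * b = -(b * 0 + -a * 1)
          ring
        · rw [neg_ent, ent_mul, ent_mul]
          change (1 : F) * b + 0 * (-a) = -(b * (-1) + -a * 0)
          ring
      rw [h3, map_mul, conjGL_neg_one, neg_one_mul]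

end main

section conic

variable (F : Type*) [Field F]

/-- The points of the conic `a² - c b² = 1`. -/
@[ext] structure Conic (c : F) where
  /-- first coordinate -/
  re : F
  /-- second coordinate -/
  im : F
  /-- the equation -/
  eqn : re ^ 2 - c * im ^ 2 = 1

instance (c : F) [Finite F] : Finite (Conic F c) :=
  Finite.of_injective (fun p : Conic F c => (p.re, p.im)) (by
    intro p q h
    exact Conic.ext (congrArg Prod.fst h) (congrArg Prod.snd h))

variable {F}

theorem card_conic_of_sq [Finite F] (h2 : (2 : F) ≠ 0) (c i : F) (hi : i * i = c) (hi0 : i ≠ 0) :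
    Nat.card (Conic F c) = Nat.card F - 1 := by
  have hu : Nat.card Fˣ = Nat.card F - 1 := Nat.card_units F
  rw [← hu]
  refine Nat.card_congr ⟨fun p => ⟨p.re + p.im * i, p.re - p.im * i, ?_, ?_⟩,
    fun z => ⟨(z.1 + z⁻¹.1) / 2, (z.1 - z⁻¹.1) / (2 * i), ?_⟩, ?_, ?_⟩
  · have := p.eqn
    linear_combination this - p.im ^ 2 * hi
  · have := p.eqn
    linear_combination this - p.im ^ 2 * hi
  · have hz : z.1 * z⁻¹.1 = 1 := z.mul_inv
    change ((z.1 + z⁻¹.1) / 2) ^ 2 - c * ((z.1 - z⁻¹.1) / (2 * i)) ^ 2 = 1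
    rw [← hi]
    field_simp
    linear_combination 4 * hz
  · intro p
    refine Conic.ext ?_ ?_
    · change ((p.re + p.im * i) + (p.re - p.im * i)) / 2 = p.re
      field_simp; ring
    · change ((p.re + p.im * i) - (p.re - p.im * i)) / (2 * i) = p.im
      field_simp; ring
  · intro z
    apply Units.ext
    change (z.1 + z⁻¹.1) / 2 + (z.1 - z⁻¹.1) / (2 * i) * i = z.1
    field_simp
    ring

theorem card_conic_of_not_sq [Finite F] (h2 : (2 : F) ≠ 0) {c : F} (hi : ∀ i : F, i * i ≠ c) :
    Nat.card (Conic F c) = Nat.card F + 1 := by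
  have hne : ∀ t : F, 1 - c * t ^ 2 ≠ 0 := by
    intro t h
    have ht : t ≠ 0 := by
      rintro rfl
      simp at h
    apply hi t⁻¹
    field_simp
    linear_combination h
  rw [← Finite.card_option]
  symm
  let f : Option F → Conic F c := fun o => match o with
    | none => ⟨-1, 0, by simp only [_root_.even_two, _root_.Even.neg_pow, _root_.one_pow, _root_.ne_eq, _root_.OfNat.ofNat_ne_zero, _root_.not_false_eq_true, _root_.zero_pow, _root_.MulZeroClass.mul_zero, _root_.sub_zero]⟩
    | some t => ⟨(1 + c * t ^ 2) / (1 - c * t ^ 2), 2 * t / (1 - c * t ^ 2), by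
        have := hne t
        field_simp
        ring⟩
  refine Nat.card_congr (Equiv.ofBijective f ⟨?_, ?_⟩)
  · intro a b hab
    have key : ∀ t : F, (1 + c * t ^ 2) / (1 - c * t ^ 2) ≠ -1 := by
      intro t h
      have := hne t
      field_simp at h
      exact h2 (by linear_combination h)
    cases a with
    | none =>
      cases b with
      | none => rfl
      | some t =>
        have h1 : (-1 : F) = (1 + c * t ^ 2) / (1 - c * t ^ 2) := congrArg Conic.re hab
        exact absurd h1.symm (key t)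
    | some s =>
      cases b with
      | none =>
        have h1 : (1 + c * s ^ 2) / (1 - c * s ^ 2) = -1 := congrArg Conic.re hab
        exact absurd h1 (key s)
      | some t =>
        have h1 : (1 + c * s ^ 2) / (1 - c * s ^ 2) = (1 + c * t ^ 2) / (1 - c * t ^ 2) :=
          congrArg Conic.re hab
        have h3 : 2 * s / (1 - c * s ^ 2) = 2 * t / (1 - c * t ^ 2) := congrArg Conic.im hab
        have hs := hne s
        have ht := hne t
        congr 1
        have e1 : ∀ x : F, 1 - c * x ^ 2 ≠ 0 →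
            x * (1 + (1 + c * x ^ 2) / (1 - c * x ^ 2)) = 2 * x / (1 - c * x ^ 2) := by
          intro x hx
          rw [eq_div_iff hx, mul_assoc, add_mul, div_mul_cancel₀ _ hx]
          ring
        have e2 := e1 s hs
        have e3 := e1 t ht
        rw [h1, h3, ← e3] at e2
        have e4 : 1 + (1 + c * t ^ 2) / (1 - c * t ^ 2) ≠ 0 := by
          intro h
          exact key t (by linear_combination h)
        exact mul_right_cancel₀ e4 e2
  · rintro ⟨a, b, hab⟩
    by_cases ha : 1 + a = 0
    · refine ⟨none, ?_⟩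
      refine Conic.ext ?_ ?_
      · change (-1 : F) = a
        linear_combination -ha
      · change (0 : F) = b
        have ha' : a = -1 := by linear_combination ha
        rw [ha'] at hab
        have hb : c * b ^ 2 = 0 := by linear_combination -hab
        have hc : c ≠ 0 := fun h => hi 0 (by rw [h, mul_zero])
        rcases mul_eq_zero.1 hb with h | h
        · exact absurd h hc
        · exact (pow_eq_zero_iff (two_ne_zero) |>.1 h).symm
    · refine ⟨some (b / (1 + a)), ?_⟩
      have h3 : (1 + a) ^ 2 - c * b ^ 2 = 2 * (1 + a) := by linear_combination hab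
      have h4 : (1 + a) ^ 2 - c * b ^ 2 ≠ 0 := by
        rw [h3]; exact mul_ne_zero h2 ha
      have h5 : 1 - c * (b / (1 + a)) ^ 2 = 2 / (1 + a) := by
        field_simp
        linear_combination h3
      refine Conic.ext ?_ ?_
      · change (1 + c * (b / (1 + a)) ^ 2) / (1 - c * (b / (1 + a)) ^ 2) = a
        rw [h5]
        field_simp
        linear_combination -hab
      · change 2 * (b / (1 + a)) / (1 - c * (b / (1 + a)) ^ 2) = b
        rw [h5]
        field_simp

/-- The number of points of the conic `a² + d b² = 1` for a nonsquare `d`. -/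
theorem card_conic [Finite F] (h2 : (2 : F) ≠ 0) {d : F} (hd : ¬ IsSquare d) :
    (Nat.card F % 4 = 1 ∧ Nat.card (Conic F (-d)) = Nat.card F + 1) ∨
      (Nat.card F % 4 = 3 ∧ Nat.card (Conic F (-d)) = Nat.card F - 1) := by
  have := Fintype.ofFinite F
  have hodd := odd_card h2
  have h4 := FiniteField.isSquare_neg_one_iff (F := F)
  rw [← Nat.card_eq_fintype_card] at h4
  have hd0 : d ≠ 0 := by
    rintro rfl
    exact hd ⟨0, by simp⟩
  by_cases hs : IsSquare (-1 : F)
  · left
    have h5 := h4.1 hs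
    refine ⟨by omega, card_conic_of_not_sq h2 ?_⟩
    intro i hi
    obtain ⟨j, hj⟩ := hs
    apply hd
    exact ⟨i * j, by linear_combination hi + i * i * hj⟩
  · right
    have h5 : ¬ Nat.card F % 4 ≠ 3 := fun h => hs (h4.2 h)
    have h6 : IsSquare (-d) := by
      have hchar : ringChar F ≠ 2 := by
        intro h
        apply h2
        have : CharP F 2 := by rw [← h]; exact ringChar.charP F
        exact_mod_cast CharP.cast_eq_zero F 2
      rw [← neg_one_mul, FiniteField.isSquare_iff hchar (mul_ne_zero (neg_ne_zero.2 one_ne_zero) hd0), mul_pow]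
      have a1 : (-1 : F) ^ (Fintype.card F / 2) = -1 := by
        rcases FiniteField.pow_dichotomy hchar (neg_ne_zero.2 (one_ne_zero (α := F))) with h | h
        · exact absurd ((FiniteField.isSquare_iff hchar (neg_ne_zero.2 one_ne_zero)).2 h) hs
        · exact h
      have a2 : d ^ (Fintype.card F / 2) = -1 := by
        rcases FiniteField.pow_dichotomy hchar hd0 with h | h
        · exact absurd ((FiniteField.isSquare_iff hchar hd0).2 h) hd
        · exact h
      rw [a1, a2, neg_mul_neg, one_mul]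
    obtain ⟨i, hi⟩ := h6
    refine ⟨by omega, card_conic_of_sq h2 (-d) i hi.symm ?_⟩
    rintro rfl
    rw [mul_zero] at hi
    exact hd0 (neg_eq_zero.1 hi)

end conic

section torus

variable {F : Type*} [Field F]

/-- a matrix commuting with `m` of trace `0`, `m ≠ 0`, is `a + b m` -/
theorem exists_lin (h2 : (2 : F) ≠ 0) {P Q R c : F} (hc : P ^ 2 + Q * R = c) (hc0 : c ≠ 0)
    {A B C D : F} (h00 : B * R = Q * C) (h01 : A * Q - B * P = P * B + Q * D)
    (h10 : C * P + D * R = R * A - P * C) :
    ∃ a b : F, A = a + b * P ∧ B = b * Q ∧ C = b * R ∧ D = a - b * P := by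
  set y0 := (A - D) / 2 with hy0
  set a := (A + D) / 2 with ha
  have hA : A = a + y0 := by rw [ha, hy0]; field_simp; ring
  have hD : D = a - y0 := by rw [ha, hy0]; field_simp; ring
  have e2 : y0 * Q = B * P := mul_left_cancel₀ h2 (by rw [hA, hD] at h01; linear_combination h01)
  have e3 : C * P = y0 * R := mul_left_cancel₀ h2 (by rw [hA, hD] at h10; linear_combination h10)
  refine ⟨a, (y0 * P + B * R) / c, ?_, ?_, ?_, ?_⟩
  · rw [hA]
    field_simp
    rw [← hc]
    linear_combination R * e2
  · field_simp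
    rw [← hc]
    linear_combination -P * e2
  · field_simp
    rw [← hc]
    linear_combination P * e3 - R * h00
  · rw [hD]
    field_simp
    rw [← hc]
    linear_combination -R * e2

variable {L : Type*} [Group L]

theorem conj_eq_iff (g : GL (Fin 2) F) (x y : Matrix.SpecialLinearGroup (Fin 2) F) :
    conjGL g x = y ↔ g.1 * x.1 = y.1 * g.1 := by
  constructor
  · rintro rfl
    rw [conjGL_val, Matrix.mul_assoc, inv_val_mul_val, Matrix.mul_one]
  · intro h
    apply Subtype.ext
    rw [conjGL_val, h, Matrix.mul_assoc, ← Units.val_mul, mul_inv_cancel, Units.val_one,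
      Matrix.mul_one]

/-- The lift of an outer involution anticommutes with the lift of a fixed involution `t`. -/
theorem anticomm (h2 : (2 : F) ≠ 0) (π : Matrix.SpecialLinearGroup (Fin 2) F →* L)
    (hπ : Function.Surjective π) (hk : ∀ x, π x = 1 ↔ x = 1 ∨ x = -1) {w : MulAut L}
    (hw : ∀ x, w (w x) = x) {g : GL (Fin 2) F} (hg : ∀ x, w (π x) = π (conjGL g x))
    (hne : ∃ x, w x ≠ x) {i : Matrix.SpecialLinearGroup (Fin 2) F}
    (hi : ent i 1 1 = - ent i 0 0) (hwt : w (π i) = π i) (hni : ∃ x, w x ≠ π i * x * (π i)⁻¹) :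
    conjGL g i = -i := by
  rw [hg, map_eq_iff π hk] at hwt
  rcases hwt with h | h
  · exfalso
    have hm : ∀ x, conjGL (g * g) x = x ∨ conjGL (g * g) x = -x := by
      intro x
      have h1 := hw (π x)
      rw [hg, hg, map_eq_iff π hk] at h1
      rwa [map_mul, MulAut.mul_apply]
    obtain ⟨m01, m10, m00⟩ := scalar_of_conj h2 _ hm
    rw [Units.val_mul, Matrix.mul_apply, Fin.sum_univ_two] at m01 m10
    rw [Units.val_mul, Matrix.mul_apply, Fin.sum_univ_two, Matrix.mul_apply, Fin.sum_univ_two] at m00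
    rw [conj_eq_iff] at h
    have h00 := congrFun (congrFun h 0) 0
    have h01 := congrFun (congrFun h 0) 1
    have h10 := congrFun (congrFun h 1) 0
    rw [Matrix.mul_apply, Fin.sum_univ_two, Matrix.mul_apply, Fin.sum_univ_two] at h00 h01 h10
    have hd := det_eq i
    rw [hi] at hd
    have hi' : i.1 1 1 = -i.1 0 0 := hi
    have hd' : i.1 0 0 ^ 2 + i.1 0 1 * i.1 1 0 = -1 := by
      have : i.1 0 0 * -i.1 0 0 - i.1 0 1 * i.1 1 0 = 1 := hd
      linear_combination -this
    rw [hi'] at h01 h10
    obtain ⟨a, b, e1, e2, e3, e4⟩ := exists_lin h2 hd' (neg_ne_zero.2 one_ne_zero)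
      (A := g.1 0 0) (B := g.1 0 1) (C := g.1 1 0) (D := g.1 1 1)
      (by linear_combination h00) (by linear_combination h01) (by linear_combination h10)
    rw [e1, e2, e4] at m01
    rw [e1, e3, e4] at m10
    rw [e1, e2, e3, e4] at m00
    have f1 : a * b * i.1 0 1 = 0 := mul_left_cancel₀ h2 (by linear_combination m01)
    have f2 : a * b * i.1 1 0 = 0 := mul_left_cancel₀ h2 (by linear_combination m10)
    have f3 : a * b * i.1 0 0 = 0 :=
      mul_left_cancel₀ h2 (mul_left_cancel₀ h2 (by linear_combination m00))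
    have f4 : a * b = 0 := by
      have : a * b = -(a * b * (i.1 0 0 ^ 2 + i.1 0 1 * i.1 1 0)) := by rw [hd']; ring
      rw [this]
      linear_combination -i.1 0 0 * f3 - i.1 1 0 * f1
    rcases mul_eq_zero.1 f4 with h0 | h0
    · -- `g = b i`
      obtain ⟨x, hx⟩ := hni
      obtain ⟨y, rfl⟩ := hπ x
      apply hx
      rw [hg, ← map_inv, ← map_mul, ← map_mul]
      congr 1
      rw [conj_eq_iff]
      have hgi : g.1 = b • i.1 := by
        ext r s
        rw [Matrix.smul_apply, smul_eq_mul]
        fin_cases r <;> fin_cases s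
        · change g.1 0 0 = b * i.1 0 0
          rw [e1, h0, zero_add]
        · exact e2
        · exact e3
        · change g.1 1 1 = b * i.1 1 1
          rw [e4, h0, hi']; ring
      rw [hgi, Matrix.smul_mul, Matrix.mul_smul]
      congr 1
      have : (i * y * i⁻¹).1 * i.1 = (i * y * i⁻¹ * i).1 := rfl
      rw [this, inv_mul_cancel_right]
      rfl
    · -- `g` scalar
      obtain ⟨x, hx⟩ := hne
      obtain ⟨y, rfl⟩ := hπ x
      apply hx
      rw [hg]
      congr 1
      rw [conj_eq_iff]
      have hgi : g.1 = a • (1 : Matrix (Fin 2) (Fin 2) F) := by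
        ext r s
        rw [Matrix.smul_apply, smul_eq_mul]
        fin_cases r <;> fin_cases s
        · change g.1 0 0 = a * (1 : Matrix (Fin 2) (Fin 2) F) 0 0
          rw [e1, h0, Matrix.one_apply_eq]; ring
        · change g.1 0 1 = a * (1 : Matrix (Fin 2) (Fin 2) F) 0 1
          rw [e2, h0, Matrix.one_apply_ne (by decide)]; ring
        · change g.1 1 0 = a * (1 : Matrix (Fin 2) (Fin 2) F) 1 0
          rw [e3, h0, Matrix.one_apply_ne (by decide)]; ring
        · change g.1 1 1 = a * (1 : Matrix (Fin 2) (Fin 2) F) 1 1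
          rw [e4, h0, Matrix.one_apply_eq]; ring
      rw [hgi, Matrix.smul_mul, Matrix.mul_smul, Matrix.one_mul, Matrix.mul_one]
  · exact h

/-- a lift anticommuting with `i` inverts the torus of `i` -/
theorem conj_comb (h2 : (2 : F) ≠ 0) {g : GL (Fin 2) F} {i : Matrix.SpecialLinearGroup (Fin 2) F}
    (hi : ent i 1 1 = - ent i 0 0) (hgi : conjGL g i = -i)
    {x : Matrix.SpecialLinearGroup (Fin 2) F} (hx : x * i = i * x) : conjGL g x = x⁻¹ := by
  obtain ⟨p, rfl⟩ := exists_comb h2 hi hx
  have hinv : (comb i hi p)⁻¹ = comb i hi ⟨p.re, -p.im, by rw [neg_sq, p.eqn]⟩ := by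
    rw [ent_inv]
    refine ext_ent ?_ ?_ ?_ ?_ <;>
      simp only [mk_00, mk_01, mk_10, mk_11, comb_00, comb_01, comb_10, comb_11] <;> ring
  have hval : ∀ q : Circ F, (comb i hi q).1 = q.re • (1 : Matrix (Fin 2) (Fin 2) F) + q.im • i.1 := by
    intro q
    have e00 : i.1 0 0 = ent i 0 0 := rfl
    have e01 : i.1 0 1 = ent i 0 1 := rfl
    have e10 : i.1 1 0 = ent i 1 0 := rfl
    have e11 : i.1 1 1 = ent i 1 1 := rfl
    ext a b
    fin_cases a <;> fin_cases b
    · change q.re + q.im * ent i 0 0 = _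
      simp [e00]
    · change q.im * ent i 0 1 = _
      simp [e01]
    · change q.im * ent i 1 0 = _
      simp [e10]
    · change q.re - q.im * ent i 0 0 = _
      simp [e11, hi]
      ring
  rw [hinv, conj_eq_iff, hval, hval]
  rw [conj_eq_iff] at hgi
  have hni : (-i).1 = -i.1 := rfl
  rw [hni, Matrix.neg_mul] at hgi
  simp only [Matrix.mul_add, Matrix.add_mul, Matrix.mul_smul, Matrix.smul_mul, Matrix.mul_one,
    Matrix.one_mul, hgi]
  rw [smul_neg, neg_smul]

/-- An outer involution centralizing `t` inverts the torus of `t`. -/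
theorem inverts_torus_hom [Finite F] (h2 : (2 : F) ≠ 0)
    (π : Matrix.SpecialLinearGroup (Fin 2) F →* L)
    (hπ : Function.Surjective π) (hk : ∀ x, π x = 1 ↔ x = 1 ∨ x = -1) {w : MulAut L}
    (hw : ∀ x, w (w x) = x) {g : GL (Fin 2) F} (hg : ∀ x, w (π x) = π (conjGL g x))
    (hne : ∃ x, w x ≠ x) {t : L} (hwt : w t = t) (hni : ∃ x, w x ≠ t * x * t⁻¹)
    {T : Subgroup L} {m : ℕ} (hT : TorusAt t T m) : ∀ x ∈ T, w x = x⁻¹ := by
  obtain ⟨i, rfl, -, hi⟩ := exists_lift_inv π h2 hπ hk hT.ne_one hT.sq
  have hgi := anticomm h2 π hπ hk hw hg hne hi hwt hni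
  intro x hx
  have hxt := hT.comm x hx
  obtain ⟨y, rfl⟩ := hπ x
  rw [← map_mul, ← map_mul, map_eq_iff π hk] at hxt
  rcases hxt with h | h
  · rw [hg, conj_comb h2 hi hgi h, map_inv]
  · have h3 := (anti h2 hi h).1
    have h4 : π y * π y = 1 := by
      rw [← map_mul, sq_of_tr h3]
      exact (hk _).2 (Or.inr rfl)
    rcases hT.eq_of_sq hx h4 with h5 | h5
    · rw [h5, map_one, inv_one]
    · rw [h5, hwt]
      exact (inv_eq_of_mul_eq_one_right hT.sq).symm

/-- The centralizer in `L` of an outer involution `w` centralizing `t` contains a cyclic group `B`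
of order `(q + ε) / 2` inverted by `t`. -/
theorem exists_outer_torus_hom [Finite F] (h2 : (2 : F) ≠ 0)
    (π : Matrix.SpecialLinearGroup (Fin 2) F →* L)
    (hπ : Function.Surjective π) (hk : ∀ x, π x = 1 ↔ x = 1 ∨ x = -1) {w : MulAut L}
    (hw : ∀ x, w (w x) = x) {g : GL (Fin 2) F} (hg : ∀ x, w (π x) = π (conjGL g x))
    {t : L} (ht1 : t ≠ 1) (ht : t * t = 1) (hwt : w t = t) (hni : ∀ c : L, ∃ x, w x ≠ c * x * c⁻¹) :
    ∃ B : Subgroup L, IsCyclic B ∧ (∀ x ∈ B, w x = x) ∧ (∀ x ∈ B, t * x * t⁻¹ = x⁻¹) ∧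
      ((Nat.card F % 4 = 1 ∧ 2 * Nat.card B = Nat.card F + 1) ∨
        (Nat.card F % 4 = 3 ∧ 2 * Nat.card B = Nat.card F - 1)) := by
  obtain ⟨i, rfl, -, hi⟩ := exists_lift_inv π h2 hπ hk ht1 ht
  have hne : ∃ x, w x ≠ x := by
    obtain ⟨x, hx⟩ := hni 1
    exact ⟨x, by simpa using hx⟩
  have hgi := anticomm h2 π hπ hk hw hg hne hi hwt (hni _)
  rw [conj_eq_iff] at hgi
  have hneg : (-i).1 = -i.1 := rfl
  rw [hneg, Matrix.neg_mul] at hgi
  have hi' : i.1 1 1 = -i.1 0 0 := hi
  have hd' : i.1 0 0 ^ 2 + i.1 0 1 * i.1 1 0 = -1 := by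
    have hd := det_eq i
    rw [hi] at hd
    have : i.1 0 0 * -i.1 0 0 - i.1 0 1 * i.1 1 0 = 1 := hd
    linear_combination -this
  have h00 := congrFun (congrFun hgi 0) 0
  have h01 := congrFun (congrFun hgi 0) 1
  have h10 := congrFun (congrFun hgi 1) 0
  have h11 := congrFun (congrFun hgi 1) 1
  rw [Matrix.neg_apply, Matrix.mul_apply, Fin.sum_univ_two, Matrix.mul_apply, Fin.sum_univ_two]
    at h00 h01 h10 h11
  rw [hi'] at h01 h10 h11
  -- trace of `g` vanishes
  have htr : g.1 1 1 = - g.1 0 0 := by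
    have h3 : (g.1 0 0 + g.1 1 1) * i.1 0 1 = 0 := by linear_combination h01
    have h5 : (2 : F) * ((g.1 0 0 + g.1 1 1) * i.1 0 0) = 0 := by
      linear_combination h00 - h11
    have h6 : (g.1 0 0 + g.1 1 1) * i.1 0 0 = 0 := by
      rcases mul_eq_zero.1 h5 with h | h
      · exact absurd h h2
      · exact h
    have h7 : g.1 0 0 + g.1 1 1 = 0 := by
      have : g.1 0 0 + g.1 1 1 = -((g.1 0 0 + g.1 1 1) *
          (i.1 0 0 ^ 2 + i.1 0 1 * i.1 1 0)) := by rw [hd']; ring
      rw [this]
      linear_combination -i.1 0 0 * h6 - i.1 1 0 * h3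
    linear_combination h7
  set P := g.1 0 0 with hP
  set Q := g.1 0 1 with hQ
  set R := g.1 1 0 with hR
  set d := g.1.det with hdd
  have hdet : d = -(P ^ 2 + Q * R) := by
    rw [hdd, det_fin_two, htr, ← hP, ← hQ, ← hR]; ring
  have hd0 : d ≠ 0 := (Matrix.GeneralLinearGroup.det g).ne_zero
  have hnsq : ¬ IsSquare d := by
    rintro ⟨e, he⟩
    have he0 : e ≠ 0 := by
      rintro rfl
      rw [mul_zero] at he
      exact hd0 he
    obtain ⟨s, hs⟩ := conjGL_of_det_sq g e he0 (by rw [← hdd, he, sq])
    obtain ⟨x, hx⟩ := hni (π s)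
    obtain ⟨y, rfl⟩ := hπ x
    apply hx
    rw [hg, hs, map_mul, map_mul, map_inv]
  -- the fixed points of `g`
  let A : Subgroup (Matrix.SpecialLinearGroup (Fin 2) F) :=
    { carrier := {x | conjGL g x = x}
      one_mem' := map_one _
      mul_mem' := fun {x y} hx hy => by
        change conjGL g (x * y) = x * y
        rw [map_mul, hx, hy]
      inv_mem' := fun {x} hx => by
        change conjGL g x⁻¹ = x⁻¹
        rw [map_inv, hx] }
  have hmemA : ∀ x, x ∈ A ↔ conjGL g x = x := fun x => Iff.rfl
  let cm : Conic F (-d) → Matrix.SpecialLinearGroup (Fin 2) F := fun p =>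
    mk (p.re + p.im * P) (p.im * Q) (p.im * R) (p.re - p.im * P) (by
      linear_combination p.eqn - p.im ^ 2 * hdet)
  have cval : ∀ q : Conic F (-d), (cm q).1 = q.re • (1 : Matrix (Fin 2) (Fin 2) F) + q.im • g.1 := by
    intro q
    ext a b
    fin_cases a <;> fin_cases b
    · change q.re + q.im * P = _
      simp [hP]
    · change q.im * Q = _
      simp [hQ]
    · change q.im * R = _
      simp [hR]
    · change q.re - q.im * P = _
      simp [htr]
      ring
  have cmem : ∀ q, cm q ∈ A := by
    intro q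
    rw [hmemA, conj_eq_iff, cval]
    simp only [Matrix.mul_add, Matrix.add_mul, Matrix.mul_smul, Matrix.smul_mul, Matrix.mul_one,
      Matrix.one_mul]
  have cinj : ∀ p q, cm p = cm q → p = q := by
    intro p q h
    have a00 := congrArg (fun x => ent x 0 0) h
    have a01 := congrArg (fun x => ent x 0 1) h
    have a10 := congrArg (fun x => ent x 1 0) h
    have a11 := congrArg (fun x => ent x 1 1) h
    change p.re + p.im * P = q.re + q.im * P at a00
    change p.im * Q = q.im * Q at a01
    change p.im * R = q.im * R at a10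
    change p.re - p.im * P = q.re - q.im * P at a11
    have ha : p.re = q.re := mul_left_cancel₀ h2 (by linear_combination a00 + a11)
    have hb : p.im = q.im := by
      have h3 : (p.im - q.im) * P = 0 := by rw [ha] at a00; linear_combination a00
      have h4 : (p.im - q.im) * Q = 0 := by linear_combination a01
      have h5 : (p.im - q.im) * d = 0 := by
        linear_combination -P * h3 - R * h4 + (p.im - q.im) * hdet
      rcases mul_eq_zero.1 h5 with h6 | h6
      · exact sub_eq_zero.1 h6
      · exact absurd h6 hd0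
    exact Conic.ext ha hb
  have csurj : ∀ x ∈ A, ∃ q, cm q = x := by
    intro x hx
    rw [hmemA, conj_eq_iff] at hx
    have b00 := congrFun (congrFun hx 0) 0
    have b01 := congrFun (congrFun hx 0) 1
    have b10 := congrFun (congrFun hx 1) 0
    rw [Matrix.mul_apply, Fin.sum_univ_two, Matrix.mul_apply, Fin.sum_univ_two] at b00 b01 b10
    rw [htr, ← hP, ← hQ] at b01
    rw [htr, ← hP, ← hR] at b10
    rw [← hQ, ← hR] at b00
    obtain ⟨a, b, e1, e2, e3, e4⟩ := exists_lin h2 (P := P) (Q := Q) (R := R) rfl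
      (by intro h; apply hd0; rw [hdet, h, neg_zero])
      (A := x.1 0 0) (B := x.1 0 1) (C := x.1 1 0) (D := x.1 1 1)
      (by linear_combination -b00) (by linear_combination -b01) (by linear_combination -b10)
    have hdx := det_eq x
    change x.1 0 0 * x.1 1 1 - x.1 0 1 * x.1 1 0 = 1 at hdx
    refine ⟨⟨a, b, ?_⟩, ext_ent ?_ ?_ ?_ ?_⟩
    · rw [e1, e2, e3, e4] at hdx
      linear_combination hdx + b ^ 2 * hdet
    · exact e1.symm
    · exact e2.symm
    · exact e3.symm
    · exact e4.symm
  have hcardA : Nat.card A = Nat.card (Conic F (-d)) := by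
    symm
    refine Nat.card_congr (Equiv.ofBijective (fun p => (⟨cm p, cmem p⟩ : A)) ⟨?_, ?_⟩)
    · intro p q h
      exact cinj p q (congrArg Subtype.val h)
    · rintro ⟨x, hx⟩
      obtain ⟨q, hq⟩ := csurj x hx
      exact ⟨q, Subtype.ext hq⟩
  -- cyclic
  have hAcyc : IsCyclic A := by
    obtain ⟨ι, hι⟩ : ∃ ι : AlgebraicClosure F, ι * ι = algebraMap F (AlgebraicClosure F) (-d) := by
      obtain ⟨ι, hι⟩ := IsAlgClosed.exists_eq_mul_self (algebraMap F (AlgebraicClosure F) (-d))
      exact ⟨ι, hι.symm⟩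
    let φ := algebraMap F (AlgebraicClosure F)
    have hι' : ι * ι = φ (-d) := hι
    have hι0 : ι ≠ 0 := by
      rintro rfl
      rw [mul_zero] at hι'
      have : -d = 0 := φ.injective (by rw [← hι', map_zero])
      exact hd0 (neg_eq_zero.1 this)
    have h2' : (2 : AlgebraicClosure F) ≠ 0 := by
      intro h
      apply h2
      apply φ.injective
      rw [map_ofNat, map_zero, h]
    let re : Matrix.SpecialLinearGroup (Fin 2) F → F := fun x => (ent x 0 0 + ent x 1 1) / 2
    let im : Matrix.SpecialLinearGroup (Fin 2) F → F := fun x =>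
      (((ent x 0 0 - ent x 1 1) / 2 * P + ent x 0 1 * R)) / (-d)
    have hre : ∀ p : Conic F (-d), re (cm p) = p.re := by
      intro p
      change ((p.re + p.im * P) + (p.re - p.im * P)) / 2 = p.re
      field_simp
      ring
    have him : ∀ p : Conic F (-d), im (cm p) = p.im := by
      intro p
      change ((((p.re + p.im * P) - (p.re - p.im * P)) / 2 * P + (p.im * Q) * R)) / (-d) = p.im
      rw [div_eq_iff (neg_ne_zero.2 hd0)]
      have e : ((p.re + p.im * P) - (p.re - p.im * P)) / 2 = p.im * P := by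
        field_simp
        ring
      rw [e]
      linear_combination p.im * hdet
    let f0 : A → AlgebraicClosure F := fun x => φ (re x.1) + φ (im x.1) * ι
    have hf1 : f0 1 = 1 := by
      have h1 : (1 : Matrix.SpecialLinearGroup (Fin 2) F) = cm ⟨1, 0, by simp⟩ := by
        refine ext_ent ?_ ?_ ?_ ?_
        · change (1 : F) = 1 + 0 * P
          ring
        · change (0 : F) = 0 * Q
          ring
        · change (0 : F) = 0 * R
          ring
        · change (1 : F) = 1 - 0 * P
          ring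
      change φ (re 1) + φ (im 1) * ι = 1
      rw [h1, hre, him]
      simp
    have hfm : ∀ x y, f0 (x * y) = f0 x * f0 y := by
      rintro ⟨x, hx⟩ ⟨y, hy⟩
      obtain ⟨p, rfl⟩ := csurj x hx
      obtain ⟨q, rfl⟩ := csurj y hy
      have hp := p.eqn
      have hq := q.eqn
      let r : Conic F (-d) := ⟨p.re * q.re + (-d) * (p.im * q.im), p.re * q.im + p.im * q.re, by
        linear_combination (q.re ^ 2 - (-d) * q.im ^ 2) * hp + hq⟩
      have hr : cm p * cm q = cm r := by
        refine ext_ent ?_ ?_ ?_ ?_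
        · rw [ent_mul]
          change (p.re + p.im * P) * (q.re + q.im * P) + (p.im * Q) * (q.im * R) =
            (p.re * q.re + (-d) * (p.im * q.im)) + (p.re * q.im + p.im * q.re) * P
          linear_combination p.im * q.im * hdet
        · rw [ent_mul]
          change (p.re + p.im * P) * (q.im * Q) + (p.im * Q) * (q.re - q.im * P) =
            (p.re * q.im + p.im * q.re) * Q
          ring
        · rw [ent_mul]
          change (p.im * R) * (q.re + q.im * P) + (p.re - p.im * P) * (q.im * R) =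
            (p.re * q.im + p.im * q.re) * R
          ring
        · rw [ent_mul]
          change (p.im * R) * (q.im * Q) + (p.re - p.im * P) * (q.re - q.im * P) =
            (p.re * q.re + (-d) * (p.im * q.im)) - (p.re * q.im + p.im * q.re) * P
          linear_combination p.im * q.im * hdet
      change φ (re (cm p * cm q)) + φ (im (cm p * cm q)) * ι =
        (φ (re (cm p)) + φ (im (cm p)) * ι) * (φ (re (cm q)) + φ (im (cm q)) * ι)
      rw [hr, hre, him, hre, him, hre, him]
      change φ (p.re * q.re + (-d) * (p.im * q.im)) + φ (p.re * q.im + p.im * q.re) * ι = _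
      rw [map_add, map_add, map_mul, map_mul, map_mul, map_mul, map_mul]
      linear_combination -φ p.im * φ q.im * hι'
    let f : A →* AlgebraicClosure F := ⟨⟨f0, hf1⟩, hfm⟩
    refine isCyclic_of_injective_ringHom f ?_
    have hker : ∀ x, f x = 1 → x = 1 := by
      rintro ⟨x, hx⟩ hfx
      obtain ⟨p, rfl⟩ := csurj x hx
      change φ (re (cm p)) + φ (im (cm p)) * ι = 1 at hfx
      rw [hre, him] at hfx
      have h1 : φ p.re ^ 2 - φ (-d) * φ p.im ^ 2 = 1 := by
        rw [← map_pow, ← map_pow, ← map_mul, ← map_sub, p.eqn, map_one]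
      have h3 : φ p.re - φ p.im * ι = 1 := by
        have : (φ p.re + φ p.im * ι) * (φ p.re - φ p.im * ι) = 1 := by
          linear_combination h1 - φ p.im ^ 2 * hι'
        rwa [hfx, one_mul] at this
      have h4 : φ p.re = 1 := by
        have : (2 : AlgebraicClosure F) * φ p.re = 2 * 1 := by linear_combination hfx + h3
        exact mul_left_cancel₀ h2' this
      have h5 : φ p.im = 0 := by
        have : (2 : AlgebraicClosure F) * (φ p.im * ι) = 0 := by linear_combination hfx - h3
        rcases mul_eq_zero.1 this with h | h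
        · exact absurd h h2'
        · rcases mul_eq_zero.1 h with h | h
          · exact h
          · exact absurd h hι0
      have h6 : p.re = 1 := φ.injective (by rw [h4, map_one])
      have h7 : p.im = 0 := φ.injective (by rw [h5, map_zero])
      apply Subtype.ext
      change cm p = 1
      refine ext_ent ?_ ?_ ?_ ?_
      · change p.re + p.im * P = 1
        rw [h6, h7]; ring
      · change p.im * Q = 0
        rw [h7]; ring
      · change p.im * R = 0
        rw [h7]; ring
      · change p.re - p.im * P = 1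
        rw [h6, h7]; ring
    exact (injective_iff_map_eq_one f).2 hker
  -- passing to `L`
  have hnegA : ∀ x, x ∈ A → -x ∈ A := by
    intro x hx
    rw [hmemA] at hx ⊢
    rw [← neg_one_mul, map_mul, conjGL_neg_one, hx]
  refine ⟨A.map π, ?_, ?_, ?_, ?_⟩
  · exact isCyclic_of_surjective (π.subgroupMap A) (π.subgroupMap_surjective A)
  · rintro _ ⟨x, hx, rfl⟩
    rw [hg, (hmemA x).1 hx]
  · rintro _ ⟨x, hx, rfl⟩
    obtain ⟨p, rfl⟩ := csurj x hx
    rw [← map_inv, ← map_mul, ← map_mul, ← map_inv]
    congr 1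
    have hinv : (cm p)⁻¹ = cm ⟨p.re, -p.im, by rw [neg_sq, p.eqn]⟩ := by
      rw [ent_inv]
      refine ext_ent ?_ ?_ ?_ ?_
      · change p.re - p.im * P = p.re + -p.im * P
        ring
      · change -(p.im * Q) = -p.im * Q
        ring
      · change -(p.im * R) = -p.im * R
        ring
      · change p.re + p.im * P = p.re - -p.im * P
        ring
    rw [hinv, mul_inv_eq_iff_eq_mul]
    apply Subtype.ext
    change i.1 * (cm p).1 = (cm _).1 * i.1
    rw [cval, cval]
    simp only [Matrix.mul_add, Matrix.add_mul, Matrix.mul_smul, Matrix.smul_mul, Matrix.mul_one,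
      Matrix.one_mul, hgi]
    rw [smul_neg, neg_smul, neg_neg]
  · have hcard : Nat.card A = 2 * Nat.card (A.map π) := by
      have h3 := (π.subgroupMap A).ker.card_mul_index
      rw [Subgroup.index_ker, MonoidHom.range_eq_top.2 (π.subgroupMap_surjective A), Subgroup.card_top]
        at h3
      rw [← h3]
      congr 1
      have h1A : (1 : Matrix.SpecialLinearGroup (Fin 2) F) ∈ A := one_mem _
      have h1A' : (-1 : Matrix.SpecialLinearGroup (Fin 2) F) ∈ A := hnegA _ h1A
      have hne : (1 : Matrix.SpecialLinearGroup (Fin 2) F) ≠ -1 := by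
        intro h
        have h3 := congrArg (fun x => ent x 0 0) h
        have hn' : ent (-1 : Matrix.SpecialLinearGroup (Fin 2) F) 0 0 = -1 := rfl
        simp only [ent_one_00, hn'] at h3
        exact h2 (by linear_combination h3)
      rw [Nat.card_eq_two_iff]
      refine ⟨⟨⟨1, h1A⟩, ?_⟩, ⟨⟨-1, h1A'⟩, ?_⟩, ?_, ?_⟩
      · rw [MonoidHom.mem_ker]
        exact Subtype.ext (map_one π)
      · rw [MonoidHom.mem_ker]
        exact Subtype.ext ((hk _).2 (Or.inr rfl))
      · intro h
        exact hne (congrArg (fun x => x.1.1) h)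
      · ext ⟨⟨x, hx⟩, hx'⟩
        simp only [Set.mem_insert_iff, Set.mem_singleton_iff, Set.mem_univ, iff_true]
        rw [MonoidHom.mem_ker] at hx'
        have h4 : π x = 1 := congrArg Subtype.val hx'
        rcases (hk x).1 h4 with h | h
        · left; exact Subtype.ext (Subtype.ext h)
        · right; exact Subtype.ext (Subtype.ext h)
    rw [← hcard, hcardA]
    exact card_conic h2 hnsq

/-- **Summary.** `L ≃ PSL(2, F)`, `q = |F|` odd; `w` an involutory automorphism of `L` which is not
inner, fixes the involution `t` and fixes no four-group of `L` elementwise. Then `w` inverts the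
torus `T` of `t` and centralizes a cyclic group `B` of order `(q + ε) / 2` inverted by `t`,
`ε = ± 1`, `q ≡ ε` mod `4`. -/
theorem outer_main [Finite F] (h2 : (2 : F) ≠ 0)
    (e : L ≃* Matrix.ProjectiveSpecialLinearGroup (Fin 2) F) {w : MulAut L}
    (hw : ∀ x, w (w x) = x)
    (hno : ∀ a b : L, a ≠ 1 → b ≠ 1 → a ≠ b → a * a = 1 → b * b = 1 → a * b = b * a →
      w a = a → w b = b → False)
    {t : L} (ht1 : t ≠ 1) (ht : t * t = 1) (hwt : w t = t) (hni : ∀ c : L, ∃ x, w x ≠ c * x * c⁻¹)
    {T : Subgroup L} {m : ℕ} (hT : TorusAt t T m) :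
    (∀ x ∈ T, w x = x⁻¹) ∧
    ∃ B : Subgroup L, IsCyclic B ∧ (∀ x ∈ B, w x = x) ∧ (∀ x ∈ B, t * x * t⁻¹ = x⁻¹) ∧
      ((Nat.card F % 4 = 1 ∧ 2 * Nat.card B = Nat.card F + 1) ∨
        (Nat.card F % 4 = 3 ∧ 2 * Nat.card B = Nat.card F - 1)) := by
  obtain ⟨π, hπ, hk⟩ := exists_hom h2 e
  obtain ⟨g, hg⟩ := exists_gl_of_inv h2 π hπ hk hw hno
  refine ⟨inverts_torus_hom h2 π hπ hk hw hg ?_ hwt (hni _) hT,
    exists_outer_torus_hom h2 π hπ hk hw hg ht1 ht hwt hni⟩
  obtain ⟨x, hx⟩ := hni 1
  exact ⟨x, by simpa using hx⟩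

end torus

end Cfsg.Agent.Lib.PSL2Outer
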