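import Mathlib
import Cfsg.Prelude.Def_Local
import Cfsg.Agent.Lib.Cores
import Cfsg.Agent.FastGrp
import Cfsg.Agent.Prune
set_option linter.all false
prune_inst 0x7f00000000000000000000000000000000000000000000000000000000000000000000000000000000000000000000000000000000000000000000000000000000000000000000000000000000000000003fffffffffffffffffffffffffffbeffbdffffffff
open scoped Cfsg.Agent.FastGrp

/-!
# Light facts on `O_{p'}(C_G(a))`

Copy of the elementary section of `Cfsg.Agent.S1295` (which depends on `S0217`), without that import.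
-/

set_option autoImplicit false
open Cfsg

namespace Cfsg.Agent.Lib.CoreCent

section core

variable {G : Type*} [Group G] [Finite G] (p : ℕ) [hp : Fact p.Prime]

theorem core_le (a : G) : centralizerPPrimeCore p a ≤ Subgroup.centralizer ({a} : Set G) :=
  Subgroup.map_subtype_le _

theorem core_card (a : G) : ¬ p ∣ Nat.card (centralizerPPrimeCore p a) := by
  unfold centralizerPPrimeCore
  rw [Subgroup.card_map_of_injective (Subgroup.subtype_injective _)]
  exact (Nat.Prime.coprime_iff_not_dvd hp.out).1 (Lib.Cores.pPrimeCore_coprime p).symm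

/-- `O_{p'}(C_G(a))` contains every `p'`-subgroup of `C_G(a)` normalised by `C_G(a)`. -/
theorem le_core (a : G) {N : Subgroup G} (hN : N ≤ Subgroup.centralizer ({a} : Set G))
    (hnorm : Subgroup.centralizer ({a} : Set G) ≤ Subgroup.normalizer (N : Set G))
    (hcard : ¬ p ∣ Nat.card N) : N ≤ centralizerPPrimeCore p a := by
  have h1 : (N.subgroupOf (Subgroup.centralizer ({a} : Set G))).Normal :=
    (Subgroup.normal_subgroupOf_iff_le_normalizer hN).2 hnorm
  have h2 : N.subgroupOf (Subgroup.centralizer ({a} : Set G)) ≤
      pPrimeCore p (Subgroup.centralizer ({a} : Set G)) := by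
    refine Lib.Cores.le_pPrimeCore h1 ?_
    rw [Nat.card_congr (Subgroup.subgroupOfEquivOfLe hN).toEquiv]
    exact ((Nat.Prime.coprime_iff_not_dvd hp.out).2 hcard).symm
  have h3 := Subgroup.map_mono (f := (Subgroup.centralizer ({a} : Set G)).subtype) h2
  rwa [Subgroup.subgroupOf_map_subtype, inf_eq_left.2 hN] at h3

theorem core_normalized (a : G) :
    Subgroup.centralizer ({a} : Set G) ≤
      Subgroup.normalizer (centralizerPPrimeCore p a : Set G) := by
  have h1 : (centralizerPPrimeCore p a).subgroupOf (Subgroup.centralizer ({a} : Set G)) =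
      pPrimeCore p (Subgroup.centralizer ({a} : Set G)) := by
    unfold centralizerPPrimeCore
    rw [Subgroup.subgroupOf, Subgroup.comap_map_eq_self_of_injective
      (Subgroup.subtype_injective _)]
  refine (Subgroup.normal_subgroupOf_iff_le_normalizer (core_le p a)).1 ?_
  rw [h1]
  infer_instance

/-- if `g` carries `C_G(a)` onto `C_G(b)`, it carries `O_{p'}(C_G(a))` into `O_{p'}(C_G(b))` -/
theorem core_map_le (a b g : G)
    (h : (Subgroup.centralizer ({a} : Set G)).map (MulAut.conj g).toMonoidHom =
      Subgroup.centralizer ({b} : Set G)) :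
    (centralizerPPrimeCore p a).map (MulAut.conj g).toMonoidHom ≤ centralizerPPrimeCore p b := by
  refine le_core p b ?_ ?_ ?_
  · rw [← h]
    exact Subgroup.map_mono (core_le p a)
  · rw [← h]
    rintro _ ⟨c, hc, rfl⟩
    have hcn := core_normalized p a hc
    rw [Subgroup.mem_normalizer_iff] at hcn
    rw [Subgroup.mem_normalizer_iff]
    intro x
    constructor
    · rintro ⟨y, hy, rfl⟩
      refine ⟨c * y * c⁻¹, (hcn y).1 hy, ?_⟩
      simp [mul_assoc]
    · rintro ⟨y, hy, hyx⟩
      refine ⟨c⁻¹ * y * c, (hcn _).2 (by simpa [mul_assoc] using hy), ?_⟩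
      have hx : x = (MulAut.conj g).toMonoidHom c⁻¹ * (MulAut.conj g).toMonoidHom y *
          (MulAut.conj g).toMonoidHom c := by
        rw [hyx]
        simp [mul_assoc]
      rw [hx, map_mul, map_mul]
  · rw [Subgroup.card_map_of_injective (MulAut.conj g).injective]
    exact core_card p a

omit [Finite G] in
theorem centralizer_conj (a g : G) :
    (Subgroup.centralizer ({a} : Set G)).map (MulAut.conj g).toMonoidHom =
      Subgroup.centralizer ({g * a * g⁻¹} : Set G) := by
  ext x
  rw [Subgroup.mem_centralizer_singleton_iff]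
  constructor
  · rintro ⟨y, hy, rfl⟩
    have hy' : y * a = a * y := Subgroup.mem_centralizer_singleton_iff.1 hy
    have := congrArg (fun z => g * z * g⁻¹) hy'
    simpa [mul_assoc] using this
  · intro hx
    refine ⟨g⁻¹ * x * g, ?_, by simp [mul_assoc]⟩
    refine Subgroup.mem_centralizer_singleton_iff.2 ?_
    have := congrArg (fun z => g⁻¹ * z * g) hx
    simpa [mul_assoc] using this

theorem core_conj (a g : G) :
    centralizerPPrimeCore p (g * a * g⁻¹) =
      (centralizerPPrimeCore p a).map (MulAut.conj g).toMonoidHom := by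
  apply le_antisymm
  · have h1 := core_map_le p (g * a * g⁻¹) a g⁻¹ (by
      rw [centralizer_conj]; congr 2; group)
    intro x hx
    refine ⟨g⁻¹ * x * g, ?_, by simp [mul_assoc]⟩
    have := h1 ⟨x, hx, rfl⟩
    simpa [mul_assoc] using this
  · exact core_map_le p a (g * a * g⁻¹) g (centralizer_conj a g)

end core

end Cfsg.Agent.Lib.CoreCent
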