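import Cfsg.Agent.Lib.MatRng
import Cfsg.Agent.ChevalleyStructure.NineField
import Cfsg.Agent.Prune
set_option linter.all false
prune_inst 0x7f00000000000000000000000000000000000000000000000000000000000000000000000000000000000000000000000000000000000000000000000000000000000000000000000000000000000000003fffffffffffffffffffffffffffbeffbdffffffff

/-! Coordinates in the field `Cfsg.Agent.ChevalleyStructure.NineField.F9`, for the fast decision procedures on matrices. -/

set_option autoImplicit false

namespace Cfsg.Agent.Lib.MatRng

noncomputable scoped instance q9a : Q2 Cfsg.Agent.ChevalleyStructure.NineField.F9 :=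
  ⟨3, fun x => MatDec.mkZ 3 x.re.1, fun x => MatDec.mkZ 3 x.im.1, ⟨0, 1⟩,
    by decide +kernel, by decide +kernel, by decide +kernel, by decide +kernel⟩

end Cfsg.Agent.Lib.MatRng
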